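import Cfsg.Agent.Lib.Perm.Asch.SymType
import Cfsg.Agent.Lib.Coprime.Solvable

/-!
# Absolutely irreducible groups of symplectic type and exponent three in dimension three
-/

set_option autoImplicit false
set_option linter.all false

namespace CfsgLib.Perm.Trans.ThreeDim.Heis

open scoped Matrix
open Matrix Cfsg.Geo

/-- commutators are central -/
theorem commutator_central_of_exp_three {G : Type*} [Group G] [Finite G] (hG : IsPGroup 3 G)
    (hsymp : ∀ A : Subgroup G, A.Characteristic → IsMulCommutative A → IsCyclic A)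
    (h3 : ∀ g : G, g ^ 3 = 1) : commutator G ≤ Subgroup.center G := by
  haveI : Fact (Nat.Prime 3) := ⟨Nat.prime_three⟩
  by_contra hle
  -- the second centre
  set Z := Subgroup.center G with hZ
  let π := QuotientGroup.mk' Z
  let Z2 : Subgroup G := (Subgroup.center (G ⧸ Z)).comap π
  haveI : Z2.Characteristic := by
    have := Subgroup.Characteristic.comap_quotient_mk (H := Z) (K := Subgroup.center (G ⧸ Z)) Subgroup.centerCharacteristic
    exact this
  have hker : ∀ x ∈ Z2, ∀ c ∈ commutator G, c * x = x * c := by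
    intro x hx
    have hc : ∀ g : G, x * g * x⁻¹ * g⁻¹ ∈ Z := fun g => by
      rw [← QuotientGroup.eq_one_iff]
      have h := Subgroup.mem_center_iff.1 hx (π g)
      show π (x * g * x⁻¹ * g⁻¹) = 1
      rw [map_mul, map_mul, map_mul, map_inv, map_inv, ← h, mul_inv_cancel_right, mul_inv_cancel]
    let φ : G →* Z :=
      { toFun := fun g => ⟨x * g * x⁻¹ * g⁻¹, hc g⟩
        map_one' := Subtype.ext (by simp)
        map_mul' := fun g h => Subtype.ext (by
          show x * (g * h) * x⁻¹ * (g * h)⁻¹ = x * g * x⁻¹ * g⁻¹ * (x * h * x⁻¹ * h⁻¹)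
          calc x * (g * h) * x⁻¹ * (g * h)⁻¹ = x * g * x⁻¹ * (x * h * x⁻¹ * h⁻¹) * g⁻¹ := by group
            _ = _ := by
              rw [mul_assoc (x * g * x⁻¹), ← Subgroup.mem_center_iff.1 (hc h) g⁻¹, ← mul_assoc]) }
    intro c hcm
    have h1 : φ c = 1 := by
      letI : CommGroup Z := { (inferInstance : Group Z) with mul_comm := fun u v => Subtype.ext (Subgroup.mem_center_iff.1 v.2 u) }
      exact MonoidHom.mem_ker.1 (Abelianization.commutator_subset_ker φ hcm)
    have h2 : x * c * x⁻¹ * c⁻¹ = 1 := congrArg Subtype.val h1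
    rw [mul_inv_eq_one, mul_inv_eq_iff_eq_mul] at h2
    exact h2.symm
  set A := commutator G ⊓ Z2 with hA
  haveI : A.Characteristic := by
    rw [Subgroup.characteristic_iff_map_eq]
    intro ψ
    rw [hA, Subgroup.map_inf_eq _ _ _ ψ.injective, Subgroup.characteristic_iff_map_eq.1 inferInstance ψ,
      Subgroup.characteristic_iff_map_eq.1 inferInstance ψ]
  have hcyc : IsCyclic A := hsymp A inferInstance ⟨⟨fun a b => Subtype.ext (hker _ b.2.2 _ a.2.1)⟩⟩
  -- a noncentral element
  have hN : ((commutator G).map π).Normal := Subgroup.Normal.map inferInstance _ (QuotientGroup.mk'_surjective Z)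
  obtain ⟨y, hy, hy1⟩ : ∃ y ∈ (commutator G).map π ⊓ Subgroup.center (G ⧸ Z), y ≠ 1 := by
    by_contra hno
    push Not at hno
    haveI := hN
    have hne : Nontrivial ((commutator G).map π) := by
      rw [Subgroup.nontrivial_iff_ne_bot, Ne, Subgroup.map_eq_bot_iff, QuotientGroup.ker_mk']
      exact hle
    haveI := (hG.to_quotient Z).isNilpotent
    exact CfsgLib.Coprime.nilpotent_inf_center_ne_bot _ ((Subgroup.nontrivial_iff_ne_bot _).1 hne)
      ((Subgroup.eq_bot_iff_forall _).2 hno)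
  obtain ⟨x, hx, rfl⟩ := hy.1
  have hxA : x ∈ A := ⟨hx, hy.2⟩
  have hxZ : x ∉ Z := fun h => hy1 ((QuotientGroup.eq_one_iff x).2 h)
  -- a central element
  obtain ⟨z, hz, hz1⟩ : ∃ z ∈ commutator G ⊓ Z, z ≠ 1 := by
    by_contra hno
    push Not at hno
    have hne : Nontrivial (commutator G) := by
      rw [Subgroup.nontrivial_iff_ne_bot]
      exact fun e => hle (e ▸ bot_le)
    haveI := hG.isNilpotent
    exact CfsgLib.Coprime.nilpotent_inf_center_ne_bot _ ((Subgroup.nontrivial_iff_ne_bot _).1 hne)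
      ((Subgroup.eq_bot_iff_forall _).2 hno)
  have hzA : z ∈ A := ⟨hz.1, Subgroup.mem_comap.2 (by
    rw [show π z = 1 from (QuotientGroup.eq_one_iff z).2 hz.2]; exact one_mem _)⟩
  haveI := hcyc
  obtain ⟨g, hg⟩ := IsCyclic.exists_generator (α := A)
  obtain ⟨a, ha⟩ := (mem_powers_iff_mem_zpowers).2 (hg ⟨z, hzA⟩)
  obtain ⟨b, hb⟩ := (mem_powers_iff_mem_zpowers).2 (hg ⟨x, hxA⟩)
  simp only at ha hb
  have hg3 : g ^ 3 = 1 := Subtype.ext (by rw [SubgroupClass.coe_pow]; exact h3 _)
  have ha3 : a % 3 ≠ 0 := fun h => hz1 (by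
    have := congrArg Subtype.val ha
    rw [pow_eq_pow_mod a hg3, h, pow_zero] at this
    exact this.symm)
  -- the generator is a power of `z`
  have hgz : (g : G) ∈ Z := by
    have : g = (⟨z, hzA⟩ : A) ^ (a % 3) := by
      rw [← ha, ← pow_mul, pow_eq_pow_mod (a * (a % 3)) hg3]
      have : a * (a % 3) % 3 = 1 := by
        have := Nat.mod_lt a (show 3 > 0 by norm_num)
        rw [Nat.mul_mod, Nat.mod_mod]
        interval_cases a % 3 <;> simp_all
      rw [this, pow_one]
    rw [this, SubgroupClass.coe_pow]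
    exact pow_mem hz.2 _
  exact hxZ (by
    have := congrArg Subtype.val hb
    rw [SubgroupClass.coe_pow] at this
    rw [show x = (g : G) ^ b from this.symm]
    exact pow_mem hgz _)

variable {F : Type*} [Field F]

/-- the order is twenty-seven -/
theorem card_eq_twenty_seven {R : Subgroup (GL (Fin 3) F)} (hsymp : IsSymplecticTypeGroup 3 R)
    (habs : ActsAbsolutelyIrreducibly (matrixSet R)) (hZ : Nat.card (Subgroup.center R) = 3)
    (hm : ∃ m : ℕ, 1 ≤ m ∧ Nat.card R = 3 ^ (1 + 2 * m)) : Nat.card R = 27 := by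
  classical
  obtain ⟨m, hm1, hR⟩ := hm
  haveI : Finite R := Nat.finite_of_card_ne_zero (by rw [hR]; positivity)
  have h3 : ∀ g : R, g ^ 3 = 1 := fun g => by
    have := Monoid.pow_exponent_eq_one g
    rwa [hsymp.exponent_eq, show 3 * Nat.gcd 2 3 = 3 by rfl] at this
  have hcen := commutator_central_of_exp_three hsymp.pGroup hsymp.cyclic_of_characteristic h3
  have hscal : ∀ z : R, z ∈ Subgroup.center R →
      ∃ c : F, ((z : GL (Fin 3) F) : Matrix (Fin 3) (Fin 3) F) = c • 1 := fun z hz => habs.2 _ (by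
    rintro _ ⟨y, hy, rfl⟩
    have := congrArg (fun w : R => ((w : GL (Fin 3) F) : Matrix (Fin 3) (Fin 3) F)) (Subgroup.mem_center_iff.1 hz ⟨y, hy⟩)
    simpa using this.symm)
  let v : R ⧸ Subgroup.center R → Matrix (Fin 3) (Fin 3) F := fun q => ((q.out : GL (Fin 3) F) : Matrix (Fin 3) (Fin 3) F)
  have hex : ∀ (x : R) (j : R ⧸ Subgroup.center R), ∃ c : F,
      (((x * j.out * x⁻¹ * j.out⁻¹ : R) : GL (Fin 3) F) : Matrix (Fin 3) (Fin 3) F) = c • 1 := fun x j => hscal _ (hcen (by
      rw [commutator_def, ← commutatorElement_def]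
      exact Subgroup.commutator_mem_commutator (Subgroup.mem_top _) (Subgroup.mem_top _)))
  choose l hl using hex
  let T : R → Matrix (Fin 3) (Fin 3) F →ₗ[F] Matrix (Fin 3) (Fin 3) F := fun x =>
    (LinearMap.mulLeft F ((x : GL (Fin 3) F) : Matrix (Fin 3) (Fin 3) F)) ∘ₗ
      (LinearMap.mulRight F (((x : GL (Fin 3) F)⁻¹ : GL (Fin 3) F) : Matrix (Fin 3) (Fin 3) F))
  have he : ∀ x j, T x (v j) = l x j • v j := fun x j => by
    show ((x : GL (Fin 3) F) : Matrix (Fin 3) (Fin 3) F) * (((j.out : R) : GL (Fin 3) F) * (((x : GL (Fin 3) F)⁻¹ : GL (Fin 3) F) : Matrix (Fin 3) (Fin 3) F)) = _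
    have h := congrArg (fun A => A * (((j.out : R) : GL (Fin 3) F) : Matrix (Fin 3) (Fin 3) F)) (hl x j)
    simp only [Subgroup.coe_mul, Subgroup.coe_inv, Units.val_mul, mul_assoc, Units.inv_mul, mul_one, Matrix.smul_mul,
      one_mul] at h
    exact h
  have hind : LinearIndependent F v := CfsgLib.Perm.Asch.indep_of_eigen v (fun j e => by
      have := congrArg (fun A => A * ((((j.out : R) : GL (Fin 3) F)⁻¹ : GL (Fin 3) F) : Matrix (Fin 3) (Fin 3) F)) e
      simp only [v, Units.mul_inv, zero_mul] at this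
      exact one_ne_zero this) T l he fun j k hjk => by
    by_contra hcon
    push Not at hcon
    refine hjk ?_
    rw [← QuotientGroup.out_eq' j, ← QuotientGroup.out_eq' k, QuotientGroup.eq, Subgroup.mem_center_iff]
    intro x
    have heq : x * j.out * x⁻¹ * j.out⁻¹ = x * k.out * x⁻¹ * k.out⁻¹ := Subtype.ext (Units.ext (by
      rw [hl, hl, hcon]))
    have e : x * (j.out⁻¹ * k.out) * x⁻¹ = j.out⁻¹ * k.out := by
      calc x * (j.out⁻¹ * k.out) * x⁻¹ = (x * j.out * x⁻¹)⁻¹ * (x * k.out * x⁻¹) := by group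
        _ = ((x * j.out * x⁻¹ * j.out⁻¹) * j.out)⁻¹ * ((x * k.out * x⁻¹ * k.out⁻¹) * k.out) := by group
        _ = _ := by rw [heq]; group
    exact mul_inv_eq_iff_eq_mul.1 e
  haveI : Fintype (R ⧸ Subgroup.center R) := Fintype.ofFinite _
  have hle := hind.fintype_card_le_finrank
  rw [Module.finrank_matrix, Module.finrank_self, Fintype.card_fin] at hle
  have hcq := Nat.card_eq_fintype_card (α := R ⧸ Subgroup.center R)
  have hcardR := Subgroup.card_eq_card_quotient_mul_card_subgroup (Subgroup.center R)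
  rw [hZ, hR] at hcardR
  rcases Nat.lt_or_ge m 2 with h | h
  · obtain rfl : m = 1 := by omega
    rw [hR]; norm_num
  · have : 3 ^ 5 ≤ 3 ^ (1 + 2 * m) := Nat.pow_le_pow_right (by norm_num) (by omega)
    norm_num at this hle
    omega

/-- the group is not commutative -/
theorem not_comm_of_card {R : Subgroup (GL (Fin 3) F)} (hR : Nat.card R = 27)
    (hZ : Nat.card (Subgroup.center R) = 3) : ¬ IsMulCommutative R := fun h => by
  have htop : Subgroup.center R = ⊤ :=
    eq_top_iff.2 fun a _ => Subgroup.mem_center_iff.2 fun b => h.is_comm.comm b a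
  rw [htop, Nat.card_congr Subgroup.topEquiv.toEquiv, hR] at hZ
  norm_num at hZ

end CfsgLib.Perm.Trans.ThreeDim.Heis
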