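import Cfsg.Agent.Lib.Perm.Trans.ThreeDim.HeisCore
import Cfsg.Agent.Lib.Perm.Trans.ThreeDim.HeisData

/-!
# The normalizer of `3^{1+2}` is maximal in `SL₃(p)` for `p ≡ 1 mod 3`
-/

set_option autoImplicit false
set_option linter.all false

namespace CfsgLib.Perm.Trans.ThreeDim.Heis

open scoped Matrix
open Matrix Cfsg.Geo CfsgLib.Perm.Trans CfsgLib.Perm.Asch

theorem isMaximalIn_map {G : Type*} [Group G] (e : G ≃* G) {K H : Subgroup G} (h : IsMaximalIn K H) :
    IsMaximalIn (K.map e.toMonoidHom) (H.map e.toMonoidHom) := by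
  refine ⟨(Subgroup.map_lt_map_iff_of_injective (f := e.toMonoidHom) e.injective).2 h.1, fun M hHM hMK => ?_⟩
  rcases h.2 (M.comap e.toMonoidHom) (Subgroup.map_le_iff_le_comap.1 hHM) (fun x hx => by
      obtain ⟨y, hy, hyx⟩ := hMK hx
      obtain rfl : y = x := e.injective hyx
      exact hy) with h' | h'
  · left
    rw [← h', Subgroup.map_comap_eq_self_of_surjective e.surjective]
  · right
    rw [← h', Subgroup.map_comap_eq_self_of_surjective e.surjective]

theorem map_conj_eq_self {G : Type*} [Group G] {K : Subgroup G} {P : G}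
    (hP : ∀ x, x ∈ K → P * x * P⁻¹ ∈ K) (hP' : ∀ x, x ∈ K → P⁻¹ * x * P ∈ K) :
    K.map (MulAut.conj P).toMonoidHom = K := by
  ext x
  constructor
  · rintro ⟨y, hy, rfl⟩
    exact hP y hy
  · intro hx
    exact ⟨P⁻¹ * x * P, hP' x hx, by simp [mul_assoc]⟩

variable {F : Type*} [Field F] [Fintype F]

theorem mem_SL_iff {g : GL (Fin 3) F} :
    g ∈ specialLinear (Fin 3) F ↔ (g : Matrix (Fin 3) (Fin 3) F).det = 1 := by
  show Matrix.GeneralLinearGroup.det g = 1 ↔ _
  rw [Units.ext_iff, Matrix.GeneralLinearGroup.val_det_apply, Units.val_one]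

theorem natCast_surjective_of_card {p : ℕ} (hp : p.Prime) (hcard : Fintype.card F = p) (x : F) :
    ∃ k : ℕ, x = (k : F) := by
  haveI : Fact p.Prime := ⟨hp⟩
  let e := ZMod.ringEquivOfPrime F hp hcard
  refine ⟨(e.symm x).val, ?_⟩
  conv_lhs => rw [← e.apply_symm_apply x, ← ZMod.natCast_zmod_val (e.symm x), map_natCast]

/-- overgroups of `⟨D, S, Φ⟩` normalise `⟨D, S⟩` or are everything -/
theorem sl_dichotomy (ω : Root F) {p : ℕ} (hp : p.Prime) (hcard : Fintype.card F = p) (hp7 : 7 ≤ p)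
    {M : Subgroup (GL (Fin 3) F)} (hR : gR ω ≤ M) (hPhi : ∀ k, gPhi ω k ∈ M) (hMSL : M ≤ specialLinear (Fin 3) F) :
    M ≤ Subgroup.normalizer (gR ω : Set (GL (Fin 3) F)) ∨ M = specialLinear (Fin 3) F := by
  haveI : Fact p.Prime := ⟨hp⟩
  haveI : CharP F p := charP_of_card_eq_prime hcard
  have hsurj := natCast_surjective_of_card hp hcard
  rcases has_or_normalizes ω hp7 (fun g hg => mem_SL_iff.1 (hMSL hg)) hR hPhi
      (fun u _ v _ β γ _ _ _ => hsurj β) with h | ⟨x, ψ, hx, hx0, hψ0⟩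
  · exact Or.inl h
  · right
    have hax : ψ ∈ axes M x := by
      intro c
      obtain ⟨k, rfl⟩ := hsurj c
      induction k with
      | zero => rw [Nat.cast_zero, zero_smul]; exact has_zero_right x
      | succ k ih => rw [Nat.cast_succ, add_smul, one_smul]; exact ih.add_right hx
    exact eq_SL_of_fullSub hMSL (fullSub_eq_top (fun W hW => irreducible_of_gR_le ω hR W hW)
      (eq_scalar_of_orth ω hR hPhi hx0 hψ0 hax) hx0 hψ0 hax)

/-- the frame case -/
theorem sl_frame_maximal (ω : Root F) {p : ℕ} (hp : p.Prime) (hcard : Fintype.card F = p) (hp7 : 7 ≤ p) :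
    IsMaximalIn (specialLinear (Fin 3) F)
      (Subgroup.normalizer (gR ω : Set (GL (Fin 3) F)) ⊓ specialLinear (Fin 3) F) := by
  haveI : Fact p.Prime := ⟨hp⟩
  haveI : CharP F p := charP_of_card_eq_prime hcard
  refine ⟨lt_of_le_of_ne inf_le_right fun e => ?_, fun M hHM hMSL => ?_⟩
  · obtain ⟨a, ha⟩ := IsCyclic.exists_ofOrder_eq_natCard (α := Fˣ)
    rw [Nat.card_units, Nat.card_eq_fintype_card, hcard] at ha
    obtain ⟨g, hg⟩ : ∃ g : GL (Fin 3) F,
        (g : Matrix (Fin 3) (Fin 3) F) = Matrix.diagonal ![(a : F), ((a⁻¹ : Fˣ) : F), 1] :=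
      ⟨Matrix.GeneralLinearGroup.mkOfDetNeZero (Matrix.diagonal ![(a : F), ((a⁻¹ : Fˣ) : F), 1]) (by
        rw [Matrix.det_diagonal, Fin.prod_univ_three]; simp), rfl⟩
    refine diag_not_mem_normalizer ω hg (fun h => ?_) (e.ge (mem_SL_iff.2 ?_)).1
    · have := Nat.le_of_dvd (by norm_num) (orderOf_dvd_of_pow_eq_one h)
      omega
    · rw [hg, Matrix.det_diagonal, Fin.prod_univ_three]; simp
  · have hR : gR ω ≤ M := by
      refine le_trans (le_inf Subgroup.le_normalizer ?_) hHM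
      rw [gR, Subgroup.closure_le]
      rintro _ (rfl | rfl)
      · exact mem_SL_iff.2 (by rw [val_gD, det_dm, ← mul_assoc, ω.cube])
      · exact mem_SL_iff.2 (by rw [val_gS, det_sm])
    have hPhi : ∀ k, gPhi ω k ∈ M := fun k =>
      hHM ⟨gPhi_mem_normalizer ω k, mem_SL_iff.2 (det_phim ω (ω.pow_cube k))⟩
    exact (sl_dichotomy ω hp hcard hp7 hR hPhi hMSL).imp (fun h => le_antisymm (le_inf h hMSL) hHM) id

/-- The clause of class six for `SL₃`. -/
theorem sl3_symplectic_maximal {p : ℕ} {R : Subgroup (GL (Fin 3) F)} (hp : p.Prime) (hcard : Fintype.card F = p)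
    (hp3 : p % 3 = 1) (hdata : IsLinearSymplecticTypeData 3 R) :
    IsMaximalIn (specialLinear (Fin 3) F) (subgroupNormalizer R ⊓ specialLinear (Fin 3) F) := by
  haveI : Fact p.Prime := ⟨hp⟩
  haveI : CharP F p := charP_of_card_eq_prime hcard
  have hp7 : 7 ≤ p := by
    have h2 := hp.two_le
    by_contra h
    interval_cases p <;> first | omega | norm_num at hp
  obtain ⟨hsymp, habs, q, e, -, -, hcases⟩ := hdata
  obtain ⟨hZ, hm⟩ : Nat.card (Subgroup.center R) = 3 ∧ ∃ m : ℕ, 1 ≤ m ∧ Nat.card R = 3 ^ (1 + 2 * m) := by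
    rcases hcases with ⟨-, -, hZ, hm⟩ | ⟨h, -⟩ | ⟨h, -⟩
    · exact ⟨hZ, hm⟩
    · omega
    · omega
  have h27 := card_eq_twenty_seven hsymp habs hZ hm
  obtain ⟨om, hom⟩ : ∃ om : F, om * om + om + 1 = 0 := by
    have h : 3 ∣ Nat.card Fˣ := by
      rw [Nat.card_units, Nat.card_eq_fintype_card, hcard]; omega
    haveI : Fact (Nat.Prime 3) := ⟨Nat.prime_three⟩
    obtain ⟨u, hu⟩ := exists_prime_orderOf_dvd_card' 3 h
    have h1 : (u : F) ≠ 1 := fun e' => by
      rw [show u = 1 from Units.ext e', orderOf_one] at hu; omega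
    have h3 : (u : F) * u * u = 1 := by
      have := congrArg Units.val (hu ▸ pow_orderOf_eq_one u)
      simpa [pow_succ] using this
    exact ⟨u, (mul_eq_zero.1 (show ((u : F) - 1) * ((u : F) * u + u + 1) = 0 by linear_combination h3)).resolve_left
      (sub_ne_zero.2 h1)⟩
  have h3F : (3 : F) ≠ 0 := fun h => by
    have := (CharP.cast_eq_zero_iff F p 3).1 (by exact_mod_cast h)
    have := Nat.le_of_dvd (by norm_num) this
    omega
  obtain ⟨μ, hμ, P, D, S, hD, hS, -, -, hgen, -⟩ := CfsgLib.Perm.Elusive.exists_frame R h27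
    (by rw [hsymp.exponent_eq]; rfl) (not_comm_of_card h27 hZ) h3F hom
  let ω : Root F := ⟨μ, hμ, h3F⟩
  have hR : R = (gR ω).map (MulAut.conj P).toMonoidHom := by
    rw [hgen, gR, MonoidHom.map_closure, Set.image_pair,
      show gD ω = D from Units.ext hD.symm, show (gS : GL (Fin 3) F) = S from Units.ext hS.symm]
    rfl
  have hSL : ∀ (P x : GL (Fin 3) F), x ∈ specialLinear (Fin 3) F → P * x * P⁻¹ ∈ specialLinear (Fin 3) F :=
    fun P x hx => (inferInstance : (MonoidHom.ker (Matrix.GeneralLinearGroup.det : GL (Fin 3) F →* Fˣ)).Normal).conj_mem x hx P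
  have h := isMaximalIn_map (MulAut.conj P) (sl_frame_maximal ω hp hcard hp7)
  rw [Subgroup.map_inf_eq _ _ _ (MulAut.conj P).injective, Subgroup.map_equiv_normalizer_eq,
    map_conj_eq_self (hSL P) (fun x hx => by simpa using hSL P⁻¹ x hx), ← hR] at h
  exact h

end CfsgLib.Perm.Trans.ThreeDim.Heis
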