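import Cfsg.Agent.Lib.Perm.Trans.Basic

/-!
# Transvection groups on lines and at points in dimension three

Sizes of the groups of transvections with a given axis, with a given centre, and with both given,
and the passage to the contragredient group.
-/

set_option autoImplicit false
set_option linter.all false

namespace CfsgLib.Perm.Trans.ThreeDim.SingTv

open scoped Classical Matrix
open Matrix Cfsg.Geo CfsgLib.Perm.Asch CfsgLib.Perm.Trans

/-- a group acting freely -/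
theorem free_dvd {G α : Type*} [Group G] [Finite α] (f : G → α → α) (h1 : ∀ x, f 1 x = x)
    (hm : ∀ g h x, f (g * h) x = f g (f h x)) (hfree : ∀ g x, f g x = x → g = 1) : Nat.card G ∣ Nat.card α := by
  letI act : MulAction G α := { smul := f, one_smul := h1, mul_smul := hm }
  let e : Quotient (MulAction.orbitRel G α) × G → α := fun x => x.2 • x.1.out
  have he : Function.Bijective e := by
    refine ⟨?_, fun a => ?_⟩
    · rintro ⟨w, g⟩ ⟨w', g'⟩ hgw
      change g • w.out = g' • w'.out at hgw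
      have hw : w = w' := by
        rw [← Quotient.out_eq w, ← Quotient.out_eq w']
        exact Quotient.sound ⟨g⁻¹ * g', by
          show (g⁻¹ * g') • w'.out = w.out
          rw [mul_smul, ← hgw, inv_smul_smul]⟩
      subst hw
      have := hfree (g⁻¹ * g') w.out (show (g⁻¹ * g') • w.out = w.out by rw [mul_smul, ← hgw, inv_smul_smul])
      rw [inv_mul_eq_one] at this
      rw [this]
    · obtain ⟨g, hg⟩ : (Quotient.mk (MulAction.orbitRel G α) a).out ∈ MulAction.orbit G a :=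
        MulAction.orbitRel_apply.1 (Quotient.mk_out a)
      refine ⟨(Quotient.mk _ a, g⁻¹), ?_⟩
      show g⁻¹ • _ = a
      rw [← hg]
      exact inv_smul_smul g a
  rw [← Nat.card_eq_of_bijective e he, Nat.card_prod]
  exact dvd_mul_left _ _

theorem free_dvd_finset {G α : Type*} [Group G] (s : Finset α) (f : G → α → α) (hs : ∀ g, ∀ x ∈ s, f g x ∈ s)
    (h1 : ∀ x, f 1 x = x) (hm : ∀ g h x, f (g * h) x = f g (f h x)) (hfree : ∀ g, ∀ x ∈ s, f g x = x → g = 1) :
    Nat.card G ∣ s.card := by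
  rw [← Fintype.card_coe, ← Nat.card_eq_fintype_card]
  exact free_dvd (fun g (x : s) => (⟨f g x.1, hs g x.1 x.2⟩ : s)) (fun x => Subtype.ext (h1 _))
    (fun g h x => Subtype.ext (hm g h _)) fun g x h => hfree g x.1 x.2 (congrArg Subtype.val h)

variable {F : Type*} [Field F] {M : Subgroup (GL (Fin 3) F)}

/-- a centre -/
def Cen (M : Subgroup (GL (Fin 3) F)) (u : Fin 3 → F) : Prop := u ≠ 0 ∧ ∃ ψ : Fin 3 → F, ψ ≠ 0 ∧ Has M u ψ

/-- the multiples of `u` which are centres for `ψ` -/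
def hsub (M : Subgroup (GL (Fin 3) F)) (u ψ : Fin 3 → F) : AddSubgroup F where
  carrier := {a | Has M (a • u) ψ}
  zero_mem' := by show Has M ((0 : F) • u) ψ; rw [zero_smul]; exact has_zero_left ψ
  add_mem' := fun {a b} ha hb => by show Has M ((a + b) • u) ψ; rw [add_smul]; exact ha.add_left hb
  neg_mem' := fun {a} ha => by
    show Has M ((-a) • u) ψ
    rw [neg_smul, ← neg_one_smul F (a • u), has_smul_iff, neg_one_smul]
    exact ha.neg

/-- the centres for `ψ` -/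
def axg (M : Subgroup (GL (Fin 3) F)) (ψ : Fin 3 → F) : AddSubgroup (Fin 3 → F) where
  carrier := {v | Has M v ψ}
  zero_mem' := has_zero_left ψ
  add_mem' := fun {a b} ha hb => ha.add_left hb
  neg_mem' := fun {a} ha => by
    show Has M (-a) ψ
    rw [← neg_one_smul F a, has_smul_iff, neg_one_smul]
    exact ha.neg

/-- the functionals at `u` -/
def cng (M : Subgroup (GL (Fin 3) F)) (u : Fin 3 → F) : AddSubgroup (Fin 3 → F) where
  carrier := {φ | Has M u φ}
  zero_mem' := has_zero_right u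
  add_mem' := fun {a b} ha hb => ha.add_right hb
  neg_mem' := fun {a} ha => ha.neg

theorem mem_hsub {u ψ : Fin 3 → F} {a : F} : a ∈ hsub M u ψ ↔ Has M (a • u) ψ := Iff.rfl
theorem mem_axg {v ψ : Fin 3 → F} : v ∈ axg M ψ ↔ Has M v ψ := Iff.rfl
theorem mem_cng {u φ : Fin 3 → F} : φ ∈ cng M u ↔ Has M u φ := Iff.rfl

theorem has_scale_both {u ψ : Fin 3 → F} (h : Has M u ψ) {c : F} (hc : c ≠ 0) : Has M (c • u) (c⁻¹ • ψ) := by
  rw [has_smul_iff, smul_smul, mul_inv_cancel₀ hc, one_smul]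
  exact h

theorem Cen.smul {u : Fin 3 → F} (h : Cen M u) {c : F} (hc : c ≠ 0) : Cen M (c • u) := by
  obtain ⟨hu, ψ, hψ, hh⟩ := h
  exact ⟨smul_ne_zero hc hu, c⁻¹ • ψ, smul_ne_zero (inv_ne_zero hc) hψ, has_scale_both hh hc⟩

theorem Cen.conj {u : Fin 3 → F} (h : Cen M u) {g : GL (Fin 3) F} (hg : g ∈ M) :
    Cen M ((g : Matrix (Fin 3) (Fin 3) F) *ᵥ u) := by
  obtain ⟨hu, ψ, hψ, hh⟩ := h
  refine ⟨fun e => hu (gl_mulVec_eq_zero.1 e), _, fun e => hψ ?_, hh.conj hg⟩
  have := congrArg (fun v => v ᵥ* (g : Matrix (Fin 3) (Fin 3) F)) e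
  simpa only [vecMul_vecMul, Units.inv_mul, vecMul_one, zero_vecMul] using this

/-- the kernel of a non-zero functional -/
def fnl (ψ : Fin 3 → F) : (Fin 3 → F) →ₗ[F] F where
  toFun v := ψ ⬝ᵥ v
  map_add' a b := dotProduct_add ψ a b
  map_smul' c a := dotProduct_smul c ψ a

theorem finrank_ker_fnl {ψ : Fin 3 → F} (hψ : ψ ≠ 0) : Module.finrank F (LinearMap.ker (fnl ψ)) = 2 := by
  have hne : fnl ψ ≠ 0 := fun e => hψ (funext fun i => by
    have := LinearMap.congr_fun e (Pi.single i 1)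
    simpa [fnl] using this)
  have h2 := LinearMap.finrank_range_add_finrank_ker (fnl ψ)
  rw [Module.finrank_fin_fun, LinearMap.range_eq_top.2 (LinearMap.surjective hne), finrank_top, Module.finrank_self] at h2
  omega

/-- two functionals on one plane are proportional -/
theorem prop_of_vanish {u w φ ψ : Fin 3 → F} (hψ : ψ ≠ 0) (hli : LinearIndependent F ![u, w]) (h1 : φ ⬝ᵥ u = 0)
    (h2 : φ ⬝ᵥ w = 0) (h3 : ψ ⬝ᵥ u = 0) (h4 : ψ ⬝ᵥ w = 0) : ∃ c : F, φ = c • ψ := by
  have hsp : ∀ χ : Fin 3 → F, χ ⬝ᵥ u = 0 → χ ⬝ᵥ w = 0 → Submodule.span F (Set.range ![u, w]) ≤ LinearMap.ker (fnl χ) := by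
    intro χ a b
    rw [Submodule.span_le]
    rintro _ ⟨i, rfl⟩
    fin_cases i
    · exact a
    · exact b
  have heq : Submodule.span F (Set.range ![u, w]) = LinearMap.ker (fnl ψ) :=
    Submodule.eq_of_le_of_finrank_eq (hsp ψ h3 h4) (by
      rw [finrank_span_eq_card hli, finrank_ker_fnl hψ, Fintype.card_fin])
  obtain ⟨k, hk⟩ := Function.ne_iff.1 hψ
  refine ⟨φ k / ψ k, funext fun i => ?_⟩
  have hy : (Pi.single i 1 - (ψ i / ψ k) • Pi.single k 1 : Fin 3 → F) ∈ LinearMap.ker (fnl φ) :=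
    (heq ▸ hsp φ h1 h2) (by
      rw [LinearMap.mem_ker]
      show ψ ⬝ᵥ _ = 0
      rw [dotProduct_sub, dotProduct_smul, dotProduct_single, dotProduct_single, mul_one, mul_one, smul_eq_mul,
        div_mul_cancel₀ _ (by simpa using hk), sub_self])
  replace hy : φ ⬝ᵥ (Pi.single i 1 - (ψ i / ψ k) • Pi.single k 1 : Fin 3 → F) = 0 := LinearMap.mem_ker.1 hy
  rw [dotProduct_sub, dotProduct_smul, dotProduct_single, dotProduct_single, mul_one, mul_one, smul_eq_mul, sub_eq_zero] at hy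
  rw [hy, Pi.smul_apply, smul_eq_mul]
  ring

/-- an axis through a centre is an axis of that centre -/
theorem extend {u w ψ : Fin 3 → F} (hu : Cen M u) (hψ : ψ ≠ 0) (hw : w ≠ 0) (h : Has M w ψ) (hψu : ψ ⬝ᵥ u = 0) :
    ∃ a : F, a ≠ 0 ∧ Has M (a • u) ψ := by
  obtain ⟨hu0, φ, hφ, hh⟩ := hu
  by_cases hφw : φ ⬝ᵥ w = 0
  swap
  · exact ⟨_, hφw, (has_smul_iff u ψ).2 (hh.comm h hψu)⟩
  by_cases hli : LinearIndependent F ![u, w]
  · obtain ⟨c, rfl⟩ := prop_of_vanish hψ hli hh.orth hφw hψu h.orth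
    exact ⟨c, fun e => hφ (by rw [e, zero_smul]), (has_smul_iff u ψ).2 hh⟩
  · rw [LinearIndependent.pair_iff' hu0] at hli
    push Not at hli
    obtain ⟨c, rfl⟩ := hli
    exact ⟨c, fun e => hw (by rw [e, zero_smul]), h⟩

variable [Fintype F]

theorem card_hsub_smul (u ψ : Fin 3 → F) {c : F} (hc : c ≠ 0) :
    Nat.card (hsub M (c • u) ψ) = Nat.card (hsub M u ψ) :=
  Nat.card_congr
    { toFun := fun a => ⟨a.1 * c, by rw [mem_hsub, mul_smul]; exact a.2⟩
      invFun := fun a => ⟨a.1 * c⁻¹, by rw [mem_hsub, smul_smul, mul_assoc, inv_mul_cancel₀ hc, mul_one]; exact a.2⟩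
      left_inv := fun a => Subtype.ext (by simp [mul_assoc, mul_inv_cancel₀ hc])
      right_inv := fun a => Subtype.ext (by simp [mul_assoc, inv_mul_cancel₀ hc]) }

/-- comparison along an axis -/
theorem hsub_le {u w ψ φ : Fin 3 → F} (hh : Has M u φ) (hφw : φ ⬝ᵥ w ≠ 0) (hψu : ψ ⬝ᵥ u = 0) :
    Nat.card (hsub M w ψ) ≤ Nat.card (hsub M u ψ) := by
  refine Nat.card_le_card_of_injective (fun a => ⟨a.1 * (φ ⬝ᵥ w), ?_⟩) fun a b h => Subtype.ext ?_
  · have h1 := hh.comm (mem_hsub.1 a.2) hψu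
    rw [dotProduct_smul, smul_eq_mul] at h1
    exact (has_smul_iff u ψ).2 h1
  · exact mul_right_cancel₀ hφw (congrArg Subtype.val h)

/-- the multiples among the functionals at a centre -/
theorem hsub_le_cng (u : Fin 3 → F) {ψ : Fin 3 → F} (hψ : ψ ≠ 0) :
    Nat.card (hsub M u ψ) ≤ Nat.card (cng M u) ∧
      ((∀ φ ∈ cng M u, ∃ c : F, φ = c • ψ) → Nat.card (hsub M u ψ) = Nat.card (cng M u)) ∧
      ((∃ φ ∈ cng M u, ∀ c : F, φ ≠ c • ψ) → Nat.card (hsub M u ψ) < Nat.card (cng M u)) := by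
  let f : hsub M u ψ → cng M u := fun a => ⟨a.1 • ψ, mem_cng.2 ((has_smul_iff u ψ).1 a.2)⟩
  have hf : Function.Injective f := fun a b h => Subtype.ext (smul_left_injective F hψ (congrArg Subtype.val h))
  refine ⟨Nat.card_le_card_of_injective f hf, fun h => Nat.card_eq_of_bijective f ⟨hf, fun φ => ?_⟩, ?_⟩
  · obtain ⟨c, hc⟩ := h _ φ.2
    exact ⟨⟨c, (has_smul_iff u ψ).2 (hc ▸ φ.2)⟩, Subtype.ext hc.symm⟩
  · rintro ⟨φ, hφ, hne⟩
    haveI := Fintype.ofFinite (hsub M u ψ)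
    haveI := Fintype.ofFinite (cng M u)
    rw [Nat.card_eq_fintype_card, Nat.card_eq_fintype_card]
    exact Fintype.card_lt_of_injective_of_notMem f hf (b := ⟨φ, hφ⟩) fun ⟨a, ha⟩ => hne a.1 (congrArg Subtype.val ha).symm

/-- the sizes along one axis agree if the sizes at the points agree -/
theorem uniform {u w ψ : Fin 3 → F} (hψ : ψ ≠ 0) (hu0 : u ≠ 0) (hw0 : w ≠ 0) (hψu : ψ ⬝ᵥ u = 0) (hψw : ψ ⬝ᵥ w = 0)
    (hcard : Nat.card (cng M u) = Nat.card (cng M w)) : Nat.card (hsub M u ψ) = Nat.card (hsub M w ψ) := by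
  by_cases hli : LinearIndependent F ![u, w]
  swap
  · rw [LinearIndependent.pair_iff' hu0] at hli
    push Not at hli
    obtain ⟨c, rfl⟩ := hli
    exact (card_hsub_smul u ψ fun e => hw0 (by rw [e, zero_smul])).symm
  have hone : ∀ {x y : Fin 3 → F}, LinearIndependent F ![x, y] → ψ ⬝ᵥ x = 0 → ψ ⬝ᵥ y = 0 →
      (∀ φ ∈ cng M x, φ ⬝ᵥ y = 0) → Nat.card (hsub M x ψ) = Nat.card (cng M x) := fun {x y} hli hx hy h =>
    (hsub_le_cng x hψ).2.1 fun φ hφ => prop_of_vanish hψ hli (mem_cng.1 hφ).orth (h φ hφ) hx hy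
  have htwo : ∀ {x y φ : Fin 3 → F}, ψ ⬝ᵥ y = 0 → φ ∈ cng M x → φ ⬝ᵥ y ≠ 0 →
      Nat.card (hsub M x ψ) < Nat.card (cng M x) := fun {x y φ} hy hφ hne =>
    (hsub_le_cng x hψ).2.2 ⟨φ, hφ, fun c e => hne (by rw [e, smul_dotProduct, hy, smul_zero])⟩
  have hli' : LinearIndependent F ![w, u] := (LinearIndependent.pair_symm_iff).1 hli
  by_cases h1 : ∀ φ ∈ cng M u, φ ⬝ᵥ w = 0 <;> by_cases h2 : ∀ φ ∈ cng M w, φ ⬝ᵥ u = 0
  · rw [hone hli hψu hψw h1, hone hli' hψw hψu h2, hcard]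
  · push Not at h2
    obtain ⟨φ, hφ, hne⟩ := h2
    have := htwo hψu hφ hne
    have := hsub_le (mem_cng.1 hφ) hne hψw
    have := hone hli hψu hψw h1
    omega
  · push Not at h1
    obtain ⟨φ, hφ, hne⟩ := h1
    have := htwo hψw hφ hne
    have := hsub_le (mem_cng.1 hφ) hne hψu
    have := hone hli' hψw hψu h2
    omega
  · push Not at h1 h2
    obtain ⟨φ, hφ, hne⟩ := h1
    obtain ⟨φ', hφ', hne'⟩ := h2
    exact le_antisymm (hsub_le (mem_cng.1 hφ') hne' hψw) (hsub_le (mem_cng.1 hφ) hne hψu)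

/-- the centres in the kernel of `ψ` -/
noncomputable def onAxis (M : Subgroup (GL (Fin 3) F)) (ψ : Fin 3 → F) : Finset (Fin 3 → F) :=
  Finset.univ.filter fun v => Cen M v ∧ ψ ⬝ᵥ v = 0

theorem mem_onAxis {ψ v : Fin 3 → F} : v ∈ onAxis M ψ ↔ Cen M v ∧ ψ ⬝ᵥ v = 0 := by simp [onAxis]

theorem card_units_eq : (Finset.univ.erase (0 : F)).card = Fintype.card F - 1 := by
  rw [Finset.card_erase_of_mem (Finset.mem_univ _), Finset.card_univ]

/-- counting the transvections with a given axis -/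
theorem sum_hsub {ψ : Fin 3 → F} (hψ : ψ ≠ 0) :
    (Nat.card (axg M ψ) - 1) * (Fintype.card F - 1) = ∑ v ∈ onAxis M ψ, (Nat.card (hsub M v ψ) - 1) := by
  let A : Finset (Fin 3 → F) := Finset.univ.filter fun v => Has M v ψ
  have hA : Nat.card (axg M ψ) = A.card := by
    rw [← Fintype.card_coe, ← Nat.card_eq_fintype_card]
    exact Nat.card_congr (Equiv.subtypeEquivRight fun v => by simp [A, mem_axg])
  let H : (Fin 3 → F) → Finset F := fun v => (Finset.univ.filter fun c : F => Has M (c • v) ψ).erase 0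
  have hH : ∀ v, (H v).card = Nat.card (hsub M v ψ) - 1 := fun v => by
    rw [Finset.card_erase_of_mem (by simp [has_zero_left])]
    congr 1
    rw [← Fintype.card_coe, ← Nat.card_eq_fintype_card]
    exact (Nat.card_congr (Equiv.subtypeEquivRight fun c => by simp [mem_hsub])).symm
  rw [hA, ← card_units_eq, ← Finset.card_erase_of_mem (show (0 : Fin 3 → F) ∈ A by simp [A, has_zero_left]),
    ← Finset.card_product, ← Finset.sum_congr rfl fun v _ => hH v, ← Finset.card_sigma]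
  refine Finset.card_bij' (fun x _ => ⟨x.2⁻¹ • x.1, x.2⟩) (fun y _ => (y.2 • y.1, y.2)) ?_ ?_ ?_ ?_
  · rintro ⟨a, c⟩ hx
    simp only [Finset.mem_product, Finset.mem_erase, Finset.mem_filter, Finset.mem_univ, true_and, and_true, A] at hx
    obtain ⟨⟨ha0, ha⟩, hc⟩ := hx
    simp only [Finset.mem_sigma, mem_onAxis, H, Finset.mem_erase, Finset.mem_filter, Finset.mem_univ, true_and]
    refine ⟨⟨⟨smul_ne_zero (inv_ne_zero hc) ha0, _, ?_, has_scale_both ha (inv_ne_zero hc)⟩, ?_⟩, hc, ?_⟩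
    · exact smul_ne_zero (inv_ne_zero (inv_ne_zero hc)) hψ
    · rw [dotProduct_smul, ha.orth, smul_zero]
    · rw [smul_smul, mul_inv_cancel₀ hc, one_smul]; exact ha
  · rintro ⟨v, c⟩ hy
    simp only [Finset.mem_sigma, mem_onAxis, H, Finset.mem_erase, Finset.mem_filter, Finset.mem_univ, true_and] at hy
    simp only [Finset.mem_product, Finset.mem_erase, Finset.mem_filter, Finset.mem_univ, true_and, and_true, A]
    exact ⟨⟨smul_ne_zero hy.2.1 hy.1.1.1, hy.2.2⟩, hy.2.1⟩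
  · rintro ⟨a, c⟩ hx
    simp only [Finset.mem_product, Finset.mem_erase, Finset.mem_univ, and_true] at hx
    exact Prod.ext (show c • c⁻¹ • a = a by rw [smul_smul, mul_inv_cancel₀ hx.2, one_smul]) rfl
  · rintro ⟨v, c⟩ hy
    simp only [Finset.mem_sigma, H, Finset.mem_erase] at hy
    show (⟨c⁻¹ • c • v, c⟩ : Σ _ : Fin 3 → F, F) = ⟨v, c⟩
    rw [smul_smul, inv_mul_cancel₀ hy.2.1, one_smul]

/-- the transvections with one axis move centres off the axis -/
theorem axg_dvd (ψ : Fin 3 → F) :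
    Nat.card (axg M ψ) ∣ (Finset.univ.filter fun v => Cen M v ∧ ψ ⬝ᵥ v ≠ 0).card := by
  let G := Multiplicative (axg M ψ)
  rw [← Nat.card_congr (Multiplicative.ofAdd (α := axg M ψ)).symm]
  refine free_dvd_finset (G := G) _ (fun a v => v + (ψ ⬝ᵥ v) • (a.toAdd : axg M ψ).1) ?_ ?_ ?_ ?_
  · intro a v hv
    simp only [Finset.mem_filter, Finset.mem_univ, true_and] at hv ⊢
    obtain ⟨h0, hm⟩ := mem_axg.1 (a.toAdd : axg M ψ).2
    have := hv.1.conj hm
    rw [tv_mulVec] at this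
    refine ⟨this, ?_⟩
    rw [dotProduct_add, dotProduct_smul, h0, smul_zero, add_zero]
    exact hv.2
  · intro v
    show v + (ψ ⬝ᵥ v) • ((0 : axg M ψ) : Fin 3 → F) = v
    simp
  · intro a b v
    show v + (ψ ⬝ᵥ v) • ((a.toAdd + b.toAdd : axg M ψ) : Fin 3 → F) = _
    simp only [AddSubgroup.coe_add, dotProduct_add, dotProduct_smul,
      show ψ ⬝ᵥ (b.toAdd : axg M ψ).1 = 0 from (mem_axg.1 (b.toAdd : axg M ψ).2).orth, smul_zero, add_zero, smul_add]
    abel
  · intro a v hv h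
    simp only [Finset.mem_filter, Finset.mem_univ, true_and] at hv
    rw [add_eq_left, smul_eq_zero] at h
    exact Multiplicative.toAdd.injective (Subtype.ext (h.resolve_left hv.2))

/-! ### the contragredient group -/

/-- transpose inverse -/
def ctr : GL (Fin 3) F →* GL (Fin 3) F where
  toFun g := ⟨((g⁻¹ : GL (Fin 3) F) : Matrix (Fin 3) (Fin 3) F)ᵀ, (g : Matrix (Fin 3) (Fin 3) F)ᵀ,
    by rw [← transpose_mul, Units.mul_inv, transpose_one], by rw [← transpose_mul, Units.inv_mul, transpose_one]⟩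
  map_one' := Units.ext (by simp)
  map_mul' g h := Units.ext (by simp [_root_.mul_inv_rev, transpose_mul])

omit [Fintype F] in
theorem ctr_val (g : GL (Fin 3) F) :
    (ctr g : Matrix (Fin 3) (Fin 3) F) = ((g⁻¹ : GL (Fin 3) F) : Matrix (Fin 3) (Fin 3) F)ᵀ := rfl

omit [Fintype F] in
theorem ctr_injective : Function.Injective (ctr : GL (Fin 3) F → GL (Fin 3) F) := fun g h e =>
  inv_injective (Units.ext (transpose_injective (congrArg Units.val e)))

/-- the contragredient group -/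
def dualGrp (M : Subgroup (GL (Fin 3) F)) : Subgroup (GL (Fin 3) F) := M.map ctr

omit [Fintype F] in
theorem ctr_tv {u φ : Fin 3 → F} (h : φ ⬝ᵥ u = 0) (h' : u ⬝ᵥ φ = 0) : ctr (tv u φ h)⁻¹ = tv φ u h' := by
  refine gl_ext_vec fun x => ?_
  rw [tv_mulVec, ctr_val, inv_inv, mulVec_transpose]
  show x ᵥ* (1 + vecMulVec u φ) = _
  rw [vecMul_add, vecMul_one, vecMul_vecMulVec, dotProduct_comm u x]

omit [Fintype F] in
theorem has_dual {u φ : Fin 3 → F} : Has (dualGrp M) φ u ↔ Has M u φ := by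
  constructor
  · rintro ⟨h, g, hg, hge⟩
    refine ⟨by rw [dotProduct_comm]; exact h, ?_⟩
    rw [← ctr_tv (by rw [dotProduct_comm]; exact h) h] at hge
    have := ctr_injective hge
    rw [this] at hg
    simpa using M.inv_mem hg
  · rintro ⟨h, hm⟩
    exact ⟨by rw [dotProduct_comm]; exact h, ⟨(tv u φ h)⁻¹, M.inv_mem hm, ctr_tv h _⟩⟩

omit [Fintype F] in
theorem axg_dual (u : Fin 3 → F) : axg (dualGrp M) u = cng M u := AddSubgroup.ext fun φ => has_dual

omit [Fintype F] in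
theorem cng_dual (ψ : Fin 3 → F) : cng (dualGrp M) ψ = axg M ψ := AddSubgroup.ext fun v => has_dual

omit [Fintype F] in
theorem hsub_dual (u ψ : Fin 3 → F) : hsub (dualGrp M) ψ u = hsub M u ψ := AddSubgroup.ext fun a => by
  rw [mem_hsub, mem_hsub, has_dual, has_smul_iff]

omit [Fintype F] in
theorem cen_dual {ψ : Fin 3 → F} : Cen (dualGrp M) ψ ↔ ψ ≠ 0 ∧ ∃ u : Fin 3 → F, u ≠ 0 ∧ Has M u ψ := by
  simp only [Cen, has_dual]

omit [Fintype F] in
theorem dual_le_SL (hM : M ≤ specialLinear (Fin 3) F) : dualGrp M ≤ specialLinear (Fin 3) F := by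
  rintro _ ⟨g, hg, rfl⟩
  refine Units.ext ?_
  have h := congrArg Units.val (show Matrix.GeneralLinearGroup.det g⁻¹ = 1 by rw [map_inv, hM hg, inv_one])
  rw [Matrix.GeneralLinearGroup.val_det_apply] at h ⊢
  rw [ctr_val, det_transpose, h]

theorem card_dual : Nat.card (dualGrp M) = Nat.card M :=
  (Nat.card_congr (Subgroup.equivMapOfInjective M ctr ctr_injective).toEquiv).symm

end CfsgLib.Perm.Trans.ThreeDim.SingTv
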