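import Cfsg.Agent.Lib.Perm.Trans.SL

/-!
# Transvection subgroups in irreducible groups

If no trace zero matrix is orthogonal to all transvection subgroups and no proper subspace is
invariant, there is a full centre, so all centres are full: the anticommutator of two mutual
transvections would be orthogonal to all of them.
-/

set_option autoImplicit false
set_option linter.all false

namespace CfsgLib.Perm.Trans.ThreeDim

open scoped Matrix
open Matrix Cfsg.Geo CfsgLib.Perm.Asch CfsgLib.Perm.Trans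

variable {F : Type*} [Field F] {M : Subgroup (GL (Fin 3) F)}

/-- two transvection subgroups with the same centre and independent axes fill the centre -/
theorem fullC_of_two {u φ ψ : Fin 3 → F} (hu : u ≠ 0) (hφ : φ ∈ axes M u) (hψ : ψ ∈ axes M u)
    (hli : LinearIndependent F ![φ, ψ]) : FullC M u := by
  let L : (Fin 3 → F) →ₗ[F] F :=
    { toFun := fun χ => χ ⬝ᵥ u
      map_add' := fun a b => add_dotProduct a b u
      map_smul' := fun c a => smul_dotProduct c a u }
  have hle : axes M u ≤ LinearMap.ker L := fun χ h => LinearMap.mem_ker.2 (axes_orth h)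
  have hsp : Submodule.span F (Set.range ![φ, ψ]) ≤ axes M u := by
    rw [Submodule.span_le]
    rintro _ ⟨i, rfl⟩
    fin_cases i
    · exact hφ
    · exact hψ
  have hne : L ≠ 0 := fun e => hu (funext fun i => by
    have := LinearMap.congr_fun e (Pi.single i 1)
    simpa [L] using this)
  have h2 := LinearMap.finrank_range_add_finrank_ker L
  rw [Module.finrank_fin_fun, LinearMap.range_eq_top.2 (LinearMap.surjective hne), finrank_top, Module.finrank_self] at h2
  have h1 := Submodule.finrank_mono hsp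
  rw [finrank_span_eq_card hli, Fintype.card_fin] at h1
  have heq : axes M u = LinearMap.ker L := Submodule.eq_of_le_of_finrank_le hle (by omega)
  exact fullC_of_axes fun χ hχ => heq ▸ LinearMap.mem_ker.2 hχ

/-- Irreducible groups with transvection subgroups have full centres. -/
theorem fullSub_eq_top
    (hirr : ∀ W : Submodule F (Fin 3 → F),
      (∀ g ∈ M, ∀ w ∈ W, (g : Matrix (Fin 3) (Fin 3) F) *ᵥ w ∈ W) → W = ⊥ ∨ W = ⊤)
    (hspan : ∀ N : Matrix (Fin 3) (Fin 3) F, (∀ u φ, φ ∈ axes M u → φ ⬝ᵥ (N *ᵥ u) = 0) →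
      ∃ c : F, N = c • 1)
    {a α : Fin 3 → F} (ha : a ≠ 0) (hα : α ≠ 0) (haα : α ∈ axes M a) : fullSub M = ⊤ := by
  refine (hirr (fullSub M) fun g hg w hw => fullSub_inv hg hw).resolve_left fun hbot => ?_
  have hnofull : ∀ u, u ≠ 0 → ¬ FullC M u := fun u hu h => hu ((Submodule.mem_bot F).1 (hbot ▸ (h : u ∈ fullSub M)))
  have hzero : ∀ u φ ψ : Fin 3 → F, u ≠ 0 → φ ≠ 0 → φ ∈ axes M u → ψ ∈ axes M u → ∃ k : F, k • φ = ψ := by
    intro u φ ψ hu hφ hφu hψu
    by_contra hcon
    push Not at hcon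
    exact hnofull u hu (fullC_of_two hu hφu hψu ((LinearIndependent.pair_iff' hφ).2 hcon))
  -- pairing is symmetric
  have hsym : ∀ u φ b ψ : Fin 3 → F, u ≠ 0 → φ ≠ 0 → ψ ≠ 0 → φ ∈ axes M u → ψ ∈ axes M b → ψ ⬝ᵥ u = 0 →
      φ ⬝ᵥ b = 0 := by
    intro u φ b ψ hu hφ hψ hφu hψb h0
    by_contra hne
    have hax : (φ ⬝ᵥ b) • ψ ∈ axes M u := fun c => by
      have h := (hφu c).comm (has_of_axes hψb) h0
      rwa [smul_dotProduct, smul_eq_mul, ← smul_smul] at h
    obtain ⟨k, hk⟩ := hzero u φ _ hu hφ hφu hax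
    have h1 := congrArg (fun χ => χ ⬝ᵥ b) hk
    simp only [smul_dotProduct, smul_eq_mul, axes_orth hψb, mul_zero, mul_eq_zero] at h1
    rw [h1.resolve_right hne, zero_smul, eq_comm, smul_eq_zero] at hk
    exact hψ (hk.resolve_left hne)
  -- every two pairs are orthogonal
  have hall : ∀ u φ b ψ : Fin 3 → F, u ≠ 0 → φ ≠ 0 → b ≠ 0 → ψ ≠ 0 → φ ∈ axes M u → ψ ∈ axes M b →
      φ ⬝ᵥ b = 0 := by
    intro u φ b ψ hu hφ hb hψ hφu hψb
    by_contra hne
    have hψu : ψ ⬝ᵥ u ≠ 0 := fun e => hne (hsym u φ b ψ hu hφ hψ hφu hψb e)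
    have hE : ∀ d χ : Fin 3 → F, χ ∈ axes M d →
        (φ ⬝ᵥ b) * (ψ ⬝ᵥ d) * (χ ⬝ᵥ u) + (ψ ⬝ᵥ u) * (φ ⬝ᵥ d) * (χ ⬝ᵥ b) = 0 := by
      intro d χ hχ
      rcases eq_or_ne d 0 with rfl | hd
      · simp
      rcases eq_or_ne χ 0 with rfl | hχ0
      · simp
      rcases eq_or_ne (χ ⬝ᵥ u) 0 with h0 | h0
      · rw [h0, hsym u φ d χ hu hφ hχ0 hφu hχ h0]; ring
      obtain ⟨c, hc⟩ : ∃ c, c = -(χ ⬝ᵥ b) / ((φ ⬝ᵥ b) * (χ ⬝ᵥ u)) := ⟨_, rfl⟩
      obtain ⟨hcu, hmem⟩ := hφu c
      have hb' := axes_conj hψb hmem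
      have h1 : χ ⬝ᵥ ((tv u (c • φ) hcu : Matrix (Fin 3) (Fin 3) F) *ᵥ b) = 0 := by
        rw [tv_mulVec, dotProduct_add, dotProduct_smul, smul_dotProduct, smul_eq_mul, smul_eq_mul, hc]
        field_simp
        ring
      have hne' : ψ ᵥ* (((tv u (c • φ) hcu)⁻¹ : GL (Fin 3) F) : Matrix (Fin 3) (Fin 3) F) ≠ 0 := fun e => hψ (by
        have := congrArg (fun v => v ᵥ* ((tv u (c • φ) hcu : GL (Fin 3) F) : Matrix (Fin 3) (Fin 3) F)) e
        simpa only [vecMul_vecMul, Units.inv_mul, vecMul_one, zero_vecMul] using this)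
      have h2 := hsym _ _ d χ (fun e => hb (gl_mulVec_eq_zero.1 e)) hne' hχ0 hb' hχ h1
      rw [← dotProduct_mulVec, tv_inv_mulVec, dotProduct_sub, dotProduct_smul, smul_dotProduct, smul_eq_mul,
        smul_eq_mul, hc] at h2
      field_simp at h2
      linear_combination h2
    obtain ⟨k, hk⟩ := hspan ((φ ⬝ᵥ b) • vecMulVec u ψ + (ψ ⬝ᵥ u) • vecMulVec b φ) fun d χ hχ => by
      rw [add_mulVec, smul_mulVec, smul_mulVec, vecMulVec_mulVec, vecMulVec_mulVec, op_smul_eq_smul, op_smul_eq_smul,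
        dotProduct_add, dotProduct_smul, dotProduct_smul, dotProduct_smul, dotProduct_smul]
      simp only [smul_eq_mul]
      linear_combination hE d χ hχ
    obtain ⟨v, hv0, hφv, hψv⟩ : ∃ v : Fin 3 → F, v ≠ 0 ∧ φ ⬝ᵥ v = 0 ∧ ψ ⬝ᵥ v = 0 := by
      let L : (Fin 3 → F) →ₗ[F] (Fin 2 → F) :=
        { toFun := fun x => ![φ ⬝ᵥ x, ψ ⬝ᵥ x]
          map_add' := fun x y => by funext i; fin_cases i <;> simp [dotProduct_add]
          map_smul' := fun c x => by funext i; fin_cases i <;> simp [dotProduct_smul] }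
      have h2 := LinearMap.finrank_range_add_finrank_ker L
      have h3 : Module.finrank F (LinearMap.range L) ≤ Module.finrank F (Fin 2 → F) := Submodule.finrank_le _
      rw [Module.finrank_fin_fun] at h2 h3
      obtain ⟨v, hv, hv0⟩ := Submodule.exists_mem_ne_zero_of_ne_bot
        (show LinearMap.ker L ≠ ⊥ from fun e => by rw [e, finrank_bot] at h2; omega)
      have hL : L v = 0 := LinearMap.mem_ker.1 hv
      exact ⟨v, hv0, by simpa [L] using congrFun hL 0, by simpa [L] using congrFun hL 1⟩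
    have hk0 : k = 0 := by
      have h := congrArg (fun A : Matrix (Fin 3) (Fin 3) F => A *ᵥ v) hk
      simp only [add_mulVec, smul_mulVec, vecMulVec_mulVec, op_smul_eq_smul, hφv, hψv, zero_smul, smul_zero,
        add_zero, one_mulVec] at h
      exact (smul_eq_zero.1 h.symm).resolve_right hv0
    have h := congrArg (fun A : Matrix (Fin 3) (Fin 3) F => A *ᵥ u) hk
    simp only [add_mulVec, smul_mulVec, vecMulVec_mulVec, op_smul_eq_smul, axes_orth hφu, zero_smul, smul_zero,
      add_zero, hk0, smul_smul, zero_mulVec] at h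
    exact mul_ne_zero hne hψu ((smul_eq_zero.1 h).resolve_right hu)
  -- the centres span
  let W := Submodule.span F {b : Fin 3 → F | b ≠ 0 ∧ ∃ ψ, ψ ≠ 0 ∧ ψ ∈ axes M b}
  have hW : W = ⊤ := by
    refine (hirr W fun g hg w hw => ?_).resolve_left fun e => ha ?_
    · induction hw using Submodule.span_induction with
      | mem b hb =>
        obtain ⟨hb0, ψ, hψ0, hψ⟩ := hb
        refine Submodule.subset_span ⟨fun e => hb0 (gl_mulVec_eq_zero.1 e), _, fun e => hψ0 ?_, axes_conj hψ hg⟩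
        have := congrArg (fun v => v ᵥ* (g : Matrix (Fin 3) (Fin 3) F)) e
        simpa only [vecMul_vecMul, Units.inv_mul, vecMul_one, zero_vecMul] using this
      | zero => simp
      | add x y _ _ hx hy => rw [mulVec_add]; exact add_mem hx hy
      | smul c x _ hx => rw [mulVec_smul]; exact Submodule.smul_mem _ c hx
    · have : a ∈ W := Submodule.subset_span ⟨ha, α, hα, haα⟩
      rwa [e, Submodule.mem_bot] at this
  refine hα (funext fun i => ?_)
  have hx : ∀ x ∈ W, α ⬝ᵥ x = 0 := fun x hx => by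
    induction hx using Submodule.span_induction with
    | mem b hb =>
      obtain ⟨hb0, ψ, hψ0, hψ⟩ := hb
      exact hall a α b ψ ha hα hb0 hψ0 haα hψ
    | zero => simp
    | add x y _ _ hx hy => rw [dotProduct_add, hx, hy, add_zero]
    | smul c x _ hx => rw [dotProduct_smul, hx, smul_zero]
  simpa using hx (Pi.single i 1) (hW ▸ Submodule.mem_top)

end CfsgLib.Perm.Trans.ThreeDim
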