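import Cfsg.Agent.Lib.Perm.Trans.Unit

/-!
# Irreducible unitary groups with transvections in three dimensions

The centres of the full transvection subgroups are all isotropic points: the set of centres is closed
under secants, so it is too large to be seen injectively from a missing point.
-/

set_option autoImplicit false
set_option linter.all false

namespace CfsgLib.Perm.Trans.ThreeDim

open scoped Matrix
open Matrix Cfsg.Geo CfsgLib.Perm.Asch CfsgLib.Perm.Trans CfsgLib.Perm.Trans.Unit

variable {F : Type*} [Field F] [Fintype F]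
variable {σ : F ≃+* F} {f : (Fin 3 → F) → (Fin 3 → F) → F} (hf : IsUnitaryForm σ f)
include hf

/-- there are no totally isotropic planes -/
theorem dependent_of_orth {a y : Fin 3 → F} (haa : f a a = 0) (hyy : f y y = 0) (hay : f a y = 0) :
    ¬ LinearIndependent F ![a, y] := by
  intro hli
  let L : (Fin 3 → F) →ₗ[F] (Fin 2 → F) :=
    { toFun := fun x => ![f x a, f x y]
      map_add' := fun u v => by funext i; fin_cases i <;> simp [hf.add_left]
      map_smul' := fun c u => by funext i; fin_cases i <;> simp [hf.smul_left] }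
  have hker : Submodule.span F (Set.range ![a, y]) ≤ LinearMap.ker L := by
    rw [Submodule.span_le]
    rintro _ ⟨i, rfl⟩
    fin_cases i <;> simp [L, haa, hyy, hay, herm_swap_zero hf hay]
  have h1 := Submodule.finrank_mono hker
  rw [finrank_span_eq_card hli, Fintype.card_fin] at h1
  have h2 := LinearMap.finrank_range_add_finrank_ker L
  rw [Module.finrank_fin_fun] at h2
  have h3 : LinearMap.range L < ⊤ := lt_top_iff_ne_top.2 fun h => by
    rw [h, finrank_top, Module.finrank_fin_fun] at h2
    omega
  obtain ⟨φ, hφ0, hφ⟩ := Submodule.exists_le_ker_of_lt_top _ h3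
  obtain ⟨α, hα⟩ : ∃ α, α = φ ![1, 0] := ⟨_, rfl⟩
  obtain ⟨β, hβ⟩ : ∃ β, β = φ ![0, 1] := ⟨_, rfl⟩
  have hval : ∀ v : Fin 2 → F, φ v = v 0 * α + v 1 * β := fun v => by
    conv_lhs => rw [show v = v 0 • ![1, 0] + v 1 • ![0, 1] by funext i; fin_cases i <;> simp]
    rw [map_add, map_smul, map_smul, ← hα, ← hβ, smul_eq_mul, smul_eq_mul]
  have hz : σ α • a + σ β • y = 0 := by
    by_contra hne
    obtain ⟨x, hx⟩ := (hf.nondegenerate _ hne).1
    refine hx ?_
    rw [herm_add_right hf, herm_smul_right hf, herm_smul_right hf, hf.involutive, hf.involutive]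
    have h4 : φ (L x) = 0 := LinearMap.mem_ker.1 (hφ (LinearMap.mem_range_self L x))
    rw [hval] at h4
    simp [L] at h4
    linear_combination h4
  obtain ⟨ha0, hb0⟩ := LinearIndependent.pair_iff.1 hli _ _ hz
  simp at ha0 hb0
  exact hφ0 (LinearMap.ext fun v => by rw [hval, ha0, hb0]; simp)

variable {M : Subgroup (GL (Fin 3) F)}

/-- the centres of the full transvection subgroups -/
def Centre (M : Subgroup (GL (Fin 3) F)) (v : Fin 3 → F) : Prop :=
  f v v = 0 ∧ ∀ c : F, σ c = -c → Has M v (c • hv hf v)

theorem Centre.smul {v : Fin 3 → F} (h : Centre hf M v) (r : F) : Centre hf M (r • v) := by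
  have h0 : f (r • v) (r • v) = 0 := by rw [hf.smul_left, herm_smul_right hf, h.1, mul_zero, mul_zero]
  refine ⟨h0, fun c hc => ?_⟩
  refine (h.2 (c * (r * σ r)) (by rw [map_mul, map_mul, hf.involutive, hc]; ring)).of_eq
    (by rw [smul_dotProduct, hv_dot, h0, smul_zero]) fun x => ?_
  rw [smul_dotProduct, hv_dot, smul_dotProduct, hv_dot, herm_smul_right hf, smul_smul]
  simp only [smul_eq_mul]
  congr 1
  ring

theorem Centre.conj (hiso : M ≤ isoU f) {v : Fin 3 → F} (h : Centre hf M v) {g : GL (Fin 3) F} (hg : g ∈ M) :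
    Centre hf M ((g : Matrix (Fin 3) (Fin 3) F) *ᵥ v) := by
  have hg' := mem_isoU.1 (hiso hg)
  have h0 : f ((g : Matrix (Fin 3) (Fin 3) F) *ᵥ v) ((g : Matrix (Fin 3) (Fin 3) F) *ᵥ v) = 0 := by
    rw [hg', h.1]
  refine ⟨h0, fun c hc => ?_⟩
  refine ((h.2 c hc).conj hg).of_eq (by rw [smul_dotProduct, hv_dot, h0, smul_zero]) fun x => ?_
  rw [smul_vecMul, smul_dotProduct, smul_dotProduct, ← dotProduct_mulVec, hv_dot, hv_dot]
  congr 2
  rw [← hg' (((g⁻¹ : GL (Fin 3) F) : Matrix (Fin 3) (Fin 3) F) *ᵥ x) v, gl_mulVec_inv]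

/-- moving a centre along a secant -/
theorem Centre.move (hiso : M ≤ isoU f) {a y : Fin 3 → F} (ha : Centre hf M a) (hy : Centre hf M y) {c : F}
    (hc : σ c = -c) : Centre hf M (y + (c * f y a) • a) := by
  obtain ⟨h, hmem⟩ := ha.2 c hc
  have := hy.conj hf hiso hmem
  rwa [tv_mulVec, smul_dotProduct, hv_dot, smul_eq_mul] at this

theorem Centre.secant (hiso : M ≤ isoU f) {a y : Fin 3 → F} (ha : Centre hf M a) (hy : Centre hf M y)
    (hay : f y a ≠ 0) {s : F} (hx : f (y + s • a) (y + s • a) = 0) : Centre hf M (y + s • a) := by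
  have hc : σ (s / f y a) = -(s / f y a) := by
    simp only [hf.add_left, herm_add_right hf, hf.smul_left, herm_smul_right hf, ha.1, hy.1] at hx
    have h' : f a y = σ (f y a) := hf.herm _ _
    rw [h'] at hx
    have hσ : σ (f y a) ≠ 0 := by simpa using hay
    rw [map_div₀]
    field_simp
    linear_combination hx
  have := ha.move hf hiso hy hc
  rwa [div_mul_cancel₀ _ hay] at this

/-- Irreducible subgroups of the isometry group with one full transvection subgroup have all of them. -/
theorem hasTv_top_of_irreducible (hiso : M ≤ isoU f)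
    (hirr : ∀ W : Submodule F (Fin 3 → F),
      (∀ g ∈ M, ∀ w ∈ W, (g : Matrix (Fin 3) (Fin 3) F) *ᵥ w ∈ W) → W = ⊥ ∨ W = ⊤)
    {a : Fin 3 → F} (ha0 : a ≠ 0) (haa : f a a = 0)
    (ha : ∀ c : F, σ c = -c → Has M a (c • hv hf a)) : HasTv hf M ⊤ := by
  classical
  have haC : Centre hf M a := ⟨haa, ha⟩
  intro x _ hxx c hc
  by_contra hxM
  have hx : ¬ Centre hf M x := fun h => hxM (h.2 c hc)
  have hx0 : x ≠ 0 := fun e => hxM (e ▸ has_zero_left _)
  -- three independent centres
  have hspan : Submodule.span F {v | Centre hf M v} = ⊤ := by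
    refine (hirr _ fun g hg w hw => ?_).resolve_left fun e => ha0 ?_
    · induction hw using Submodule.span_induction with
      | mem v hv => exact Submodule.subset_span (hv.conj hf hiso hg)
      | zero => simp
      | add u v _ _ hu hv => rw [mulVec_add]; exact add_mem hu hv
      | smul r u _ hu => rw [mulVec_smul]; exact Submodule.smul_mem _ r hu
    · have : a ∈ Submodule.span F {v | Centre hf M v} := Submodule.subset_span haC
      rwa [e, Submodule.mem_bot] at this
  have hext : ∀ W : Submodule F (Fin 3 → F), W ≠ ⊤ → ∃ v, Centre hf M v ∧ v ∉ W := fun W hW => by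
    by_contra hno
    push Not at hno
    exact hW (top_le_iff.1 (hspan ▸ Submodule.span_le.2 hno))
  obtain ⟨b, hb, hbn⟩ := hext (Submodule.span F {a}) fun e => by
    have := finrank_span_singleton (K := F) ha0
    rw [e, finrank_top, Module.finrank_fin_fun] at this
    omega
  obtain ⟨d, hd, hdn⟩ := hext (Submodule.span F {a, b}) fun e => by
    have h2 : Module.finrank F (Submodule.span F ({a, b} : Set (Fin 3 → F))) ≤ 2 := by
      refine (finrank_span_le_card _).trans ?_
      rw [Set.toFinset_insert, Set.toFinset_singleton]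
      exact Finset.card_le_two
    rw [e, finrank_top, Module.finrank_fin_fun] at h2
    omega
  have hli : ∀ α β γ : F, α • a + β • b + γ • d = 0 → α = 0 ∧ β = 0 ∧ γ = 0 := by
    intro α β γ h
    have hγ : γ = 0 := by
      by_contra hγ
      refine hdn (Submodule.mem_span_pair.2 ⟨-α / γ, -β / γ, ?_⟩)
      apply smul_right_injective _ hγ
      simp only [smul_add, smul_smul, mul_div_cancel₀ _ hγ]
      linear_combination (norm := module) -h
    subst hγ
    have hβ : β = 0 := by
      by_contra hβ
      refine hbn (Submodule.mem_span_singleton.2 ⟨-α / β, ?_⟩)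
      apply smul_right_injective _ hβ
      simp only [smul_smul, mul_div_cancel₀ _ hβ]
      linear_combination (norm := module) -h
    subst hβ
    exact ⟨(smul_eq_zero.1 (by simpa using h)).resolve_right ha0, rfl, rfl⟩
  have hne : ∀ u v : Fin 3 → F, f u u = 0 → f v v = 0 → (∀ α β : F, α • u + β • v = 0 → α = 0 ∧ β = 0) → f u v ≠ 0 :=
    fun u v hu hv h e => dependent_of_orth hf hu hv e (LinearIndependent.pair_iff.2 h)
  have hbd : f b d ≠ 0 := hne b d hb.1 hd.1 fun α β h => (hli 0 α β (by rw [zero_smul, zero_add, h])).2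
  -- the parametrised centres
  let Z0 := {z : F // σ z = -z}
  let w : Option Z0 → (Fin 3 → F) := fun t => t.elim d fun z => b + ((z : F) * f b d) • d
  have hw : ∀ t, Centre hf M (w t) := fun t => by
    cases t with
    | none => exact hd
    | some z => exact hd.move hf hiso hb z.2
  have hwa : ∀ t, f (w t) a ≠ 0 := fun t => hne _ _ (hw t).1 haa fun α β h => by
    cases t with
    | none =>
      have h' := hli β 0 α (by linear_combination (norm := (simp only [w, Option.elim_none]; module)) h)
      exact ⟨h'.2.2, h'.1⟩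
    | some z =>
      have h' := hli β α (α * ((z : F) * f b d)) (by linear_combination (norm := (simp only [w, Option.elim_some]; module)) h)
      exact ⟨h'.2.1, h'.1⟩
  let G : Fˣ × Option Z0 × Z0 → (Fin 3 → F) := fun r =>
    (r.1 : F) • (w r.2.1 + ((r.2.2 : F) * f (w r.2.1) a) • a)
  have hG : ∀ r, Centre hf M (G r) := fun r => ((haC.move hf hiso (hw _) r.2.2.2).smul hf _)
  have hGinj : Function.Injective G := by
    rintro ⟨r, t, z⟩ ⟨r', t', z'⟩ h
    have hr0 := r.ne_zero
    cases t with
    | none => cases t' with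
      | none =>
        have h' := hli ((r : F) * ((z : F) * f d a) - (r' : F) * ((z' : F) * f d a)) 0 ((r : F) - r')
          (by linear_combination (norm := (simp only [G, w, Option.elim_none]; module)) h)
        obtain rfl : r = r' := Units.ext (sub_eq_zero.1 h'.2.2)
        obtain rfl : z = z' := Subtype.ext (mul_right_cancel₀ (hwa none) (mul_left_cancel₀ hr0 (sub_eq_zero.1 h'.1)))
        rfl
      | some u =>
        have h' := hli ((r : F) * ((z : F) * f d a) - (r' : F) * ((z' : F) * f (w (some u)) a)) (-(r' : F))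
          ((r : F) - (r' : F) * ((u : F) * f b d))
          (by linear_combination (norm := (simp only [G, w, Option.elim_none, Option.elim_some]; module)) h)
        exact absurd (neg_eq_zero.1 h'.2.1) r'.ne_zero
    | some v => cases t' with
      | none =>
        have h' := hli ((r : F) * ((z : F) * f (w (some v)) a) - (r' : F) * ((z' : F) * f d a)) (r : F)
          ((r : F) * ((v : F) * f b d) - (r' : F))
          (by linear_combination (norm := (simp only [G, w, Option.elim_none, Option.elim_some]; module)) h)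
        exact absurd h'.2.1 hr0
      | some u =>
        have h' := hli ((r : F) * ((z : F) * f (w (some v)) a) - (r' : F) * ((z' : F) * f (w (some u)) a))
          ((r : F) - r') ((r : F) * ((v : F) * f b d) - (r' : F) * ((u : F) * f b d))
          (by linear_combination (norm := (simp only [G, w, Option.elim_some]; module)) h)
        obtain rfl : r = r' := Units.ext (sub_eq_zero.1 h'.2.1)
        obtain rfl : v = u := Subtype.ext (mul_right_cancel₀ hbd (mul_left_cancel₀ hr0 (sub_eq_zero.1 h'.2.2)))
        obtain rfl : z = z' := Subtype.ext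
          (mul_right_cancel₀ (hwa (some v)) (mul_left_cancel₀ hr0 (sub_eq_zero.1 h'.1)))
        rfl
  -- seen from `x`
  let S := Submodule.span F ({x} : Set (Fin 3 → F))
  have hinS : ∀ r, S.mkQ (G r) ≠ 0 := fun r e => by
    rw [Submodule.mkQ_apply, Submodule.Quotient.mk_eq_zero] at e
    obtain ⟨s, hs⟩ := Submodule.mem_span_singleton.1 e
    rcases eq_or_ne s 0 with rfl | hs0
    · rw [zero_smul] at hs
      cases h : r.2.1 with
      | none =>
        have h' := hli ((r.1 : F) * ((r.2.2 : F) * f d a)) 0 (r.1 : F)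
          (by linear_combination (norm := (simp only [G, w, h, Option.elim_none]; module)) -hs)
        exact r.1.ne_zero h'.2.2
      | some v =>
        have h' := hli ((r.1 : F) * ((r.2.2 : F) * f (w (some v)) a)) (r.1 : F) ((r.1 : F) * ((v : F) * f b d))
          (by linear_combination (norm := (simp only [G, w, h, Option.elim_some]; module)) -hs)
        exact r.1.ne_zero h'.2.1
    · exact hx (by rw [← inv_smul_smul₀ hs0 x, hs]; exact (hG r).smul hf _)
  have hinj : Function.Injective fun r => (⟨S.mkQ (G r), hinS r⟩ : {v : (Fin 3 → F) ⧸ S // v ≠ 0}) := by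
    intro r r' h
    refine hGinj ?_
    have e : G r - G r' ∈ S := (Submodule.Quotient.eq S).1 (congrArg Subtype.val h)
    obtain ⟨s, hs⟩ := Submodule.mem_span_singleton.1 e
    rcases eq_or_ne s 0 with rfl | hs0
    · rw [zero_smul] at hs; exact sub_eq_zero.1 hs.symm
    exfalso
    refine hx ?_
    rw [← inv_smul_smul₀ hs0 x, hs]
    refine Centre.smul hf ?_ _
    by_cases hff : f (G r) (G r') = 0
    · have hdep := dependent_of_orth hf (hG r).1 (hG r').1 hff
      rw [LinearIndependent.pair_iff' (by intro e0; exact hinS r (by rw [e0, map_zero]))] at hdep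
      push Not at hdep
      obtain ⟨k, hk⟩ := hdep
      rw [← hk, show G r - k • G r = (1 - k) • G r by module]
      exact (hG r).smul hf _
    · have hiso' : f (G r + (-1 : F) • G r') (G r + (-1 : F) • G r') = 0 := by
        have e2 : G r + (-1 : F) • G r' = s • x := by rw [hs]; module
        rw [e2, hf.smul_left, herm_smul_right hf, hxx, mul_zero, mul_zero]
      have := Centre.secant hf hiso (hG r') (hG r) hff hiso'
      rwa [show G r + (-1 : F) • G r' = G r - G r' by module] at this
  have hle := Fintype.card_le_of_injective _ hinj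
  have hS : Module.finrank F ((Fin 3 → F) ⧸ S) = 2 := by
    rw [Submodule.finrank_quotient, finrank_span_singleton hx0, Module.finrank_fin_fun]
  haveI : Fintype ((Fin 3 → F) ⧸ S) := Fintype.ofFinite _
  rw [Fintype.card_prod, Fintype.card_prod, Fintype.card_option, Fintype.card_units, Fintype.card_subtype_compl,
    Fintype.card_subtype_eq, Module.card_eq_pow_finrank (K := F) (V := (Fin 3 → F) ⧸ S), hS] at hle
  -- `Z0` is large
  obtain ⟨δ, hδ0, hδ⟩ := exists_trace_zero hf
  have hZ : Fintype.card F ≤ Fintype.card Z0 * Fintype.card Z0 := by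
    obtain ⟨θ, hθ⟩ : ∃ θ : F, θ + σ θ ≠ 0 := by
      by_contra hno
      push Not at hno
      have h2 : (2 : F) = 0 := by have := hno 1; rw [map_one] at this; linear_combination this
      exact hf.ne_refl (RingEquiv.ext fun t => by
        have := hno t
        show σ t = t
        linear_combination this - t * h2)
    let p : F → Z0 × Z0 := fun s =>
      (⟨s - σ s, by rw [map_sub, hf.involutive]; ring⟩, ⟨δ * (θ * s + σ (θ * s)), by
        rw [map_mul, map_add, hf.involutive, hδ]; ring⟩)
    rw [← Fintype.card_prod]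
    refine Fintype.card_le_of_injective p fun s t h => ?_
    have h1 : s - σ s = t - σ t := congrArg (fun q => (q.1 : F)) h
    have h2 : θ * s + σ (θ * s) = θ * t + σ (θ * t) :=
      mul_left_cancel₀ hδ0 (congrArg (fun q => (q.2 : F)) h)
    rw [map_mul, map_mul] at h2
    have h3 : (θ + σ θ) * (s - t) = 0 := by linear_combination h2 + σ θ * h1
    exact sub_eq_zero.1 ((mul_eq_zero.1 h3).resolve_left hθ)
  have h2F : 2 ≤ Fintype.card Z0 := Fintype.one_lt_card_iff.2 ⟨⟨0, by simp⟩, ⟨δ, hδ⟩, fun e => hδ0 (congrArg Subtype.val e).symm⟩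
  set k := Fintype.card Z0
  set Q := Fintype.card F with hQ
  have hQ2 : 2 ≤ Q := Fintype.one_lt_card
  have h5 : (Q - 1) * (Q + 2) ≤ (Q - 1) * ((k + 1) * k) := Nat.mul_le_mul_left _ (by nlinarith)
  have h6 : (Q - 1) * (Q + 2) = Q ^ 2 + Q - 2 := by
    obtain ⟨m, hm⟩ : ∃ m, Q = m + 1 := ⟨Q - 1, by omega⟩
    rw [hm]
    simp only [Nat.add_sub_cancel]
    rw [show (m + 1) ^ 2 + (m + 1) = m * (m + 1 + 2) + 2 by ring, Nat.add_sub_cancel]
  generalize (Q - 1) * (Q + 2) = A at h5 h6
  generalize (Q - 1) * ((k + 1) * k) = B at hle h5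
  have h7 : Q ≤ Q ^ 2 := Nat.le_self_pow two_ne_zero Q
  generalize Q ^ 2 = C at hle h6 h7
  omega

end CfsgLib.Perm.Trans.ThreeDim
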