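import Cfsg.Agent.Lib.Perm.Trans.Basic
import Cfsg.Agent.Lib.Perm.Asch.Commutative
import Cfsg.Agent.Lib.FT.NoMinSimple

/-!
# Point stabilisers containing a regular unipotent element, without transvections

If a subgroup of the special linear group of degree three has no transvections, then the stabiliser of
the fixed point of a regular unipotent element contains no four-group, and in characteristic at least
five it fixes the flag of the element.
-/

set_option autoImplicit false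
set_option linter.all false

namespace CfsgLib.Perm.Trans.ThreeDim

open scoped Matrix
open Matrix Cfsg.Geo CfsgLib.Perm.Asch CfsgLib.Perm.Trans

variable {F : Type*} [Field F]

/-- no transvections -/
def NoTv (M : Subgroup (GL (Fin 3) F)) : Prop := ∀ x ψ : Fin 3 → F, Has M x ψ → x = 0 ∨ ψ = 0

theorem det_one_of_mem {M : Subgroup (GL (Fin 3) F)} (hM : M ≤ specialLinear (Fin 3) F) {g : GL (Fin 3) F}
    (hg : g ∈ M) : (g : Matrix (Fin 3) (Fin 3) F).det = 1 := by
  have h := congrArg Units.val (show Matrix.GeneralLinearGroup.det g = 1 from hM hg)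
  rwa [Matrix.GeneralLinearGroup.val_det_apply] at h

/-- an element acting trivially on a point and on its quotient is trivial -/
theorem eq_one_of_quot {M : Subgroup (GL (Fin 3) F)} (hno : NoTv M) {x : Fin 3 → F} (hx : x ≠ 0)
    {g : GL (Fin 3) F} (hg : g ∈ M) (hgx : (g : Matrix (Fin 3) (Fin 3) F) *ᵥ x = x)
    (h : ∀ v, ∃ c : F, (g : Matrix (Fin 3) (Fin 3) F) *ᵥ v = v + c • x) : g = 1 := by
  choose c hc using h
  obtain ⟨φ, hφ⟩ : ∃ φ : Fin 3 → F, φ = fun k => c (Pi.single k 1) := ⟨_, rfl⟩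
  have hall : ∀ v, (g : Matrix (Fin 3) (Fin 3) F) *ᵥ v = v + (φ ⬝ᵥ v) • x := by
    intro v
    have hcol : (g : Matrix (Fin 3) (Fin 3) F) = 1 + vecMulVec x φ := by
      ext i k
      rw [← show ((g : Matrix (Fin 3) (Fin 3) F) *ᵥ Pi.single k 1) i = (g : Matrix (Fin 3) (Fin 3) F) i k by
        rw [mulVec_single_one]; rfl, hc, Pi.add_apply, Pi.smul_apply, Matrix.add_apply, vecMulVec_apply, hφ,
        Pi.single_apply, Matrix.one_apply, smul_eq_mul, mul_comm]
    rw [hcol, add_mulVec, one_mulVec, vecMulVec_mulVec, op_smul_eq_smul]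
  have h0 : φ ⬝ᵥ x = 0 := by
    have h1 := hall x
    rw [hgx, left_eq_add, smul_eq_zero] at h1
    exact h1.resolve_right hx
  have hHas : Has M x φ := ⟨h0, by
    rwa [show tv x φ h0 = g from gl_ext_vec fun v => by rw [tv_mulVec, hall]]⟩
  rcases hno x φ hHas with h2 | h2
  · exact absurd h2 hx
  · exact gl_ext_vec fun v => by rw [hall, h2, zero_dotProduct, zero_smul, add_zero, Units.val_one, one_mulVec]

variable {p : ℕ} [hp : Fact p.Prime] [CharP F p] {M : Subgroup (GL (Fin 3) F)}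

/-- a regular unipotent element: the data -/
theorem regular_data (hno : NoTv M) {u : GL (Fin 3) F} (hu : u ∈ M) (hu1 : u ≠ 1) (hup : u ^ p = 1) :
    ((u : Matrix (Fin 3) (Fin 3) F) - 1) ^ 3 = 0 ∧ ((u : Matrix (Fin 3) (Fin 3) F) - 1) ^ 2 ≠ 0 := by
  haveI : CharP (Matrix (Fin 3) (Fin 3) F) p := matrix_charP p
  have hnil : IsNilpotent ((u : Matrix (Fin 3) (Fin 3) F) - 1) := ⟨p, by
    rw [sub_pow_char_of_commute p (Commute.one_right _), one_pow, ← Units.val_pow_eq_pow_val, hup, Units.val_one, sub_self]⟩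
  have h3 : ((u : Matrix (Fin 3) (Fin 3) F) - 1) ^ 3 = 0 := by
    have h := Matrix.aeval_self_charpoly ((u : Matrix (Fin 3) (Fin 3) F) - 1)
    rw [sub_eq_zero.1 (IsNilpotent.eq_zero (Matrix.isNilpotent_charpoly_sub_pow_of_isNilpotent hnil)),
      Polynomial.aeval_X_pow, Fintype.card_fin] at h
    exact h
  refine ⟨h3, fun h2 => ?_⟩
  obtain ⟨N, hN⟩ : ∃ N, N = (u : Matrix (Fin 3) (Fin 3) F) - 1 := ⟨_, rfl⟩
  rw [← hN] at h2
  have hN0 : N ≠ 0 := fun e => hu1 (Units.ext (sub_eq_zero.1 (hN ▸ e)))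
  -- square zero in dimension three has rank one
  have hr : Module.finrank F (LinearMap.range N.mulVecLin) ≤ 1 := by
    have hle : LinearMap.range N.mulVecLin ≤ LinearMap.ker N.mulVecLin := by
      rintro _ ⟨v, rfl⟩
      rw [LinearMap.mem_ker, Matrix.mulVecLin_apply, Matrix.mulVecLin_apply, mulVec_mulVec, ← pow_two, h2, zero_mulVec]
    have h1 := Submodule.finrank_mono hle
    have h2 := LinearMap.finrank_range_add_finrank_ker N.mulVecLin
    rw [Module.finrank_fin_fun] at h2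
    omega
  obtain ⟨⟨z, hz⟩, hspan⟩ := finrank_le_one_iff.1 hr
  choose c hc using fun k : Fin 3 => hspan ⟨N *ᵥ Pi.single k 1, ⟨Pi.single k 1, by rw [Matrix.mulVecLin_apply]⟩⟩
  have hNe : N = vecMulVec z c := by
    ext i k
    have h := congrFun (congrArg Subtype.val (hc k)) i
    simp only [SetLike.val_smul, Pi.smul_apply, smul_eq_mul, mulVec_single_one] at h
    rw [vecMulVec_apply, mul_comm, h]
    rfl
  have huv : ∀ v, (u : Matrix (Fin 3) (Fin 3) F) *ᵥ v = v + (c ⬝ᵥ v) • z := fun v => by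
    rw [show (u : Matrix (Fin 3) (Fin 3) F) = 1 + N by rw [hN]; abel, hNe, add_mulVec, one_mulVec, vecMulVec_mulVec,
      op_smul_eq_smul]
  have hz0 : z ≠ 0 := fun e => hN0 (by rw [hNe, e]; ext; simp [vecMulVec_apply])
  have hc0 : c ≠ 0 := fun e => hN0 (by rw [hNe, e]; ext; simp [vecMulVec_apply])
  obtain ⟨v, hv⟩ : ∃ v, c ⬝ᵥ v ≠ 0 := by
    obtain ⟨k, hk⟩ := Function.ne_iff.1 hc0
    exact ⟨Pi.single k 1, by simpa using hk⟩
  have hcz : c ⬝ᵥ z = 0 := by
    have h := congrArg (fun A : Matrix (Fin 3) (Fin 3) F => A *ᵥ v) h2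
    simp only [pow_two, ← mulVec_mulVec, zero_mulVec, hNe, vecMulVec_mulVec, op_smul_eq_smul, dotProduct_smul,
      smul_eq_mul, smul_eq_zero, mul_eq_zero] at h
    exact (h.resolve_right hz0).resolve_left hv
  have hHas : Has M z c := ⟨hcz, by rwa [show tv z c hcz = u from gl_ext_vec fun v => by rw [tv_mulVec, huv]]⟩
  rcases hno z c hHas with h | h
  · exact hz0 h
  · exact hc0 h

/-- a normal form for a regular unipotent element and its fixed point -/
theorem exists_frame (hno : NoTv M) {u : GL (Fin 3) F} (hu : u ∈ M) (hu1 : u ≠ 1) (hup : u ^ p = 1) :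
    ∃ a b c : Fin 3 → F, LinearIndependent F ![a, b, c] ∧ (u : Matrix (Fin 3) (Fin 3) F) *ᵥ a = a ∧
      (u : Matrix (Fin 3) (Fin 3) F) *ᵥ b = b + a ∧ (u : Matrix (Fin 3) (Fin 3) F) *ᵥ c = c + b ∧
      ∀ v, (u : Matrix (Fin 3) (Fin 3) F) *ᵥ v = v → ∃ t : F, v = t • a := by
  obtain ⟨h3, h2⟩ := regular_data hno hu hu1 hup
  obtain ⟨N, hN⟩ : ∃ N, N = (u : Matrix (Fin 3) (Fin 3) F) - 1 := ⟨_, rfl⟩
  rw [← hN] at h2 h3
  have huN : ∀ v, (u : Matrix (Fin 3) (Fin 3) F) *ᵥ v = v + N *ᵥ v := fun v => by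
    rw [hN, sub_mulVec, one_mulVec]; abel
  obtain ⟨c, hc⟩ : ∃ c, (N ^ 2) *ᵥ c ≠ 0 := by
    by_contra hcon
    push Not at hcon
    exact h2 (Matrix.ext_iff_mulVec.2 fun v => by rw [hcon, zero_mulVec])
  obtain ⟨a, ha⟩ : ∃ a, a = (N ^ 2) *ᵥ c := ⟨_, rfl⟩
  have hNa : N *ᵥ a = 0 := by rw [ha, mulVec_mulVec, ← pow_succ', h3, zero_mulVec]
  have hNb : N *ᵥ (N *ᵥ c) = a := by rw [ha, mulVec_mulVec, ← pow_two]
  have ha0 : a ≠ 0 := ha ▸ hc
  have hcoef : ∀ g : Fin 3 → F, g 0 • a + g 1 • (N *ᵥ c) + g 2 • c = 0 → g = 0 := by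
    intro g hg
    have e1 := congrArg (fun v => N *ᵥ (N *ᵥ v)) hg
    simp only [mulVec_add, mulVec_smul, hNa, hNb, mulVec_zero, smul_zero, zero_add] at e1
    have g2 : g 2 = 0 := (smul_eq_zero.1 e1).resolve_right ha0
    have e2 := congrArg (fun v => N *ᵥ v) hg
    simp only [mulVec_add, mulVec_smul, hNa, hNb, mulVec_zero, smul_zero, zero_add, g2, zero_smul, add_zero] at e2
    have g1 : g 1 = 0 := (smul_eq_zero.1 e2).resolve_right ha0
    rw [g1, g2, zero_smul, zero_smul, add_zero, add_zero] at hg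
    funext k
    fin_cases k
    · exact (smul_eq_zero.1 hg).resolve_right ha0
    · exact g1
    · exact g2
  have hli : LinearIndependent F ![a, N *ᵥ c, c] := by
    rw [Fintype.linearIndependent_iff]
    intro g hg
    rw [Fin.sum_univ_three] at hg
    exact congrFun (hcoef g hg)
  refine ⟨a, N *ᵥ c, c, hli, by rw [huN, hNa, add_zero], by rw [huN, hNb], huN c, fun v hv => ?_⟩
  rw [huN, add_eq_left] at hv
  obtain ⟨g, hg⟩ := (Submodule.mem_span_range_iff_exists_fun F).1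
    (show v ∈ Submodule.span F (Set.range ![a, N *ᵥ c, c]) by
      rw [hli.span_eq_top_of_card_eq_finrank (by simp)]; trivial)
  rw [Fin.sum_univ_three] at hg
  simp only [Matrix.cons_val_zero, Matrix.cons_val_one, Matrix.cons_val] at hg
  have e2 := congrArg (fun w => N *ᵥ w) hg
  simp only [mulVec_add, mulVec_smul, hNa, hNb, hv, smul_zero, zero_add] at e2
  have h12 := hcoef ![g 1, g 2, 0] (by simpa using e2)
  have h1 := congrFun h12 0
  have h1' := congrFun h12 1
  simp only [Matrix.cons_val_zero, Matrix.cons_val_one, Pi.zero_apply] at h1 h1'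
  exact ⟨g 0, by rw [← hg, h1, h1', zero_smul, zero_smul, add_zero, add_zero]⟩

/-- no element acts as minus one on the quotient by the fixed point -/
theorem no_neg_quot (hp2 : p ≠ 2) (hM : M ≤ specialLinear (Fin 3) F) (hno : NoTv M) {u : GL (Fin 3) F} (hu : u ∈ M)
    (hu1 : u ≠ 1) (hup : u ^ p = 1) {x : Fin 3 → F} (hx : x ≠ 0) (hux : (u : Matrix (Fin 3) (Fin 3) F) *ᵥ x = x)
    {g : GL (Fin 3) F} (hg : g ∈ M) (h : ∀ v, ∃ c : F, (g : Matrix (Fin 3) (Fin 3) F) *ᵥ v = -v + c • x) : False := by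
  have h20 : (2 : F) ≠ 0 := Ring.two_ne_zero (fun e => hp2 ((CharP.eq F (ringChar.charP F) ‹CharP F p›).symm.trans e))
  obtain ⟨a, b, c, hli, hua, hub, huc, hfix⟩ := exists_frame hno hu hu1 hup
  choose f hf using h
  -- the scalar on the point
  obtain ⟨e, he⟩ : ∃ e, (g : Matrix (Fin 3) (Fin 3) F) *ᵥ x = e • x := ⟨f x - 1, by rw [hf, sub_smul, one_smul]; abel⟩
  have he0 : e ≠ 0 := fun e0 => hx (gl_mulVec_eq_zero.1 (show (g : Matrix (Fin 3) (Fin 3) F) *ᵥ x = 0 by rw [he, e0, zero_smul]))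
  have hinv : ∀ v, ∃ c : F, ((g⁻¹ : GL (Fin 3) F) : Matrix (Fin 3) (Fin 3) F) *ᵥ v = -v + c • x := by
    intro v
    refine ⟨f v / e, ?_⟩
    have h1 := congrArg (fun w => ((g⁻¹ : GL (Fin 3) F) : Matrix (Fin 3) (Fin 3) F) *ᵥ w) (hf v)
    have hix : ((g⁻¹ : GL (Fin 3) F) : Matrix (Fin 3) (Fin 3) F) *ᵥ x = e⁻¹ • x := by
      have h1 := congrArg (fun w => ((g⁻¹ : GL (Fin 3) F) : Matrix (Fin 3) (Fin 3) F) *ᵥ w) he
      simp only [gl_inv_mulVec, mulVec_smul] at h1
      conv_rhs => rw [h1]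
      rw [smul_smul, inv_mul_cancel₀ he0, one_smul]
    simp only [gl_inv_mulVec, mulVec_add, mulVec_neg, mulVec_smul, hix, smul_smul] at h1
    rw [div_eq_mul_inv]
    linear_combination (norm := module) h1
  have hcomm : g * u = u * g := by
    have huix : ((u⁻¹ : GL (Fin 3) F) : Matrix (Fin 3) (Fin 3) F) *ᵥ x = x := by
      conv_lhs => rw [← hux, gl_inv_mulVec]
    have key : g * u * g⁻¹ * u⁻¹ = 1 := by
      refine eq_one_of_quot hno hx (M.mul_mem (M.mul_mem (M.mul_mem hg hu) (M.inv_mem hg)) (M.inv_mem hu)) ?_ fun v => ?_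
      · obtain ⟨c, hc⟩ := hinv x
        rw [gl_mul_mulVec, gl_mul_mulVec, gl_mul_mulVec, huix, hc]
        simp only [mulVec_add, mulVec_neg, mulVec_smul, hux]
        rw [← mulVec_smul, ← mulVec_neg, ← mulVec_add, ← hc, gl_mulVec_inv]
      · obtain ⟨w, hw⟩ : ∃ w, w = ((u⁻¹ : GL (Fin 3) F) : Matrix (Fin 3) (Fin 3) F) *ᵥ v := ⟨_, rfl⟩
        have hvw : v = (u : Matrix (Fin 3) (Fin 3) F) *ᵥ w := by rw [hw, gl_mulVec_inv]
        obtain ⟨c, hc⟩ := hinv w
        refine ⟨-f ((u : Matrix (Fin 3) (Fin 3) F) *ᵥ w) + c * e, ?_⟩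
        rw [gl_mul_mulVec, gl_mul_mulVec, gl_mul_mulVec, ← hw, hc, mulVec_add, mulVec_neg, mulVec_smul, hux,
          mulVec_add, mulVec_neg, mulVec_smul, he, hf, hvw]
        module
    calc g * u = (g * u * g⁻¹ * u⁻¹) * (u * g) := by group
      _ = u * g := by rw [key, one_mul]
  obtain ⟨t, rfl⟩ := hfix x hux
  have ht : t ≠ 0 := fun e => hx (by rw [e, zero_smul])
  have hfN : ∀ v, f ((u : Matrix (Fin 3) (Fin 3) F) *ᵥ v) = f v := by
    intro v
    have h1 := congrArg (fun A : GL (Fin 3) F => (A : Matrix (Fin 3) (Fin 3) F) *ᵥ v) hcomm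
    simp only [gl_mul_mulVec, hf, mulVec_add, mulVec_neg, mulVec_smul, hua, add_right_inj] at h1
    exact smul_left_injective F hx h1
  -- the quotient form applied to `b = a + b - b`
  have hfab : (g : Matrix (Fin 3) (Fin 3) F) *ᵥ a = -a := by
    have h1 := hf ((u : Matrix (Fin 3) (Fin 3) F) *ᵥ b)
    rw [hfN, hub, mulVec_add, hf b] at h1
    linear_combination (norm := module) h1
  -- the square is trivial
  have hgg : g * g = 1 := by
    refine eq_one_of_quot hno hx (M.mul_mem hg hg) ?_ fun v => ⟨-f v - f v, ?_⟩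
    · rw [gl_mul_mulVec, mulVec_smul, hfab, mulVec_smul, mulVec_neg, hfab, neg_neg]
    · rw [gl_mul_mulVec, hf v, mulVec_add, mulVec_neg, hf v, mulVec_smul, mulVec_smul, hfab]
      module
  have hf0 : ∀ v, f v = 0 := fun v => by
    have h1 := congrArg (fun A : GL (Fin 3) F => (A : Matrix (Fin 3) (Fin 3) F) *ᵥ v) hgg
    simp only [gl_mul_mulVec, Units.val_one, one_mulVec] at h1
    rw [hf v, mulVec_add, mulVec_neg, hf v, mulVec_smul, mulVec_smul, hfab] at h1
    have h2 : (2 * f v) • (t • a) = 0 := by linear_combination (norm := module) -h1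
    exact (mul_eq_zero.1 ((smul_eq_zero.1 h2).resolve_right hx)).resolve_left h20
  have hneg : (g : Matrix (Fin 3) (Fin 3) F) = -1 := Matrix.ext_iff_mulVec.2 fun v => by
    rw [hf, hf0, zero_smul, add_zero, neg_mulVec, one_mulVec]
  have hd := det_one_of_mem hM hg
  rw [hneg, Matrix.det_neg, det_one, Fintype.card_fin] at hd
  exact h20 (by linear_combination (-1 : F) * hd)

omit hp in
/-- an involution of determinant one fixes only one point -/
theorem invol_fixed (h20 : (2 : F) ≠ 0) {g : GL (Fin 3) F} (hdet : (g : Matrix (Fin 3) (Fin 3) F).det = 1)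
    (hg2 : g * g = 1) (hg1 : g ≠ 1) {x w : Fin 3 → F} (hx : x ≠ 0) (hgx : (g : Matrix (Fin 3) (Fin 3) F) *ᵥ x = x)
    (hgw : (g : Matrix (Fin 3) (Fin 3) F) *ᵥ w = w) : ∃ c : F, w = c • x := by
  by_contra hcon
  push Not at hcon
  obtain ⟨A, hA⟩ : ∃ A, A = (g : Matrix (Fin 3) (Fin 3) F) - 1 := ⟨_, rfl⟩
  have hA0 : A ≠ 0 := fun e => hg1 (Units.ext (sub_eq_zero.1 (hA ▸ e)))
  have hr : Module.finrank F (LinearMap.range A.mulVecLin) ≤ 1 := by
    have hle : Submodule.span F (Set.range ![x, w]) ≤ LinearMap.ker A.mulVecLin := by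
      rw [Submodule.span_le]
      rintro _ ⟨k, rfl⟩
      rw [SetLike.mem_coe, LinearMap.mem_ker, Matrix.mulVecLin_apply, hA, sub_mulVec, one_mulVec]
      fin_cases k <;> simp [hgx, hgw]
    have hli : LinearIndependent F ![x, w] := (LinearIndependent.pair_iff' hx).2 fun c e => hcon c e.symm
    have h1 := Submodule.finrank_mono hle
    rw [finrank_span_eq_card hli, Fintype.card_fin] at h1
    have h2 := LinearMap.finrank_range_add_finrank_ker A.mulVecLin
    rw [Module.finrank_fin_fun] at h2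
    omega
  obtain ⟨⟨z, hz⟩, hspan⟩ := finrank_le_one_iff.1 hr
  choose φ hφ using fun k : Fin 3 => hspan ⟨A *ᵥ Pi.single k 1, ⟨Pi.single k 1, by rw [Matrix.mulVecLin_apply]⟩⟩
  have hAe : A = vecMulVec z φ := by
    ext i k
    have h := congrFun (congrArg Subtype.val (hφ k)) i
    simp only [SetLike.val_smul, Pi.smul_apply, smul_eq_mul, mulVec_single_one] at h
    rw [vecMulVec_apply, mul_comm, h]
    rfl
  have hge : (g : Matrix (Fin 3) (Fin 3) F) = 1 + vecMulVec z φ := by rw [← hAe, hA]; abel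
  have hd : φ ⬝ᵥ z = 0 := by
    rw [hge, vecMulVec_eq Unit, det_one_add_replicateCol_mul_replicateRow] at hdet
    linear_combination hdet
  have hsq := congrArg Units.val hg2
  rw [Units.val_mul, Units.val_one, hge, add_mul, mul_add, mul_add, one_mul, one_mul, mul_one,
    vecMulVec_mul_vecMulVec, hd, zero_smul] at hsq
  simp only [show vecMulVec z (0 : Fin 3 → F) = 0 from by ext; simp [vecMulVec_apply], add_zero] at hsq
  refine hA0 ?_
  rw [hAe]
  have h2 : (2 : F) • vecMulVec z φ = 0 := by rw [two_smul]; linear_combination (norm := abel) hsq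
  exact (smul_eq_zero.1 h2).resolve_left h20

/-- no four-group fixes the fixed point of a regular unipotent element -/
theorem no_four (hp2 : p ≠ 2) (hM : M ≤ specialLinear (Fin 3) F) (hno : NoTv M) {u : GL (Fin 3) F} (hu : u ∈ M)
    (hu1 : u ≠ 1) (hup : u ^ p = 1) {x : Fin 3 → F} (hx : x ≠ 0) (hux : (u : Matrix (Fin 3) (Fin 3) F) *ᵥ x = x)
    {a b : GL (Fin 3) F} (ha : a ∈ M) (hb : b ∈ M) (ha2 : a * a = 1) (hb2 : b * b = 1) (ha1 : a ≠ 1) (hb1 : b ≠ 1)
    (hab : a * b = b * a) (hne : a ≠ b) (hax : ∃ e : F, (a : Matrix (Fin 3) (Fin 3) F) *ᵥ x = e • x)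
    (hbx : ∃ e : F, (b : Matrix (Fin 3) (Fin 3) F) *ᵥ x = e • x) : False := by
  have h20 : (2 : F) ≠ 0 := Ring.two_ne_zero (fun e => hp2 ((CharP.eq F (ringChar.charP F) ‹CharP F p›).symm.trans e))
  suffices h : ∃ g ∈ M, g * g = 1 ∧ g ≠ 1 ∧ (g : Matrix (Fin 3) (Fin 3) F) *ᵥ x = x by
    obtain ⟨g, hg, hg2, hg1, hgx⟩ := h
    refine no_neg_quot hp2 hM hno hu hu1 hup hx hux hg fun v => ?_
    obtain ⟨c, hc⟩ := invol_fixed h20 (det_one_of_mem hM hg) hg2 hg1 hx hgx
      (w := v + (g : Matrix (Fin 3) (Fin 3) F) *ᵥ v) (by rw [mulVec_add, ← gl_mul_mulVec, hg2, Units.val_one, one_mulVec, add_comm])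
    exact ⟨c, by rw [← hc]; abel⟩
  have hsign : ∀ {g : GL (Fin 3) F}, g * g = 1 → (∃ e : F, (g : Matrix (Fin 3) (Fin 3) F) *ᵥ x = e • x) →
      (g : Matrix (Fin 3) (Fin 3) F) *ᵥ x = x ∨ (g : Matrix (Fin 3) (Fin 3) F) *ᵥ x = -x := by
    rintro g hg ⟨e, he⟩
    have h1 := congrArg (fun A : GL (Fin 3) F => (A : Matrix (Fin 3) (Fin 3) F) *ᵥ x) hg
    simp only [gl_mul_mulVec, Units.val_one, one_mulVec, he, mulVec_smul, smul_smul] at h1
    have h2 : (e * e - 1) • x = 0 := by rw [sub_smul, one_smul, h1, sub_self]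
    rcases mul_eq_zero.1 (show (e - 1) * (e + 1) = 0 by
        linear_combination (smul_eq_zero.1 h2).resolve_right hx) with h3 | h3
    · left; rw [he, sub_eq_zero.1 h3, one_smul]
    · right; rw [he, eq_neg_of_add_eq_zero_left h3, neg_one_smul]
  rcases hsign ha2 hax with h1 | h1
  · exact ⟨a, ha, ha2, ha1, h1⟩
  rcases hsign hb2 hbx with h2 | h2
  · exact ⟨b, hb, hb2, hb1, h2⟩
  refine ⟨a * b, M.mul_mem ha hb, ?_, fun e => hne ?_, ?_⟩
  · rw [mul_assoc, ← mul_assoc b a b, ← hab, mul_assoc a b b, hb2, mul_one, ha2]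
  · calc a = a * (b * b) := by rw [hb2, mul_one]
      _ = a * b * b := (mul_assoc _ _ _).symm
      _ = b := by rw [e, one_mul]
  · rw [gl_mul_mulVec, h2, mulVec_neg, h1, neg_neg]

omit hp in
/-- a finite plane group with a unipotent element and without minus one fixes its line -/
theorem plane_line [Fintype F] (hp' : p.Prime) (hp2 : p ≠ 2) {G : Subgroup (GL (Fin 2) F)} {τ : GL (Fin 2) F}
    (hτ : τ ∈ G) (hτe : (τ : Matrix (Fin 2) (Fin 2) F) = !![1, 1; 0, 1])
    (hneg : ∀ g ∈ G, (g : Matrix (Fin 2) (Fin 2) F) ≠ -1) : ∀ g ∈ G, (g : Matrix (Fin 2) (Fin 2) F) 1 0 = 0 := by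
  classical
  haveI : Fact p.Prime := ⟨hp'⟩
  have h20 : (2 : F) ≠ 0 := Ring.two_ne_zero (fun e => hp2 ((CharP.eq F (ringChar.charP F) ‹CharP F p›).symm.trans e))
  obtain ⟨G1, hG1⟩ : ∃ G1 : Subgroup G, G1 = ((Matrix.GeneralLinearGroup.det (n := Fin 2) (R := F)).comp G.subtype).ker := ⟨_, rfl⟩
  haveI : G1.Normal := hG1 ▸ MonoidHom.normal_ker _
  have hdet : ∀ g ∈ G1, ((g : GL (Fin 2) F) : Matrix (Fin 2) (Fin 2) F).det = 1 := by
    intro g hg
    rw [hG1] at hg
    have h := congrArg Units.val (show Matrix.GeneralLinearGroup.det (g : GL (Fin 2) F) = 1 from hg)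
    rwa [Matrix.GeneralLinearGroup.val_det_apply] at h
  have hodd : Odd (Nat.card G1) := by
    rw [← Nat.not_even_iff_odd, even_iff_two_dvd]
    intro h
    haveI : Fact (Nat.Prime 2) := ⟨Nat.prime_two⟩
    obtain ⟨g, hg⟩ := exists_prime_orderOf_dvd_card' 2 h
    have hg2 : g * g = 1 := (pow_two g).symm.trans (orderOf_dvd_iff_pow_eq_one.1 (dvd_of_eq hg))
    have hd := hdet g.1 g.2
    obtain ⟨A, hA⟩ : ∃ A, A = ((g.1 : GL (Fin 2) F) : Matrix (Fin 2) (Fin 2) F) := ⟨_, rfl⟩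
    have hAA : A * A = 1 := by
      rw [hA, ← Units.val_mul, ← Subgroup.coe_mul, ← Subgroup.coe_mul, hg2]
      rfl
    rw [← hA, det_fin_two] at hd
    have e00 := congrFun (congrFun hAA 0) 0
    have e01 := congrFun (congrFun hAA 0) 1
    have e10 := congrFun (congrFun hAA 1) 0
    have e11 := congrFun (congrFun hAA 1) 1
    simp only [Matrix.mul_apply, Fin.sum_univ_two, one_apply_eq, one_apply_ne (show (0 : Fin 2) ≠ 1 by decide),
      one_apply_ne (show (1 : Fin 2) ≠ 0 by decide)] at e00 e01 e10 e11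
    have ht : A 0 0 + A 1 1 ≠ 0 := fun e => h20 (by
      linear_combination -e00 - hd + A 0 0 * e)
    have h01 : A 0 1 = 0 := (mul_eq_zero.1 (show (A 0 0 + A 1 1) * A 0 1 = 0 by linear_combination e01)).resolve_left ht
    have h10 : A 1 0 = 0 := (mul_eq_zero.1 (show (A 0 0 + A 1 1) * A 1 0 = 0 by linear_combination e10)).resolve_left ht
    rw [h01, h10] at hd e00
    have heq : A 0 0 = A 1 1 := by linear_combination A 1 1 * e00 - A 0 0 * hd
    rcases mul_eq_zero.1 (show (A 0 0 - 1) * (A 0 0 + 1) = 0 by linear_combination e00) with h1 | h1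
    · have : g = 1 := by
        refine Subtype.ext (Subtype.ext (Units.ext ?_))
        show ((g.1 : GL (Fin 2) F) : Matrix (Fin 2) (Fin 2) F) = 1
        rw [← hA]
        ext i j
        fin_cases i <;> fin_cases j <;> simp [sub_eq_zero.1 h1, h01, h10, ← heq]
      rw [this, orderOf_one] at hg
      exact absurd hg (by norm_num)
    · refine hneg g.1 g.1.2 ?_
      rw [← hA]
      ext i j
      fin_cases i <;> fin_cases j <;> simp [eq_neg_of_add_eq_zero_left h1, h01, h10, ← heq]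
  haveI hsolv := FT.isSolvable_of_odd G1 hodd
  -- an abelian subgroup normalised by the group
  obtain ⟨n, hn, hn1⟩ : ∃ n, (derivedSeries G1 n) ≠ ⊥ ∧ derivedSeries G1 (n + 1) = ⊥ := by
    obtain ⟨m, hm⟩ := hsolv.solvable
    have hne : derivedSeries G1 0 ≠ ⊥ := by
      rw [derivedSeries_zero]
      intro e
      have hτ1 : (⟨τ, hτ⟩ : G) ∈ G1 := by
        rw [hG1, MonoidHom.mem_ker]
        refine Units.ext ?_
        show (Matrix.GeneralLinearGroup.det τ : F) = 1
        rw [Matrix.GeneralLinearGroup.val_det_apply, hτe, det_fin_two]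
        simp
      have := Subgroup.mem_bot.1 (e ▸ Subgroup.mem_top (⟨⟨τ, hτ⟩, hτ1⟩ : G1))
      have h1 := congrArg (fun z : G1 => ((z.1 : GL (Fin 2) F) : Matrix (Fin 2) (Fin 2) F) 0 1) this
      simp [hτe] at h1
    by_contra hcon
    push Not at hcon
    exact Nat.rec (motive := fun k => derivedSeries G1 k ≠ ⊥) hne hcon m hm
  obtain ⟨D, hD⟩ : ∃ D : Subgroup G, D = (derivedSeries G1 n).map G1.subtype := ⟨_, rfl⟩
  have hDnorm : ∀ g : G, ∀ d ∈ D, g * d * g⁻¹ ∈ D := by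
    rintro g d hd
    rw [hD] at hd ⊢
    obtain ⟨d', hd', rfl⟩ := hd
    refine ⟨(MulAut.conjNormal g) d', ?_, rfl⟩
    have h := (derivedSeries_characteristic G1 n).fixed (MulAut.conjNormal g)
    rw [← h] at hd'
    exact hd'
  have hDab : ∀ c ∈ D, ∀ d ∈ D, c * d = d * c := by
    rintro c hc d hd
    rw [hD] at hc hd
    obtain ⟨c', hc', rfl⟩ := hc
    obtain ⟨d', hd', rfl⟩ := hd
    rw [← map_mul, ← map_mul]
    refine congrArg _ (commutatorElement_eq_one_iff_mul_comm.1 ?_)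
    rw [← Subgroup.mem_bot, ← hn1, derivedSeries_succ]
    exact Subgroup.commutator_mem_commutator hc' hd'
  have hD1 : ∀ d ∈ D, d ∈ G1 := by
    rintro d hd
    rw [hD] at hd
    obtain ⟨d', -, rfl⟩ := hd
    exact d'.2
  -- case one: a unipotent element
  by_cases hcase : ∃ z ∈ D, z ≠ 1 ∧ ((z : GL (Fin 2) F) : Matrix (Fin 2) (Fin 2) F).trace = 2
  · obtain ⟨z, hz, hz1, htr⟩ := hcase
    obtain ⟨A, hA⟩ : ∃ A, A = ((z : GL (Fin 2) F) : Matrix (Fin 2) (Fin 2) F) := ⟨_, rfl⟩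
    have hd := hdet z (hD1 z hz)
    rw [← hA] at htr hd
    rw [det_fin_two] at hd
    rw [trace_fin_two] at htr
    have hcm := congrArg (fun w : G => ((w : GL (Fin 2) F) : Matrix (Fin 2) (Fin 2) F))
      (hDab z hz _ (hDnorm ⟨τ, hτ⟩ z hz))
    simp only [Subgroup.coe_mul, Subgroup.coe_inv, Units.val_mul] at hcm
    have hti : ((τ⁻¹ : GL (Fin 2) F) : Matrix (Fin 2) (Fin 2) F) = !![1, -1; 0, 1] := by
      rw [Matrix.coe_units_inv, hτe]
      refine Matrix.inv_eq_right_inv ?_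
      ext i j
      fin_cases i <;> fin_cases j <;> simp [Matrix.mul_apply, Fin.sum_univ_two]
    rw [← hA, hτe, hti] at hcm
    have e10 := congrFun (congrFun hcm 1) 0
    simp [Matrix.mul_apply, Matrix.vecMul, dotProduct, Fin.sum_univ_two] at e10
    have hc : A 1 0 = 0 := (pow_eq_zero_iff two_ne_zero).1 ((mul_eq_zero.1
      (show (2 : F) * (A 1 0) ^ 2 = 0 by first | linear_combination e10 | linear_combination -e10)).resolve_left h20)
    have ha : A 0 0 = 1 := by
      rw [hc, mul_zero, sub_zero] at hd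
      exact sub_eq_zero.1 ((pow_eq_zero_iff two_ne_zero).1 (show (A 0 0 - 1) ^ 2 = 0 by linear_combination A 0 0 * htr - hd))
    have he : A 1 1 = 1 := by linear_combination htr - ha
    have hb : A 0 1 ≠ 0 := fun e => hz1 (Subtype.ext (Units.ext (by
      show ((z : GL (Fin 2) F) : Matrix (Fin 2) (Fin 2) F) = 1
      rw [← hA]
      ext i j
      fin_cases i <;> fin_cases j <;> simp [ha, he, hc, e])))
    intro g hg
    have hcm := congrArg (fun w : G => ((w : GL (Fin 2) F) : Matrix (Fin 2) (Fin 2) F))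
      (hDab z hz _ (hDnorm ⟨g, hg⟩ z hz))
    simp only [Subgroup.coe_mul, Subgroup.coe_inv, Units.val_mul] at hcm
    rw [← hA, Matrix.coe_units_inv, Matrix.inv_def, adjugate_fin_two] at hcm
    have e := congrFun (congrFun hcm 1) 1
    simp [Matrix.mul_apply, Fin.sum_univ_two, ha, he, hc] at e
    have hdg : (g : Matrix (Fin 2) (Fin 2) F).det ≠ 0 := (Matrix.GeneralLinearGroup.det g).ne_zero
    replace e := e.resolve_right hb
    have h2 : A 0 1 * (g : Matrix (Fin 2) (Fin 2) F) 1 0 ^ 2 * (g : Matrix (Fin 2) (Fin 2) F).det⁻¹ = 0 := by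
      linear_combination -e
    exact (pow_eq_zero_iff two_ne_zero).1
      ((mul_eq_zero.1 ((mul_eq_zero.1 h2).resolve_right (inv_ne_zero hdg))).resolve_left hb)
  -- case two: semisimple
  exfalso
  push Not at hcase
  obtain ⟨d, hd, hd1⟩ : ∃ d ∈ D, d ≠ 1 := by
    obtain ⟨d, hd, hd1⟩ := (Subgroup.bot_or_exists_ne_one (derivedSeries G1 n)).resolve_left hn
    exact ⟨d, hD ▸ ⟨d, hd, rfl⟩, fun e => hd1 (Subtype.ext e)⟩
  obtain ⟨A, hA⟩ : ∃ A, A = ((d : GL (Fin 2) F) : Matrix (Fin 2) (Fin 2) F) := ⟨_, rfl⟩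
  have htr := hcase d hd hd1
  have hdd := hdet d (hD1 d hd)
  rw [← hA] at htr hdd
  rw [det_fin_two] at hdd
  rw [trace_fin_two] at htr
  have hti : ((τ⁻¹ : GL (Fin 2) F) : Matrix (Fin 2) (Fin 2) F) = !![1, -1; 0, 1] := by
    rw [Matrix.coe_units_inv, hτe]
    refine Matrix.inv_eq_right_inv ?_
    ext i j
    fin_cases i <;> fin_cases j <;> simp [Matrix.mul_apply, Fin.sum_univ_two]
  have hcm := congrArg (fun w : G => ((w : GL (Fin 2) F) : Matrix (Fin 2) (Fin 2) F))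
    (hDab d hd _ (hDnorm ⟨τ, hτ⟩ d hd))
  simp only [Subgroup.coe_mul, Subgroup.coe_inv, Units.val_mul] at hcm
  rw [← hA, hτe, hti] at hcm
  have e10 := congrFun (congrFun hcm 1) 0
  simp [Matrix.mul_apply, Matrix.vecMul, dotProduct, Fin.sum_univ_two] at e10
  have hc : A 1 0 = 0 := (pow_eq_zero_iff two_ne_zero).1 ((mul_eq_zero.1
    (show (2 : F) * (A 1 0) ^ 2 = 0 by first | linear_combination e10 | linear_combination -e10)).resolve_left h20)
  have e01 := congrFun (congrFun hcm 0) 1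
  simp [Matrix.mul_apply, Matrix.vecMul, dotProduct, Fin.sum_univ_two, hc] at e01
  have hae : A 0 0 = A 1 1 := sub_eq_zero.1 ((pow_eq_zero_iff two_ne_zero).1
    (show (A 0 0 - A 1 1) ^ 2 = 0 by first | linear_combination e01 | linear_combination -e01))
  rw [hc, mul_zero, sub_zero, ← hae] at hdd
  rcases mul_eq_zero.1 (show (A 0 0 - 1) * (A 0 0 + 1) = 0 by linear_combination hdd) with h1 | h1
  · exact htr (by rw [← hae, sub_eq_zero.1 h1]; norm_num)
  · -- then a power is minus one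
    refine hneg ((d : GL (Fin 2) F) ^ p) (G.pow_mem d.2 p) ?_
    haveI : CharP (Matrix (Fin 2) (Fin 2) F) p := matrix_charP p
    obtain ⟨E, hE⟩ : ∃ E : Matrix (Fin 2) (Fin 2) F, E = !![0, A 0 1; 0, 0] := ⟨_, rfl⟩
    have hAE : A = -1 + E := by
      rw [hE]
      ext i j
      fin_cases i <;> fin_cases j <;> simp [hc, ← hae, eq_neg_of_add_eq_zero_left h1]
    have hEE : E * E = 0 := by
      rw [hE]; ext i j; fin_cases i <;> fin_cases j <;> simp [Matrix.mul_apply, Fin.sum_univ_two]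
    rw [Units.val_pow_eq_pow_val, ← hA, hAE, add_pow_char_of_commute p ((Commute.one_left E).neg_left),
      (hp'.odd_of_ne_two hp2).neg_pow, one_pow,
      show E ^ p = 0 from pow_eq_zero_of_le hp'.two_le (by rw [pow_two, hEE]), add_zero]

/-- in the coordinates of the frame, the stabiliser of the point fixes the flag -/
theorem fixes_flag [Fintype F] (hp2 : p ≠ 2) (hM : M ≤ specialLinear (Fin 3) F) (hno : NoTv M) {u : GL (Fin 3) F}
    (hu : u ∈ M) (hu1 : u ≠ 1) (hup : u ^ p = 1) {a b c : Fin 3 → F} (hli : LinearIndependent F ![a, b, c])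
    (hua : (u : Matrix (Fin 3) (Fin 3) F) *ᵥ a = a) (hub : (u : Matrix (Fin 3) (Fin 3) F) *ᵥ b = b + a)
    (huc : (u : Matrix (Fin 3) (Fin 3) F) *ᵥ c = c + b) {g : GL (Fin 3) F} (hg : g ∈ M)
    (hga : ∃ e : F, (g : Matrix (Fin 3) (Fin 3) F) *ᵥ a = e • a) :
    ∃ r s : F, (g : Matrix (Fin 3) (Fin 3) F) *ᵥ b = r • a + s • b := by
  classical
  let B : Module.Basis (Fin 3) F (Fin 3 → F) := basisOfLinearIndependentOfCardEqFinrank hli (by simp)
  have hB : ∀ k, B k = ![a, b, c] k := fun k => by simp [B]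
  let Q : Matrix (Fin 3) (Fin 3) F →ₐ[F] Matrix (Fin 3) (Fin 3) F :=
    ((Matrix.toLinAlgEquiv' : Matrix (Fin 3) (Fin 3) F ≃ₐ[F] _).trans (LinearMap.toMatrixAlgEquiv B)).toAlgHom
  have hQ : ∀ (A : Matrix (Fin 3) (Fin 3) F) i j, Q A i j = B.repr (A *ᵥ B j) i := fun A i j => by
    show LinearMap.toMatrix B B (Matrix.toLin' A) i j = _
    rw [LinearMap.toMatrix_apply, Matrix.toLin'_apply]
  let Qg : GL (Fin 3) F →* GL (Fin 3) F := Units.map Q.toMonoidHom
  let S : Subgroup (GL (Fin 3) F) :=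
    { carrier := {g | g ∈ M ∧ ∃ e : F, (g : Matrix (Fin 3) (Fin 3) F) *ᵥ a = e • a}
      one_mem' := ⟨M.one_mem, 1, by rw [Units.val_one, one_mulVec, one_smul]⟩
      mul_mem' := fun {g h} hg hh => ⟨M.mul_mem hg.1 hh.1, by
        obtain ⟨e, he⟩ := hg.2
        obtain ⟨e', he'⟩ := hh.2
        exact ⟨e' * e, by rw [gl_mul_mulVec, he', mulVec_smul, he, smul_smul]⟩⟩
      inv_mem' := fun {g} hg => ⟨M.inv_mem hg.1, by
        obtain ⟨e, he⟩ := hg.2
        have h1 := congrArg (fun w => ((g⁻¹ : GL (Fin 3) F) : Matrix (Fin 3) (Fin 3) F) *ᵥ w) he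
        simp only [gl_inv_mulVec, mulVec_smul] at h1
        refine ⟨e⁻¹, ?_⟩
        have he0 : e ≠ 0 := fun e0 => by
          rw [e0, zero_smul] at he
          exact hli.ne_zero 0 (gl_mulVec_eq_zero.1 he)
        conv_rhs => rw [h1]
        rw [smul_smul, inv_mul_cancel₀ he0, one_smul]⟩ }
  have hcol : ∀ h ∈ S, ∀ i : Fin 2, Q (h : Matrix (Fin 3) (Fin 3) F) i.succ 0 = 0 := by
    rintro h ⟨-, e, he⟩ i
    rw [hQ, hB, show ![a, b, c] 0 = a from rfl, he, map_smul, show a = B 0 by rw [hB]; rfl, Module.Basis.repr_self]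
    simp [Fin.succ_ne_zero]
  let blk : S →* Matrix (Fin 2) (Fin 2) F :=
    { toFun := fun h => Matrix.of fun i j => Q (h.1 : Matrix (Fin 3) (Fin 3) F) i.succ j.succ
      map_one' := by ext i j; simp [Matrix.one_apply]
      map_mul' := fun g h => by
        ext i j
        simp only [Subgroup.coe_mul, Units.val_mul, map_mul, Matrix.mul_apply, Matrix.of_apply, Fin.sum_univ_succ,
          hcol g g.2, zero_mul, zero_add] }
  let π : S →* GL (Fin 2) F := blk.toHomUnits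
  have hπ : ∀ (h : S) i j, (π h : Matrix (Fin 2) (Fin 2) F) i j = B.repr ((h.1 : Matrix (Fin 3) (Fin 3) F) *ᵥ B j.succ) i.succ :=
    fun h i j => hQ _ _ _
  have huS : u ∈ S := ⟨hu, 1, by rw [hua, one_smul]⟩
  have hBa : a = B 0 := (hB 0).symm
  have hBb : b = B 1 := (hB 1).symm
  have hBc : c = B 2 := (hB 2).symm
  have hτ : (π ⟨u, huS⟩ : Matrix (Fin 2) (Fin 2) F) = !![1, 1; 0, 1] := by
    ext i j
    rw [hπ]
    fin_cases j
    · show B.repr ((u : Matrix (Fin 3) (Fin 3) F) *ᵥ B 1) i.succ = _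
      rw [← hBb, hub, map_add, hBb, hBa, Module.Basis.repr_self, Module.Basis.repr_self]
      fin_cases i <;> simp
    · show B.repr ((u : Matrix (Fin 3) (Fin 3) F) *ᵥ B 2) i.succ = _
      rw [← hBc, huc, map_add, hBc, hBb, Module.Basis.repr_self, Module.Basis.repr_self]
      fin_cases i <;> simp
  have hneg : ∀ h ∈ π.range, (h : Matrix (Fin 2) (Fin 2) F) ≠ -1 := by
    rintro _ ⟨h, rfl⟩ e
    obtain ⟨e0, he0⟩ := h.2.2
    have ha0 : a ≠ 0 := hli.ne_zero 0
    refine no_neg_quot hp2 hM hno hu hu1 hup ha0 hua h.2.1 fun v => ?_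
    have hk : ∀ k, ∃ t : F, (h.1 : Matrix (Fin 3) (Fin 3) F) *ᵥ B k = -B k + t • a := by
      intro k
      refine Fin.cases ?_ (fun j => ?_) k
      · exact ⟨e0 + 1, by rw [← hBa, he0, add_smul, one_smul]; abel⟩
      · refine ⟨B.repr ((h.1 : Matrix (Fin 3) (Fin 3) F) *ᵥ B j.succ) 0, B.repr.injective (Finsupp.ext fun i => ?_)⟩
        rw [map_add, map_neg, map_smul, hBa, Module.Basis.repr_self, Module.Basis.repr_self]
        refine Fin.cases ?_ (fun i' => ?_) i
        · simp [Fin.succ_ne_zero]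
        · have := congrFun (congrFun e i') j
          rw [hπ] at this
          rw [this]
          simp [Finsupp.single_apply, Matrix.one_apply, Fin.succ_inj, eq_comm]
    choose t ht using hk
    refine ⟨∑ k, B.repr v k * t k, ?_⟩
    conv_lhs => rw [← B.sum_repr v]
    conv_rhs => rw [← B.sum_repr v]
    rw [mulVec_sum, Finset.sum_smul, ← Finset.sum_neg_distrib, ← Finset.sum_add_distrib]
    refine Finset.sum_congr rfl fun k _ => ?_
    rw [mulVec_smul, ht, B.sum_repr]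
    module
  have h10 := plane_line hp.out hp2 (G := π.range) ⟨⟨u, huS⟩, rfl⟩ hτ hneg (π ⟨g, hg, hga⟩) ⟨_, rfl⟩
  rw [hπ] at h10
  refine ⟨B.repr ((g : Matrix (Fin 3) (Fin 3) F) *ᵥ b) 0, B.repr ((g : Matrix (Fin 3) (Fin 3) F) *ᵥ b) 1, ?_⟩
  have h2 : B.repr ((g : Matrix (Fin 3) (Fin 3) F) *ᵥ b) 2 = 0 := by rw [hBb]; exact h10
  conv_lhs => rw [← B.sum_repr ((g : Matrix (Fin 3) (Fin 3) F) *ᵥ b), Fin.sum_univ_three, h2, zero_smul, add_zero]
  rw [← hBa, ← hBb]

/-- no symmetric group of degree three fixes the point, in characteristic at least five -/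
theorem no_sym [Fintype F] (hp5 : 5 ≤ p) (hM : M ≤ specialLinear (Fin 3) F) (hno : NoTv M) {u : GL (Fin 3) F}
    (hu : u ∈ M) (hu1 : u ≠ 1) (hup : u ^ p = 1) {x : Fin 3 → F} (hx : x ≠ 0)
    (hux : (u : Matrix (Fin 3) (Fin 3) F) *ᵥ x = x) {c w : GL (Fin 3) F} (hc : c ∈ M) (hw : w ∈ M) (hc1 : c ≠ 1)
    (hc3 : c ^ 3 = 1) (hcw : w * c * w⁻¹ = c ^ 2) (hcx : ∃ e : F, (c : Matrix (Fin 3) (Fin 3) F) *ᵥ x = e • x)
    (hwx : ∃ e : F, (w : Matrix (Fin 3) (Fin 3) F) *ᵥ x = e • x) : False := by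
  classical
  obtain ⟨a, b, d, hli, hua, hub, hud, hfix⟩ := exists_frame hno hu hu1 hup
  obtain ⟨t, rfl⟩ := hfix x hux
  have ht : t ≠ 0 := fun e => hx (by rw [e, zero_smul])
  have hline : ∀ g : GL (Fin 3) F, (∃ e : F, (g : Matrix (Fin 3) (Fin 3) F) *ᵥ (t • a) = e • t • a) →
      ∃ e : F, (g : Matrix (Fin 3) (Fin 3) F) *ᵥ a = e • a := fun g ⟨e, he⟩ => ⟨e, by
    rw [mulVec_smul, smul_comm] at he
    exact smul_right_injective _ ht he⟩
  obtain ⟨c0, hc0⟩ := hline c hcx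
  obtain ⟨w0, hw0⟩ := hline w hwx
  obtain ⟨cr, cs, hcb⟩ := fixes_flag (by omega) hM hno hu hu1 hup hli hua hub hud hc ⟨c0, hc0⟩
  obtain ⟨wr, ws, hwb⟩ := fixes_flag (by omega) hM hno hu hu1 hup hli hua hub hud hw ⟨w0, hw0⟩
  let B : Module.Basis (Fin 3) F (Fin 3 → F) := basisOfLinearIndependentOfCardEqFinrank hli (by simp)
  have hB : ∀ k, B k = ![a, b, d] k := fun k => by simp [B]
  obtain ⟨co, hco⟩ : ∃ co : (Fin 3 → F) → Fin 3 → F, co = fun v i => B.repr v i := ⟨_, rfl⟩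
  have hdec : ∀ v, v = co v 0 • a + co v 1 • b + co v 2 • d := by
    intro v
    conv_lhs => rw [← B.sum_repr v, Fin.sum_univ_three, hB, hB, hB]
    rw [hco]
    simp
  obtain ⟨c2, hc2⟩ : ∃ e, e = co ((c : Matrix (Fin 3) (Fin 3) F) *ᵥ d) := ⟨_, rfl⟩
  obtain ⟨w2, hw2⟩ : ∃ e, e = co ((w : Matrix (Fin 3) (Fin 3) F) *ᵥ d) := ⟨_, rfl⟩
  have hcd := hc2 ▸ hdec ((c : Matrix (Fin 3) (Fin 3) F) *ᵥ d)
  have hwd := hw2 ▸ hdec ((w : Matrix (Fin 3) (Fin 3) F) *ᵥ d)
  -- the diagonal entries of `c` are one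
  have hrel : w * c = c * c * w := by rw [← pow_two, ← hcw, inv_mul_cancel_right]
  have hc30 : c * c * c = 1 := by rw [← pow_two, ← pow_succ, hc3]
  have hind : ∀ r s q : F, r • a + s • b + q • d = 0 → r = 0 ∧ s = 0 ∧ q = 0 := by
    intro r s q h
    have h1 := Fintype.linearIndependent_iff.1 hli ![r, s, q] (by rw [Fin.sum_univ_three]; simpa using h)
    exact ⟨h1 0, h1 1, h1 2⟩
  have e1 : c0 = 1 := by
    have h1 := congrArg (fun A : GL (Fin 3) F => (A : Matrix (Fin 3) (Fin 3) F) *ᵥ a) hrel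
    have h3 := congrArg (fun A : GL (Fin 3) F => (A : Matrix (Fin 3) (Fin 3) F) *ᵥ a) hc30
    simp only [gl_mul_mulVec, hc0, hw0, mulVec_smul, smul_smul, Units.val_one, one_mulVec] at h1 h3
    have hw00 : w0 ≠ 0 := fun e => hli.ne_zero 0 (gl_mulVec_eq_zero.1 (show (w : Matrix (Fin 3) (Fin 3) F) *ᵥ a = 0 by rw [hw0, e, zero_smul]))
    have hA : c0 * w0 - w0 * c0 * c0 = 0 := (hind _ 0 0 (by
      linear_combination (norm := module) h1)).1
    have hA3 : c0 * c0 * c0 - 1 = 0 := (hind _ 0 0 (by linear_combination (norm := module) h3)).1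
    have : c0 * (1 - c0) = 0 := (mul_eq_zero.1 (show w0 * (c0 * (1 - c0)) = 0 by linear_combination hA)).resolve_left hw00
    rcases mul_eq_zero.1 this with e | e
    · rw [e] at hA3; norm_num at hA3
    · linear_combination -e
  have e2 : cs = 1 := by
    have h1 := congrArg (fun A : GL (Fin 3) F => (A : Matrix (Fin 3) (Fin 3) F) *ᵥ b) hrel
    have h3 := congrArg (fun A : GL (Fin 3) F => (A : Matrix (Fin 3) (Fin 3) F) *ᵥ b) hc30
    simp only [gl_mul_mulVec, hcb, hwb, hc0, hw0, mulVec_smul, mulVec_add, smul_smul, smul_add, Units.val_one,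
      one_mulVec] at h1 h3
    have hws : ws ≠ 0 := fun e => by
      have h := hind wr (-(w0)) 0
      have : (w : Matrix (Fin 3) (Fin 3) F) *ᵥ (w0 • b - wr • a) = 0 := by
        rw [mulVec_sub, mulVec_smul, mulVec_smul, hwb, hw0, e]; module
      have h2 := gl_mulVec_eq_zero.1 this
      have h3 := (hind (-wr) w0 0 (by linear_combination (norm := module) h2)).2.1
      exact hli.ne_zero 0 (gl_mulVec_eq_zero.1 (show (w : Matrix (Fin 3) (Fin 3) F) *ᵥ a = 0 by rw [hw0, h3, zero_smul]))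
    have hA : cs * ws - ws * cs * cs = 0 := (hind (cs * wr + cr * w0 - (ws * cs * cr + ws * cr * c0 + wr * c0 * c0)) _ 0 (by
      linear_combination (norm := module) h1)).2.1
    have hA3 : cs * cs * cs - 1 = 0 := (hind (cs * cs * cr + cs * cr * c0 + cr * c0 * c0) _ 0 (by
      linear_combination (norm := module) h3)).2.1
    have : cs * (1 - cs) = 0 := (mul_eq_zero.1 (show ws * (cs * (1 - cs)) = 0 by linear_combination hA)).resolve_left hws
    rcases mul_eq_zero.1 this with e | e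
    · rw [e] at hA3; norm_num at hA3
    · linear_combination -e
  have e3 : c2 2 = 1 := by
    obtain ⟨L, hL⟩ : ∃ L : (Fin 3 → F) →ₗ[F] F, ∀ v, L v = co v 2 := ⟨B.coord 2, fun v => by rw [hco]; rfl⟩
    have hLa : L a = 0 := by rw [hL, hco, show a = B 0 from (hB 0).symm]; simp
    have hLb : L b = 0 := by rw [hL, hco, show b = B 1 from (hB 1).symm]; simp
    have hact : ∀ (g : GL (Fin 3) F) (r s q : F), (∃ e : F, (g : Matrix (Fin 3) (Fin 3) F) *ᵥ a = e • a) →
        (g : Matrix (Fin 3) (Fin 3) F) *ᵥ b = r • a + s • b → L ((g : Matrix (Fin 3) (Fin 3) F) *ᵥ d) = q →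
        ∀ v, L ((g : Matrix (Fin 3) (Fin 3) F) *ᵥ v) = q * L v := by
      rintro g r s q ⟨e, he⟩ hb hd v
      conv_lhs => rw [hdec v]
      rw [mulVec_add, mulVec_add, mulVec_smul, mulVec_smul, mulVec_smul, he, hb, map_add, map_add, map_smul, map_smul,
        map_smul, map_add, map_smul, map_smul, map_smul, hLa, hLb, hd, hL v, smul_eq_mul, smul_eq_mul]
      simp [mul_comm]
    have hcq := hact c cr cs (c2 2) ⟨c0, hc0⟩ hcb (by rw [hL, ← hc2])
    have hwq := hact w wr ws (w2 2) ⟨w0, hw0⟩ hwb (by rw [hL, ← hw2])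
    have hLd : L d = 1 := by rw [hL, hco, show d = B 2 from (hB 2).symm]; simp
    have hw22 : w2 2 ≠ 0 := fun e => by
      have h := hwq (((w⁻¹ : GL (Fin 3) F) : Matrix (Fin 3) (Fin 3) F) *ᵥ d)
      rw [gl_mulVec_inv, hLd, e, zero_mul] at h
      exact one_ne_zero h
    have h1 := congrArg (fun A : GL (Fin 3) F => L ((A : Matrix (Fin 3) (Fin 3) F) *ᵥ d)) hrel
    have h3 := congrArg (fun A : GL (Fin 3) F => L ((A : Matrix (Fin 3) (Fin 3) F) *ᵥ d)) hc30
    simp only [gl_mul_mulVec, hcq, hwq, hLd, Units.val_one, one_mulVec, mul_one] at h1 h3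
    have : c2 2 * (1 - c2 2) = 0 := (mul_eq_zero.1
      (show w2 2 * (c2 2 * (1 - c2 2)) = 0 by linear_combination h1)).resolve_left hw22
    rcases mul_eq_zero.1 this with e | e
    · rw [e] at h3; norm_num at h3
    · linear_combination -e
  -- so it is unipotent
  obtain ⟨N, hN⟩ : ∃ N, N = (c : Matrix (Fin 3) (Fin 3) F) - 1 := ⟨_, rfl⟩
  have hNa : N *ᵥ a = 0 := by rw [hN, sub_mulVec, hc0, e1, one_smul, one_mulVec, sub_self]
  have hNb : N *ᵥ b = cr • a := by rw [hN, sub_mulVec, hcb, e2, one_smul, one_mulVec, add_sub_cancel_right]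
  have hNd : N *ᵥ d = c2 0 • a + c2 1 • b := by
    rw [hN, sub_mulVec, one_mulVec]
    conv_lhs => rw [hcd, e3, one_smul, add_sub_cancel_right]
  have hN3 : N ^ 3 = 0 := by
    refine Matrix.ext_iff_mulVec.2 fun v => ?_
    rw [zero_mulVec, hdec v, pow_succ, pow_two, ← mulVec_mulVec, ← mulVec_mulVec]
    simp only [mulVec_add, mulVec_smul, hNa, hNb, hNd, smul_zero, add_zero, mulVec_zero, zero_add]
  haveI : CharP (Matrix (Fin 3) (Fin 3) F) p := matrix_charP p
  have hcp : c ^ p = 1 := by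
    refine Units.ext ?_
    rw [Units.val_pow_eq_pow_val, show (c : Matrix (Fin 3) (Fin 3) F) = 1 + N by rw [hN]; abel,
      add_pow_char_of_commute p (Commute.one_left N), one_pow,
      show N ^ p = 0 from pow_eq_zero_of_le (by omega) hN3, add_zero, Units.val_one]
  have hord := Nat.dvd_gcd (orderOf_dvd_of_pow_eq_one hc3) (orderOf_dvd_of_pow_eq_one hcp)
  rw [(Nat.coprime_primes Nat.prime_three hp.out).2 (by omega)] at hord
  exact hc1 (orderOf_eq_one_iff.1 (Nat.dvd_one.1 hord))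

end CfsgLib.Perm.Trans.ThreeDim
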