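import Cfsg.Agent.Lib.Perm.Trans.ThreeDim.Unip

/-!
# The averaged endomorphism

A group without transvections whose only equivariant endomorphisms of the trace zero matrices are
scalars has order prime to the characteristic, for characteristic at least seven.
-/

set_option autoImplicit false
set_option linter.all false

namespace CfsgLib.Perm.Trans.ThreeDim

open scoped Matrix
open Matrix Cfsg.Geo CfsgLib.Perm.Asch CfsgLib.Perm.Trans

variable {F : Type*} [Field F]

/-- only scalars commute with the action on trace zero matrices -/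
def AdSimple (M : Subgroup (GL (Fin 3) F)) : Prop :=
  ∀ f : Matrix (Fin 3) (Fin 3) F →ₗ[F] Matrix (Fin 3) (Fin 3) F,
    (∀ g ∈ M, ∀ A, f ((g : Matrix (Fin 3) (Fin 3) F) * A * ((g⁻¹ : GL (Fin 3) F) : Matrix (Fin 3) (Fin 3) F)) =
      (g : Matrix (Fin 3) (Fin 3) F) * f A * ((g⁻¹ : GL (Fin 3) F) : Matrix (Fin 3) (Fin 3) F)) →
    f 1 = 0 → ∃ c : F, ∀ A, Matrix.trace A = 0 → f A = c • A

/-- the first coefficient of an element commuting with a regular unipotent one is rational -/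
def Rational (M : Subgroup (GL (Fin 3) F)) : Prop :=
  ∀ u ∈ M, ∀ v ∈ M, ∀ β γ : F, ((u : Matrix (Fin 3) (Fin 3) F) - 1) ^ 3 = 0 →
    ((u : Matrix (Fin 3) (Fin 3) F) - 1) ^ 2 ≠ 0 →
    (v : Matrix (Fin 3) (Fin 3) F) = 1 + β • ((u : Matrix (Fin 3) (Fin 3) F) - 1) +
      γ • ((u : Matrix (Fin 3) (Fin 3) F) - 1) ^ 2 → ∃ k : ℕ, β = (k : F)

section Algebra

variable {R : Type*} [Ring R]

theorem unip_pow (N : R) (h3 : N * N * N = 0) (k : ℕ) :
    (1 + N) ^ k = 1 + k • N + k.choose 2 • (N * N) := by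
  induction k with
  | zero => simp
  | succ k ih =>
    rw [pow_succ, ih, Nat.choose_succ_succ, Nat.choose_one_right]
    simp only [add_mul, mul_add, one_mul, mul_one, smul_mul_assoc, h3, smul_zero, add_smul, succ_nsmul]
    abel

theorem cube_mul (N : R) : N ^ 3 = N * N * N := by rw [pow_succ, pow_two]

end Algebra

/-- sums over an orbit-closed set of nonfixed points -/
theorem sum_nonfixed_eq_zero {ι V : Type*} [DecidableEq ι] [AddCommGroup V] {p : ℕ} (hp : p.Prime)
    (π : ι → ι) (hπ : ∀ q, π^[p] q = q) (T : ι → V) (U : V → V) (hT : ∀ q, T (π q) = U (T q))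
    (hU : ∀ v, ∑ i ∈ Finset.range p, U^[i] v = 0) (s : Finset ι) (hs : ∀ q ∈ s, π q ≠ q ∧ π q ∈ s) :
    ∑ q ∈ s, T q = 0 ∧ p ∣ s.card := by
  have hinj : Function.Injective π := fun x y h => by
    have := congrArg π^[p - 1] h
    rwa [← Function.iterate_succ_apply, ← Function.iterate_succ_apply, Nat.succ_eq_add_one,
      Nat.sub_add_cancel hp.one_lt.le, hπ, hπ] at this
  induction s using Finset.strongInduction with
  | H s ih =>
    rcases s.eq_empty_or_nonempty with rfl | ⟨q, hq⟩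
    · simp
    have hper : Function.minimalPeriod π q = p := by
      rcases (Nat.dvd_prime hp).1 (Function.IsPeriodicPt.minimalPeriod_dvd (hπ q)) with h | h
      · exact absurd (Function.minimalPeriod_eq_one_iff_isFixedPt.1 h) (hs q hq).1
      · exact h
    have hmem : ∀ i, π^[i] q ∈ s := fun i => by
      induction i with
      | zero => exact hq
      | succ i ihi => rw [Function.iterate_succ_apply']; exact (hs _ ihi).2
    have hio : Set.InjOn (fun i => π^[i] q) (Finset.range p : Finset ℕ) := by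
      intro i hi j hj h
      refine Function.iterate_injOn_Iio_minimalPeriod ?_ ?_ h
      · rw [hper]; simpa using hi
      · rw [hper]; simpa using hj
    set O := (Finset.range p).image fun i => π^[i] q with hO
    have hsub : O ⊆ s := by
      intro y hy
      rw [hO, Finset.mem_image] at hy
      obtain ⟨i, -, rfl⟩ := hy
      exact hmem i
    have hqO : q ∈ O := Finset.mem_image.2 ⟨0, Finset.mem_range.2 hp.pos, rfl⟩
    have hTi : ∀ i, T (π^[i] q) = U^[i] (T q) := fun i => by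
      induction i with
      | zero => rfl
      | succ i ihi => rw [Function.iterate_succ_apply', Function.iterate_succ_apply', hT, ihi]
    obtain ⟨h1, h2⟩ := ih (s \ O) (Finset.sdiff_ssubset hsub ⟨q, hqO⟩) (by
      intro y hy
      rw [Finset.mem_sdiff] at hy
      refine ⟨(hs y hy.1).1, Finset.mem_sdiff.2 ⟨(hs y hy.1).2, fun hc => hy.2 ?_⟩⟩
      rw [hO, Finset.mem_image] at hc ⊢
      obtain ⟨i, hi, hiy⟩ := hc
      rcases i with _ | i
      · refine ⟨p - 1, Finset.mem_range.2 (Nat.sub_lt hp.pos Nat.one_pos), hinj ?_⟩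
        show π (π^[p - 1] q) = π y
        rw [← Function.iterate_succ_apply' π (p - 1) q, Nat.succ_eq_add_one, Nat.sub_add_cancel hp.one_lt.le, hπ]
        exact hiy
      · refine ⟨i, Finset.mem_range.2 (by have := Finset.mem_range.1 hi; omega), hinj ?_⟩
        show π (π^[i] q) = π y
        rw [← Function.iterate_succ_apply' π i q]
        exact hiy)
    refine ⟨?_, ?_⟩
    · rw [← Finset.sum_sdiff hsub, h1, zero_add, hO, Finset.sum_image hio]
      simp only [hTi]
      exact hU _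
    · rw [← Finset.card_sdiff_add_card_eq_card hsub, hO, Finset.card_image_of_injOn hio, Finset.card_range]
      exact dvd_add h2 dvd_rfl

variable [Fintype F] {p : ℕ} [hp : Fact p.Prime] [CharP F p] {M : Subgroup (GL (Fin 3) F)}

/-- the standard adjoint -/
def J0 : Matrix (Fin 3) (Fin 3) F := !![0, 0, 1; 0, -1, 0; 1, 0, 0]

/-- the standard regular nilpotent -/
def X0 : Matrix (Fin 3) (Fin 3) F := !![0, 1, 0; 0, 0, 1; 0, 0, 0]

/-- a regular unipotent element is inverted by an anti-automorphism negating its logarithm -/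
theorem exists_log {u : GL (Fin 3) F} (h2 : (2 : F) ≠ 0) (h3 : ((u : Matrix (Fin 3) (Fin 3) F) - 1) ^ 3 = 0)
    (hn2 : ((u : Matrix (Fin 3) (Fin 3) F) - 1) ^ 2 ≠ 0) :
    ∃ (x : Matrix (Fin 3) (Fin 3) F) (θ : Matrix (Fin 3) (Fin 3) F →ₗ[F] Matrix (Fin 3) (Fin 3) F),
      x * x * x = 0 ∧ x * x ≠ 0 ∧ x.trace = 0 ∧ (x * x).trace = 0 ∧
      (u : Matrix (Fin 3) (Fin 3) F) = 1 + x + (2 : F)⁻¹ • (x * x) ∧
      (∀ A B, θ (A * B) = θ B * θ A) ∧ θ 1 = 1 ∧ θ x = -x ∧
      θ (u : Matrix (Fin 3) (Fin 3) F) = ((u⁻¹ : GL (Fin 3) F) : Matrix (Fin 3) (Fin 3) F) := by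
  obtain ⟨N, hN⟩ : ∃ N, N = (u : Matrix (Fin 3) (Fin 3) F) - 1 := ⟨_, rfl⟩
  rw [← hN, cube_mul] at h3
  rw [← hN, pow_two] at hn2
  obtain ⟨x, hx⟩ : ∃ x, x = N - (2 : F)⁻¹ • (N * N) := ⟨_, rfl⟩
  have h4 : N * N * (N * N) = 0 := by rw [← mul_assoc, h3, zero_mul]
  have hxx : x * x = N * N := by
    rw [hx]
    simp only [sub_mul, mul_sub, Matrix.smul_mul, Matrix.mul_smul, h4, h3, ← mul_assoc, smul_zero, sub_zero, zero_mul]
  have hx3 : x * x * x = 0 := by
    rw [hxx, hx, mul_sub, Matrix.mul_smul, h4, h3, smul_zero, sub_zero]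
  have hu : (u : Matrix (Fin 3) (Fin 3) F) = 1 + x + (2 : F)⁻¹ • (x * x) := by
    rw [hxx, hx, hN]; abel
  obtain ⟨c, hc⟩ : ∃ c : Fin 3 → F, (x * x) *ᵥ c ≠ 0 := by
    by_contra hcon
    push Not at hcon
    exact hn2 (hxx ▸ Matrix.ext_iff_mulVec.2 fun v => by rw [hcon, zero_mulVec])
  let e : Fin 3 → Fin 3 → F := ![(x * x) *ᵥ c, x *ᵥ c, c]
  have hk : ∀ k, x *ᵥ ((x * x) *ᵥ c) = k → k = 0 := fun k h => by
    rw [← h, mulVec_mulVec, ← mul_assoc, hx3, zero_mulVec]
  have hli : LinearIndependent F e := by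
    rw [Fintype.linearIndependent_iff]
    intro g hg
    rw [Fin.sum_univ_three] at hg
    simp only [e, Matrix.cons_val_zero, Matrix.cons_val_one, Matrix.cons_val] at hg
    have e1 := congrArg (fun v => (x * x) *ᵥ v) hg
    simp only [mulVec_add, mulVec_smul, mulVec_mulVec, ← mul_assoc, hx3, zero_mul, zero_mulVec, mulVec_zero, smul_zero,
      zero_add] at e1
    have g2 : g 2 = 0 := (smul_eq_zero.1 e1).resolve_right hc
    have e2 := congrArg (fun v => x *ᵥ v) hg
    simp only [g2, zero_smul, add_zero, mulVec_add, mulVec_smul, mulVec_mulVec, ← mul_assoc, hx3, zero_mulVec,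
      mulVec_zero, smul_zero, zero_add] at e2
    have g1 : g 1 = 0 := (smul_eq_zero.1 e2).resolve_right hc
    rw [g1, g2, zero_smul, zero_smul, add_zero, add_zero] at hg
    intro i
    fin_cases i
    · exact (smul_eq_zero.1 hg).resolve_right hc
    · exact g1
    · exact g2
  obtain ⟨Q, hQ⟩ := (Matrix.linearIndependent_cols_iff_isUnit (A := Matrix.of fun i j => e j i)).1 hli
  have hxQ : x * (Q : Matrix (Fin 3) (Fin 3) F) = (Q : Matrix (Fin 3) (Fin 3) F) * X0 := by
    ext i j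
    have hl : (x * (Q : Matrix (Fin 3) (Fin 3) F)) i j = (x *ᵥ e j) i := by rw [hQ]; rfl
    rw [hl, hQ, Matrix.mul_apply, Fin.sum_univ_three]
    fin_cases j <;> simp [X0, e, mulVec_mulVec, ← mul_assoc, hx3]
  have hQx : ((Q⁻¹ : GL (Fin 3) F) : Matrix (Fin 3) (Fin 3) F) * x * (Q : Matrix (Fin 3) (Fin 3) F) = X0 := by
    rw [mul_assoc, hxQ, ← mul_assoc, Units.inv_mul, one_mul]
  have hxeq : x = (Q : Matrix (Fin 3) (Fin 3) F) * X0 * ((Q⁻¹ : GL (Fin 3) F) : Matrix (Fin 3) (Fin 3) F) := by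
    rw [← hxQ, mul_assoc, Units.mul_inv, mul_one]
  have hJJ : (J0 : Matrix (Fin 3) (Fin 3) F) * J0 = 1 := by
    ext i j; fin_cases i <;> fin_cases j <;> simp [J0, Matrix.mul_apply, Fin.sum_univ_three]
  let θ : Matrix (Fin 3) (Fin 3) F →ₗ[F] Matrix (Fin 3) (Fin 3) F :=
    { toFun := fun A => (Q : Matrix (Fin 3) (Fin 3) F) *
        (J0 * (((Q⁻¹ : GL (Fin 3) F) : Matrix (Fin 3) (Fin 3) F) * A * (Q : Matrix (Fin 3) (Fin 3) F))ᵀ * J0) *
        ((Q⁻¹ : GL (Fin 3) F) : Matrix (Fin 3) (Fin 3) F)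
      map_add' := fun A B => by simp only [mul_add, add_mul, Matrix.transpose_add]
      map_smul' := fun k A => by simp [Matrix.mul_smul, Matrix.smul_mul] }
  have hθ : ∀ A, θ A = (Q : Matrix (Fin 3) (Fin 3) F) *
        (J0 * (((Q⁻¹ : GL (Fin 3) F) : Matrix (Fin 3) (Fin 3) F) * A * (Q : Matrix (Fin 3) (Fin 3) F))ᵀ * J0) *
        ((Q⁻¹ : GL (Fin 3) F) : Matrix (Fin 3) (Fin 3) F) := fun A => rfl
  have hmul : ∀ A B, θ (A * B) = θ B * θ A := fun A B => by
    rw [hθ, hθ, hθ, show ((Q⁻¹ : GL (Fin 3) F) : Matrix (Fin 3) (Fin 3) F) * (A * B) * (Q : Matrix (Fin 3) (Fin 3) F) =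
      (((Q⁻¹ : GL (Fin 3) F) : Matrix (Fin 3) (Fin 3) F) * A * (Q : Matrix (Fin 3) (Fin 3) F)) *
        (((Q⁻¹ : GL (Fin 3) F) : Matrix (Fin 3) (Fin 3) F) * B * (Q : Matrix (Fin 3) (Fin 3) F)) by
      simp only [mul_assoc, Units.mul_inv_cancel_left], Matrix.transpose_mul]
    generalize (((Q⁻¹ : GL (Fin 3) F) : Matrix (Fin 3) (Fin 3) F) * A * (Q : Matrix (Fin 3) (Fin 3) F))ᵀ = A'
    generalize (((Q⁻¹ : GL (Fin 3) F) : Matrix (Fin 3) (Fin 3) F) * B * (Q : Matrix (Fin 3) (Fin 3) F))ᵀ = B'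
    simp only [mul_assoc, Units.inv_mul_cancel_left]
    rw [← mul_assoc J0 J0, hJJ, one_mul]
  have h1 : θ 1 = 1 := by
    rw [hθ, mul_one, Units.inv_mul, Matrix.transpose_one, mul_one, hJJ, mul_one, Units.mul_inv]
  have hθx : θ x = -x := by
    rw [hθ, hQx, show (J0 : Matrix (Fin 3) (Fin 3) F) * X0ᵀ * J0 = -X0 by
      ext i j; fin_cases i <;> fin_cases j <;> simp [J0, X0, Matrix.mul_apply, Fin.sum_univ_three, Matrix.vecMul, dotProduct], mul_neg, neg_mul,
      ← hxeq]
  refine ⟨x, θ, hx3, hxx ▸ hn2, ?_, ?_, hu, hmul, h1, hθx, ?_⟩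
  · rw [hxeq, Matrix.trace_mul_cycle, Units.inv_mul, one_mul]
    simp [X0, Matrix.trace, Fin.sum_univ_three]
  · rw [hxeq, show (Q : Matrix (Fin 3) (Fin 3) F) * X0 * ((Q⁻¹ : GL (Fin 3) F) : Matrix (Fin 3) (Fin 3) F) *
      ((Q : Matrix (Fin 3) (Fin 3) F) * X0 * ((Q⁻¹ : GL (Fin 3) F) : Matrix (Fin 3) (Fin 3) F)) =
      (Q : Matrix (Fin 3) (Fin 3) F) * (X0 * X0) * ((Q⁻¹ : GL (Fin 3) F) : Matrix (Fin 3) (Fin 3) F) by
      simp only [mul_assoc, Units.inv_mul_cancel_left], Matrix.trace_mul_cycle, Units.inv_mul, one_mul]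
    simp [X0, Matrix.trace, Fin.sum_univ_three, Matrix.mul_apply]
  · refine (left_inv_eq_right_inv (a := (u : Matrix (Fin 3) (Fin 3) F)) ?_ (Units.mul_inv u))
    rw [hu, map_add, map_add, map_smul, h1, hθx, hmul, hθx, neg_mul_neg]
    have hh : (2 : F)⁻¹ + (2 : F)⁻¹ = 1 := by field_simp; norm_num
    simp only [add_mul, mul_add, one_mul, mul_one, neg_mul, Matrix.smul_mul, Matrix.mul_smul, hx3, ← mul_assoc,
      zero_mul, smul_zero, neg_zero, add_zero]
    linear_combination (norm := module) (congrArg (fun k : F => k • (x * x)) hh)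

/-- Sylow subgroups have prime order -/
theorem exists_sylow_zpowers (hp2 : p ≠ 2) (hno : NoTv M) (hrat : Rational M) (hdvd : p ∣ Nat.card M) :
    ∃ u : M, u ≠ 1 ∧ u ^ p = 1 ∧ ¬ p ∣ (Subgroup.zpowers u).index := by
  classical
  have h20 : (2 : F) ≠ 0 := Ring.two_ne_zero (fun e => hp2 ((CharP.eq F (ringChar.charP F) ‹CharP F p›).symm.trans e))
  obtain ⟨P⟩ : Nonempty (Sylow p M) := inferInstance
  haveI : Nontrivial (P : Subgroup M) := by
    rw [← Finite.one_lt_card_iff_nontrivial]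
    exact lt_of_lt_of_le hp.out.one_lt (Nat.le_of_dvd Nat.card_pos (P.dvd_card_of_dvd_card hdvd))
  haveI := P.2.center_nontrivial
  obtain ⟨n, hn⟩ := (P.2.to_subgroup (Subgroup.center (P : Subgroup M))).exists_card_eq
  have hpz : p ∣ Nat.card (Subgroup.center (P : Subgroup M)) := by
    rw [hn]
    refine dvd_pow_self p fun e => ?_
    have := Finite.one_lt_card_iff_nontrivial.2 (inferInstance : Nontrivial (Subgroup.center (P : Subgroup M)))
    rw [hn, e, pow_zero] at this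
    exact lt_irrefl _ this
  obtain ⟨z, hz⟩ := exists_prime_orderOf_dvd_card' p hpz
  set u : M := ((z : (P : Subgroup M)) : M) with hu
  have huo : orderOf u = p := by rw [hu, Subgroup.orderOf_coe, Subgroup.orderOf_coe, hz]
  have hu1 : u ≠ 1 := fun e => by rw [e, orderOf_one] at huo; exact hp.out.ne_one huo.symm
  have hup : u ^ p = 1 := huo ▸ pow_orderOf_eq_one u
  refine ⟨u, hu1, hup, fun hd => P.not_dvd_index ?_⟩
  suffices h : (P : Subgroup M) ≤ Subgroup.zpowers u by
    exact hd.trans (Subgroup.index_dvd_of_le h)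
  intro v hv
  have hcomm : v * u = u * v := congrArg Subtype.val (Subgroup.mem_center_iff.1 z.2 ⟨v, hv⟩)
  obtain ⟨h3, hn2⟩ := regular_data hno u.2 (fun e => hu1 (Subtype.ext e)) (by
    rw [← SubgroupClass.coe_pow, hup]; rfl)
  obtain ⟨N, hN⟩ : ∃ N, N = ((u : GL (Fin 3) F) : Matrix (Fin 3) (Fin 3) F) - 1 := ⟨_, rfl⟩
  have hu' : ((u : GL (Fin 3) F) : Matrix (Fin 3) (Fin 3) F) = 1 + N := by rw [hN]; abel
  rw [← hN] at h3 hn2
  -- the commutant
  obtain ⟨c, hc⟩ : ∃ c, (N ^ 2) *ᵥ c ≠ 0 := by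
    by_contra hcon
    push Not at hcon
    exact hn2 (Matrix.ext_iff_mulVec.2 fun w => by rw [hcon, zero_mulVec])
  obtain ⟨V, hV⟩ : ∃ V, V = ((v : GL (Fin 3) F) : Matrix (Fin 3) (Fin 3) F) := ⟨_, rfl⟩
  have hVN : V * N = N * V := by
    have := congrArg (fun g : M => ((g : GL (Fin 3) F) : Matrix (Fin 3) (Fin 3) F)) hcomm
    simp only [Subgroup.coe_mul, Units.val_mul, hu', ← hV, mul_add, add_mul, mul_one, one_mul] at this
    exact add_left_cancel this
  have hli : LinearIndependent F ![c, N *ᵥ c, (N ^ 2) *ᵥ c] := by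
    rw [Fintype.linearIndependent_iff]
    intro g hg
    rw [Fin.sum_univ_three] at hg
    simp only [Matrix.cons_val_zero, Matrix.cons_val_one, Matrix.cons_val] at hg
    have e1 := congrArg (fun w => (N ^ 2) *ᵥ w) hg
    simp only [mulVec_add, mulVec_smul, mulVec_mulVec, ← pow_succ, ← pow_add, mulVec_zero, h3,
      show N ^ (2 + 2) = 0 from pow_eq_zero_of_le (by norm_num) h3, zero_mulVec, smul_zero, add_zero] at e1
    have g0 : g 0 = 0 := (smul_eq_zero.1 e1).resolve_right hc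
    have e2 := congrArg (fun w => N *ᵥ w) hg
    simp only [g0, zero_smul, zero_add, mulVec_add, mulVec_smul, mulVec_mulVec, ← pow_two, ← pow_succ', mulVec_zero, h3,
      zero_mulVec, smul_zero, add_zero] at e2
    have g1 : g 1 = 0 := (smul_eq_zero.1 e2).resolve_right hc
    rw [g0, g1, zero_smul, zero_smul, zero_add, zero_add] at hg
    intro i
    fin_cases i
    · exact g0
    · exact g1
    · exact (smul_eq_zero.1 hg).resolve_right hc
  obtain ⟨g, hg⟩ := (Submodule.mem_span_range_iff_exists_fun F).1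
    (show V *ᵥ c ∈ Submodule.span F (Set.range ![c, N *ᵥ c, (N ^ 2) *ᵥ c]) by
      rw [hli.span_eq_top_of_card_eq_finrank (by simp)]; trivial)
  rw [Fin.sum_univ_three] at hg
  simp only [Matrix.cons_val_zero, Matrix.cons_val_one, Matrix.cons_val] at hg
  obtain ⟨B, hB⟩ : ∃ B, B = g 0 • (1 : Matrix (Fin 3) (Fin 3) F) + g 1 • N + g 2 • N ^ 2 := ⟨_, rfl⟩
  have hBN : Commute B N := by
    rw [hB]
    exact (((Commute.one_left N).smul_left _).add_left ((Commute.refl N).smul_left _)).add_left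
      (((Commute.refl N).pow_left 2).smul_left _)
  have hc0 : V *ᵥ c = B *ᵥ c := by
    rw [← hg, hB, add_mulVec, add_mulVec, smul_mulVec, smul_mulVec, smul_mulVec, one_mulVec]
  have hVB : V = B := by
    have hcols : ∀ i, V *ᵥ ![c, N *ᵥ c, (N ^ 2) *ᵥ c] i = B *ᵥ ![c, N *ᵥ c, (N ^ 2) *ᵥ c] i := by
      intro i
      fin_cases i
      · exact hc0
      · show V *ᵥ (N *ᵥ c) = B *ᵥ (N *ᵥ c)
        rw [mulVec_mulVec, mulVec_mulVec, hVN, hBN.eq, ← mulVec_mulVec, ← mulVec_mulVec, hc0]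
      · show V *ᵥ ((N ^ 2) *ᵥ c) = B *ᵥ ((N ^ 2) *ᵥ c)
        rw [mulVec_mulVec, mulVec_mulVec, ((show Commute V N from hVN).pow_right 2).eq, (hBN.pow_right 2).eq,
          ← mulVec_mulVec, ← mulVec_mulVec, hc0]
    exact Matrix.toLin'.injective ((basisOfLinearIndependentOfCardEqFinrank hli (by simp)).ext fun i => by
      simpa using hcols i)
  haveI : CharP (Matrix (Fin 3) (Fin 3) F) p := matrix_charP p
  have hg0 : g 0 = 1 := by
    obtain ⟨k, hk⟩ := P.2 ⟨v, hv⟩
    have hpk : V ^ p ^ k = 1 := by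
      rw [hV, ← Units.val_pow_eq_pow_val, ← SubgroupClass.coe_pow,
        show v ^ p ^ k = 1 from congrArg Subtype.val hk]
      rfl
    have hnil : IsNilpotent (g 1 • N + g 2 • N ^ 2) :=
      Commute.isNilpotent_add (((Commute.refl N).pow_right 2).smul_left _ |>.smul_right _)
        (IsNilpotent.smul ⟨3, h3⟩ _) (IsNilpotent.smul ⟨2, by rw [← pow_mul]; exact pow_eq_zero_of_le (by norm_num) h3⟩ _)
    have e : V - g 0 • 1 = g 1 • N + g 2 • N ^ 2 := by rw [hVB, hB]; abel
    obtain ⟨m, hm⟩ := hnil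
    have hgp : (g 0) ^ p ^ (k + m) = 1 := by
      have h1 : (V - g 0 • 1) ^ p ^ (k + m) = 0 := by
        rw [e]
        exact pow_eq_zero_of_le ((Nat.le_add_left m k).trans (Nat.lt_pow_self hp.out.one_lt).le) hm
      rw [sub_pow_char_pow_of_commute p (k + m) ((Commute.one_right V).smul_right _), pow_add p k m, pow_mul V, hpk,
        one_pow, smul_pow, one_pow, ← pow_add, sub_eq_zero] at h1
      simpa using (congrFun (congrFun h1 0) 0).symm
    have h0 : (g 0 - 1) ^ p ^ (k + m) = 0 := by rw [sub_pow_char_pow, one_pow, hgp, sub_self]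
    exact sub_eq_zero.1 ((pow_eq_zero_iff (pow_ne_zero _ hp.out.ne_zero)).1 h0)
  have hv' : ((v : GL (Fin 3) F) : Matrix (Fin 3) (Fin 3) F) = 1 + g 1 • N + g 2 • N ^ 2 := by
    rw [← hV, hVB, hB, hg0, one_smul]
  obtain ⟨k, hk⟩ := hrat u u.2 v v.2 (g 1) (g 2) (hN ▸ h3) (hN ▸ hn2) (by rw [← hN]; exact hv')
  -- `v` differs from a power of `u` by a transvection
  have h3' : N * N * N = 0 := by rw [← cube_mul]; exact h3
  have huk : (((u ^ k : M) : GL (Fin 3) F) : Matrix (Fin 3) (Fin 3) F) = 1 + k • N + k.choose 2 • (N * N) := by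
    rw [SubgroupClass.coe_pow, Units.val_pow_eq_pow_val, hu', unip_pow N h3']
  obtain ⟨γ, hγ⟩ : ∃ γ, γ = g 2 - (k.choose 2 : F) := ⟨_, rfl⟩
  have hdiff : ((v : GL (Fin 3) F) : Matrix (Fin 3) (Fin 3) F) =
      (((u ^ k : M) : GL (Fin 3) F) : Matrix (Fin 3) (Fin 3) F) * (1 + γ • (N * N)) := by
    rw [hv', huk, hk, hγ, pow_two, ← Nat.cast_smul_eq_nsmul F k, ← Nat.cast_smul_eq_nsmul F (k.choose 2)]
    simp only [add_mul, mul_add, one_mul, mul_one, Matrix.smul_mul, Matrix.mul_smul, ← mul_assoc, h3', zero_mul,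
      smul_zero, add_zero]
    module
  obtain ⟨w, hw⟩ : ∃ w, w = (u ^ k)⁻¹ * v := ⟨_, rfl⟩
  have hwv : ((w : GL (Fin 3) F) : Matrix (Fin 3) (Fin 3) F) = 1 + γ • (N * N) := by
    rw [hw, Subgroup.coe_mul, Subgroup.coe_inv, Units.val_mul, hdiff, ← mul_assoc, Units.inv_mul, one_mul]
  have hw1 : w = 1 := by
    by_contra hw1
    have hwp : (w : GL (Fin 3) F) ^ p = 1 := Units.ext (by
      rw [Units.val_pow_eq_pow_val, hwv, Units.val_one, add_pow_char_of_commute p (Commute.one_left _), one_pow,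
        pow_eq_zero_of_le hp.out.two_le (show (γ • (N * N)) ^ 2 = 0 by
          rw [pow_two, Matrix.smul_mul, Matrix.mul_smul, ← mul_assoc (N * N) N N, h3', zero_mul, smul_zero, smul_zero]),
        add_zero])
    refine (regular_data hno w.2 (fun e => hw1 (Subtype.ext e)) hwp).2 ?_
    rw [hwv, add_sub_cancel_left, pow_two, Matrix.smul_mul, Matrix.mul_smul, ← mul_assoc (N * N) N N, h3', zero_mul,
      smul_zero, smul_zero]
  rw [hw, inv_mul_eq_one] at hw1
  exact hw1 ▸ pow_mem (Subgroup.mem_zpowers u) k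

/-- no transvections and scalar commutant on trace zero matrices: the order is prime to `p` -/
theorem not_dvd_card (hp7 : 7 ≤ p) (hno : NoTv M) (hsimple : AdSimple M) (hrat : Rational M) :
    ¬ p ∣ Nat.card M := by
  classical
  intro hdvd
  have h20 : (2 : F) ≠ 0 := Ring.two_ne_zero (fun e => by
    have := (CharP.eq F (ringChar.charP F) ‹CharP F p›).symm.trans e; omega)
  obtain ⟨u, hu1, hup, hidx⟩ := exists_sylow_zpowers (by omega : p ≠ 2) hno hrat hdvd
  obtain ⟨h3, hn2⟩ := regular_data hno u.2 (fun e => hu1 (Subtype.ext e)) (by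
    rw [← SubgroupClass.coe_pow, hup]; rfl)
  obtain ⟨x, θ, hx3, hx2, htx, htx2, hux, hθmul, hθ1, hθx, hθu⟩ := exists_log h20 h3 hn2
  let cj : M → Matrix (Fin 3) (Fin 3) F →ₗ[F] Matrix (Fin 3) (Fin 3) F := fun g =>
    (LinearMap.mulLeft F ((g : GL (Fin 3) F) : Matrix (Fin 3) (Fin 3) F)) ∘ₗ
      (LinearMap.mulRight F (((g : GL (Fin 3) F)⁻¹ : GL (Fin 3) F) : Matrix (Fin 3) (Fin 3) F))
  have hcj : ∀ g A, cj g A = ((g : GL (Fin 3) F) : Matrix (Fin 3) (Fin 3) F) * (A *
      (((g : GL (Fin 3) F)⁻¹ : GL (Fin 3) F) : Matrix (Fin 3) (Fin 3) F)) := fun g A => rfl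
  have hcjm : ∀ g h A, cj g (cj h A) = cj (g * h) A := fun g h A => by
    simp only [hcj, Subgroup.coe_mul, Units.val_mul, _root_.mul_inv_rev, mul_assoc]
  have hcj1 : ∀ A, cj 1 A = A := fun A => by simp [hcj]
  let e : Matrix (Fin 3) (Fin 3) F →ₗ[F] Matrix (Fin 3) (Fin 3) F := (2 : F)⁻¹ • (LinearMap.id - θ)
  have he : ∀ A, e A = (2 : F)⁻¹ • (A - θ A) := fun A => rfl
  have hθuinv : θ (((u : GL (Fin 3) F)⁻¹ : GL (Fin 3) F) : Matrix (Fin 3) (Fin 3) F) =
      ((u : GL (Fin 3) F) : Matrix (Fin 3) (Fin 3) F) := by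
    have h := hθmul ((u : GL (Fin 3) F) : Matrix (Fin 3) (Fin 3) F) (((u : GL (Fin 3) F)⁻¹ : GL (Fin 3) F) : Matrix (Fin 3) (Fin 3) F)
    rw [Units.mul_inv, hθ1, hθu] at h
    exact left_inv_eq_right_inv h.symm (Units.inv_mul _)
  have heu : ∀ A, e (cj u A) = cj u (e A) := fun A => by
    simp only [he, hcj, hθmul, hθu, hθuinv, Matrix.mul_smul, Matrix.smul_mul, mul_sub, sub_mul, mul_assoc]
  have hepow : ∀ k : ℕ, ∀ A, e (cj (u ^ k) A) = cj (u ^ k) (e A) := fun k => by
    induction k with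
    | zero => intro A; rw [pow_zero, hcj1, hcj1]
    | succ k ih => intro A; rw [pow_succ', ← hcjm, heu, ih, hcjm]
  have hez : ∀ h ∈ Subgroup.zpowers u, ∀ A, e (cj h A) = cj h (e A) := fun h hh => by
    obtain ⟨k, rfl⟩ := (mem_powers_iff_mem_zpowers (x := u)).2 hh
    exact hepow k
  have hex : e x = x := by
    rw [he, hθx, sub_neg_eq_add, ← two_smul F x, smul_smul, inv_mul_cancel₀ h20, one_smul]
  have hexx : e (x * x) = 0 := by rw [he, hθmul, hθx, neg_mul_neg, sub_self, smul_zero]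
  have he1 : e 1 = 0 := by rw [he, hθ1, sub_self, smul_zero]
  -- the average
  let Q := M ⧸ Subgroup.zpowers u
  haveI : Fintype Q := Fintype.ofFinite _
  let T : Q → Matrix (Fin 3) (Fin 3) F →ₗ[F] Matrix (Fin 3) (Fin 3) F := fun q => cj q.out ∘ₗ e ∘ₗ cj q.out⁻¹
  have hT : ∀ (g : M) A, T (g : Q) A = cj g (e (cj g⁻¹ A)) := fun g A => by
    obtain ⟨h, hh⟩ := QuotientGroup.mk_out_eq_mul (Subgroup.zpowers u) g
    show cj _ (e (cj _ A)) = _
    rw [hh, _root_.mul_inv_rev, ← hcjm g, ← hcjm _ g⁻¹, ← hez h h.2, hcjm, mul_inv_cancel, hcj1]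
  let f := ∑ q : Q, T q
  have hfA : ∀ A, f A = ∑ q : Q, T q A := fun A => LinearMap.sum_apply _ _ _
  have hTg : ∀ (g : M) (q : Q) A, T (g • q) (cj g A) = cj g (T q A) := fun g q A => by
    induction q using QuotientGroup.induction_on with
    | H h =>
      rw [MulAction.Quotient.smul_coe, smul_eq_mul, hT, hT, hcjm, _root_.mul_inv_rev, inv_mul_cancel_right, hcjm]
  have hfc : ∀ g : M, ∀ A, f (cj g A) = cj g (f A) := fun g A => by
    rw [hfA, hfA, map_sum]
    exact (Equiv.sum_comp (MulAction.toPerm g) (fun q => T q (cj g A))).symm.trans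
      (Finset.sum_congr rfl fun q _ => hTg g q A)
  obtain ⟨μ, hμ⟩ := hsimple f (fun g hg A => by simpa only [hcj, ← mul_assoc] using hfc ⟨g, hg⟩ A) (by
    rw [hfA]
    refine Finset.sum_eq_zero fun q _ => ?_
    show cj _ (e (cj _ 1)) = 0
    rw [show cj q.out⁻¹ 1 = 1 by rw [hcj, one_mul, Units.mul_inv], he1, map_zero])
  -- fixed cosets
  have hux' : cj u x = x := by
    have hc : ((u : GL (Fin 3) F) : Matrix (Fin 3) (Fin 3) F) * x = x * ((u : GL (Fin 3) F) : Matrix (Fin 3) (Fin 3) F) := by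
      rw [hux]; simp only [add_mul, mul_add, one_mul, mul_one, Matrix.smul_mul, Matrix.mul_smul, mul_assoc]
    rw [hcj, ← mul_assoc, hc, mul_assoc, Units.mul_inv, mul_one]
  have hN : ((u : GL (Fin 3) F) : Matrix (Fin 3) (Fin 3) F) - 1 = x + (2 : F)⁻¹ • (x * x) := by rw [hux]; abel
  have hfix : ∀ g : M, (g : Q) = u • (g : Q) → T (g : Q) x = x ∧ T (g : Q) (x * x) = 0 := by
    intro g hgq
    rw [MulAction.Quotient.smul_coe, smul_eq_mul, QuotientGroup.eq] at hgq
    obtain ⟨k, hk⟩ := (mem_powers_iff_mem_zpowers (x := u)).2 hgq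
    simp only at hk
    -- conjugation of the logarithm
    have hinv : cj g⁻¹ x = (k : F) • x := by
      have h1 : cj g⁻¹ ((u : GL (Fin 3) F) : Matrix (Fin 3) (Fin 3) F) =
          ((((u : M) ^ k : M) : GL (Fin 3) F) : Matrix (Fin 3) (Fin 3) F) := by
        rw [hk, hcj, ← Units.val_mul, ← Units.val_mul]
        simp [mul_assoc]
      rw [hux] at h1
      rw [SubgroupClass.coe_pow, Units.val_pow_eq_pow_val, hux, show (1 : Matrix (Fin 3) (Fin 3) F) + x + (2 : F)⁻¹ • (x * x) =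
        1 + (x + (2 : F)⁻¹ • (x * x)) by abel, unip_pow _ (by
          simp only [add_mul, mul_add, Matrix.smul_mul, Matrix.mul_smul, ← mul_assoc, hx3, zero_mul, smul_zero,
            add_zero]), map_add, map_add, map_smul] at h1
      have hNN : (x + (2 : F)⁻¹ • (x * x)) * (x + (2 : F)⁻¹ • (x * x)) = x * x := by
        simp only [add_mul, mul_add, Matrix.smul_mul, Matrix.mul_smul, ← mul_assoc, hx3, zero_mul, smul_zero, add_zero]
      have hc2 : (k.choose 2 : F) = ((k : F) * (k : F) - (k : F)) / 2 := by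
        haveI : NeZero (2 : F) := ⟨h20⟩
        rw [Nat.cast_choose_two]; ring
      rw [hNN, ← Nat.cast_smul_eq_nsmul F k, ← Nat.cast_smul_eq_nsmul F (k.choose 2), hc2] at h1
      have hone : cj g⁻¹ 1 = 1 := by rw [hcj, one_mul, Units.mul_inv]
      have hsq : cj g⁻¹ (x * x) = cj g⁻¹ x * cj g⁻¹ x := by
        simp only [hcj, mul_assoc, Units.inv_mul_cancel_left]
      obtain ⟨y, hy⟩ : ∃ y, y = cj g⁻¹ x := ⟨_, rfl⟩
      rw [hone, hsq, ← hy] at h1
      rw [← hy]
      have hy3 : y * y * y = 0 := by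
        rw [hy, hcj]
        simp only [mul_assoc, Units.inv_mul_cancel_left]
        rw [← mul_assoc x x, ← mul_assoc (x * x) x, hx3, zero_mul, mul_zero]
      have h2 : y + (2 : F)⁻¹ • (y * y) = (k : F) • x + ((k : F) * (k : F) / 2) • (x * x) := by
        linear_combination (norm := skip) h1
        match_scalars <;> ring
      have h4 : y * y = ((k : F) * (k : F)) • (x * x) := by
        have h5 := congrArg (fun A => A * A) h2
        simpa only [add_mul, mul_add, Matrix.smul_mul, Matrix.mul_smul, ← mul_assoc, hy3, hx3, zero_mul, smul_zero,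
          add_zero, smul_smul] using h5
      rw [h4] at h2
      linear_combination (norm := skip) h2
      match_scalars <;> ring
    refine ⟨?_, ?_⟩
    · rw [hT, hinv, map_smul, hex, ← hinv, hcjm, mul_inv_cancel, hcj1]
    · have : cj g⁻¹ (x * x) = cj g⁻¹ x * cj g⁻¹ x := by
        simp only [hcj, mul_assoc, Units.inv_mul_cancel_left]
      rw [hT, this, hinv, Matrix.smul_mul, Matrix.mul_smul, map_smul e, map_smul e, hexx, smul_zero, smul_zero, map_zero]
  -- the moved cosets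
  obtain ⟨L, hL⟩ : ∃ L, L = LinearMap.mulLeft F (((u : GL (Fin 3) F) : Matrix (Fin 3) (Fin 3) F) - 1) := ⟨_, rfl⟩
  obtain ⟨R, hR⟩ : ∃ R, R = LinearMap.mulRight F ((((u : GL (Fin 3) F)⁻¹ : GL (Fin 3) F) : Matrix (Fin 3) (Fin 3) F) - 1) := ⟨_, rfl⟩
  have hU5 : (cj u - 1) ^ 5 = 0 := by
    have hL3 : L ^ 3 = 0 := by rw [hL, LinearMap.pow_mulLeft, h3, LinearMap.mulLeft_zero_eq_zero]
    have hR3 : R ^ 3 = 0 := by
      have h' : ((((u : GL (Fin 3) F)⁻¹ : GL (Fin 3) F) : Matrix (Fin 3) (Fin 3) F) - 1) ^ 3 = 0 := by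
        have e : (((u : GL (Fin 3) F)⁻¹ : GL (Fin 3) F) : Matrix (Fin 3) (Fin 3) F) - 1 =
          -((((u : GL (Fin 3) F)⁻¹ : GL (Fin 3) F) : Matrix (Fin 3) (Fin 3) F) * (((u : GL (Fin 3) F) : Matrix (Fin 3) (Fin 3) F) - 1)) := by
          rw [mul_sub, Units.inv_mul, mul_one, neg_sub]
        rw [e, neg_pow, Commute.mul_pow, h3, mul_zero, mul_zero]
        exact (Commute.refl _).units_inv_left.sub_right (Commute.one_right _)
      rw [hR, LinearMap.pow_mulRight, h', LinearMap.mulRight_zero_eq_zero]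
    have hLR : Commute L R := by rw [hL, hR]; exact LinearMap.commute_mulLeft_right _ _
    have he' : cj u - 1 = L * (1 + R) + R := by
      refine LinearMap.ext fun A => ?_
      simp [hcj, hL, hR, mul_sub, sub_mul, mul_add]
    rw [he']
    refine Commute.add_pow_eq_zero_of_add_le_succ_of_pow_eq_zero
      (hLR.mul_left ((Commute.one_left R).add_left (Commute.refl R))) (m := 3) (n := 3) ?_ hR3 (by norm_num)
    rw [((Commute.one_right L).add_right hLR).mul_pow, hL3, zero_mul]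
  have hgeom : ∀ v, ∑ i ∈ Finset.range p, (cj u)^[i] v = 0 := fun v => by
    have hpoly : (∑ i ∈ Finset.range p, (Polynomial.X : Polynomial F) ^ i) = (Polynomial.X - 1) ^ (p - 1) := by
      refine mul_right_cancel₀ (Polynomial.X_sub_C_ne_zero (1 : F)) ?_
      rw [map_one, geom_sum_mul, ← pow_succ, Nat.sub_add_cancel hp.out.one_lt.le, sub_pow_char, one_pow]
    have h := congrArg (Polynomial.aeval (R := F) (cj u)) hpoly
    rw [map_sum, map_pow, map_sub, Polynomial.aeval_X, map_one,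
      pow_eq_zero_of_le (by omega : 5 ≤ p - 1) hU5] at h
    simp only [map_pow, Polynomial.aeval_X] at h
    have h' := LinearMap.congr_fun h v
    simpa [LinearMap.sum_apply, Module.End.pow_apply] using h'
  let s : Finset Q := Finset.univ.filter fun q => u • q ≠ q
  have hs : ∀ q ∈ s, u • q ≠ q ∧ u • q ∈ s := fun q hq => by
    have h : u • q ≠ q := (Finset.mem_filter.1 hq).2
    exact ⟨h, Finset.mem_filter.2 ⟨Finset.mem_univ _, fun e => h (MulAction.injective u e)⟩⟩
  have hπp : ∀ q : Q, (fun q : Q => u • q)^[p] q = q := fun q => by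
    rw [smul_iterate_apply, hup, one_smul]
  have hTu : ∀ A, cj u A = A → ∀ q : Q, T (u • q) A = cj u (T q A) := fun A hA q => by
    conv_lhs => rw [← hA]
    exact hTg u q A
  have huxx : cj u (x * x) = x * x := by
    conv_rhs => rw [← hux']
    simp only [hcj, mul_assoc, Units.inv_mul_cancel_left]
  obtain ⟨hS1, hcard⟩ := sum_nonfixed_eq_zero hp.out (fun q : Q => u • q) hπp (fun q => T q x) (cj u) (hTu x hux') hgeom s hs
  obtain ⟨hS2, -⟩ := sum_nonfixed_eq_zero hp.out (fun q : Q => u • q) hπp (fun q => T q (x * x)) (cj u) (hTu _ huxx) hgeom s hs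
  let t : Finset Q := Finset.univ.filter fun q => u • q = q
  have hts : t.card + s.card = Fintype.card Q := by
    rw [← Finset.card_univ]; exact Finset.card_filter_add_card_filter_not (p := fun q : Q => u • q = q)
  have hsplit : ∀ A, f A = ∑ q ∈ t, T q A + ∑ q ∈ s, T q A := fun A => by
    rw [hfA]; exact (Finset.sum_filter_add_sum_filter_not _ _ _).symm
  have hfix' : ∀ q ∈ t, T q x = x ∧ T q (x * x) = 0 := fun q hq => by
    have h : u • q = q := (Finset.mem_filter.1 hq).2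
    induction q using QuotientGroup.induction_on with
    | H g => exact hfix g h.symm
  have hfx : f x = (t.card : F) • x := by
    rw [hsplit, hS1, add_zero, Finset.sum_congr rfl fun q hq => (hfix' q hq).1, Finset.sum_const,
      Nat.cast_smul_eq_nsmul]
  have hfx2 : f (x * x) = 0 := by
    rw [hsplit, hS2, add_zero, Finset.sum_congr rfl fun q hq => (hfix' q hq).2, Finset.sum_const_zero]
  rw [hμ x htx] at hfx
  rw [hμ _ htx2] at hfx2
  rw [(smul_eq_zero.1 hfx2).resolve_right hx2, zero_smul, eq_comm, smul_eq_zero,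
    CharP.cast_eq_zero_iff F p] at hfx
  refine hidx ?_
  have hx0 : x ≠ 0 := fun e => hx2 (by rw [e, mul_zero])
  rw [Subgroup.index_eq_card, Nat.card_eq_fintype_card, ← hts]
  exact dvd_add (hfx.resolve_right hx0) hcard

end CfsgLib.Perm.Trans.ThreeDim
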