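import Cfsg.Agent.Lib.Perm.Trans.ThreeDim.HeisFrame

/-!
# No further involution commutes with the parity

In `GL₃(ℂ)` no finite group contains the frame `D`, `S`, `Φ_k` and an involution, other than `± 1`,
`± T`, commuting with `T`: the traces of its products with the frame are algebraic integers.
-/

set_option autoImplicit false
set_option linter.all false

namespace CfsgLib.Perm.Trans.ThreeDim.Heis

open Matrix

theorem isIntegral_intCast (n : ℤ) : IsIntegral ℤ (n : ℂ) := isIntegral_algebraMap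

theorem not_isIntegral_half {n : ℤ} (hn : Odd n) : ¬ IsIntegral ℤ ((n : ℂ) / 2) := by
  intro h
  have h' : IsIntegral ℤ (algebraMap ℚ ℂ ((n : ℚ) / 2)) := by simpa using h
  rw [isIntegral_algebraMap_iff (algebraMap ℚ ℂ).injective] at h'
  obtain ⟨m, hm⟩ := IsIntegrallyClosed.isIntegral_iff.1 h'
  have h2 : (2 * m : ℤ) = n := by
    have : (2 : ℚ) * m = n := by
      rw [show (m : ℚ) = (n : ℚ) / 2 from hm]; ring
    exact_mod_cast this
  exact Int.not_even_iff_odd.2 hn ⟨m, by omega⟩

/-- a root of unity congruent to one modulo two is a sign -/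
theorem sq_eq_one_of_congr {ζ : ℂ} (hζ : IsOfFinOrder ζ) (h : IsIntegral ℤ ((ζ - 1) / 2)) : ζ ^ 2 = 1 := by
  by_contra hne
  have hm : 2 < orderOf ζ := by
    by_contra hle
    push Not at hle
    have h0 := hζ.orderOf_pos
    apply hne
    rw [← orderOf_dvd_iff_pow_eq_one]
    interval_cases (orderOf ζ) <;> norm_num
  have hint : IsIntegral ℤ ζ := by
    rw [show ζ = 2 * ((ζ - 1) / 2) + 1 by ring]
    exact ((isIntegral_intCast 2).mul h |>.add isIntegral_one)
  have hpow : ∀ i : ℕ, IsIntegral ℤ ((ζ ^ i - 1) / 2) := fun i => by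
    rw [← geom_sum_mul, mul_div_assoc]
    exact (IsIntegral.sum _ fun j _ => hint.pow j).mul h
  obtain hd | ⟨l, hl, hd, hodd⟩ := Nat.four_dvd_or_exists_odd_prime_and_dvd_of_two_lt hm
  · obtain ⟨q, hq⟩ := hd
    have ho : orderOf (ζ ^ q) = 4 := by
      rw [orderOf_pow' _ (by omega), hq, Nat.gcd_eq_right ⟨4, by ring⟩,
        Nat.mul_div_cancel _ (by omega : 0 < q)]
    have h4 : (ζ ^ q) ^ 2 = -1 := by
      refine (sq_eq_one_iff.1 ?_).resolve_left fun e => ?_
      · have hh := pow_orderOf_eq_one (ζ ^ q)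
        rw [ho] at hh
        rw [← pow_mul]
        exact hh
      · have := Nat.le_of_dvd (by norm_num) (ho ▸ orderOf_dvd_of_pow_eq_one e)
        omega
    refine not_isIntegral_half (n := -1) (by decide) ?_
    rw [show ((-1 : ℤ) : ℂ) / 2 = ((ζ ^ q - 1) / 2) ^ 4 * ((2 : ℤ) : ℂ) by
      push_cast
      linear_combination (-((ζ ^ q) ^ 2 - 4 * (ζ ^ q) + 5) / 8 : ℂ) * h4]
    exact ((hpow q).pow 4).mul (isIntegral_intCast 2)
  · obtain ⟨q, hq⟩ := hd
    have ho : orderOf (ζ ^ q) = l := by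
      have hq0 : 0 < q := Nat.pos_of_ne_zero fun e => by rw [e, mul_zero] at hq; omega
      rw [orderOf_pow' _ hq0.ne', hq, Nat.gcd_eq_right ⟨l, by ring⟩, Nat.mul_div_cancel _ hq0]
    have h0 : ∑ i ∈ Finset.range l, (ζ ^ q) ^ i = 0 := by
      have h1 : (∑ i ∈ Finset.range l, (ζ ^ q) ^ i) * (ζ ^ q - 1) = 0 := by
        rw [geom_sum_mul, ← ho, pow_orderOf_eq_one, sub_self]
      refine (mul_eq_zero.1 h1).resolve_right fun e => ?_
      rw [sub_eq_zero.1 e, orderOf_one] at ho
      exact hl.ne_one ho.symm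
    have h2 : IsIntegral ℤ (∑ i ∈ Finset.range l, ((ζ ^ q) ^ i - 1) / 2) :=
      IsIntegral.sum _ fun i _ => by rw [← pow_mul]; exact hpow _
    refine not_isIntegral_half (n := (l : ℤ)) ((Int.odd_coe_nat l).2 hodd) ?_
    rw [show (((l : ℤ) : ℂ) / 2) = -(∑ i ∈ Finset.range l, ((ζ ^ q) ^ i - 1) / 2) by
      rw [← Finset.sum_div, Finset.sum_sub_distrib, h0]
      simp
      ring]
    exact h2.neg

theorem pow_eq_one_of_root {n : ℕ} {A : Matrix (Fin n) (Fin n) ℂ} {N : ℕ} (hA : A ^ N = 1) {t : ℂ}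
    (ht : (Matrix.scalar (Fin n) t - A).det = 0) : t ^ N = 1 := by
  obtain ⟨v, hv0, hv⟩ := Matrix.exists_mulVec_eq_zero_iff.2 ht
  have hAv : A *ᵥ v = t • v := by
    rw [Matrix.sub_mulVec, sub_eq_zero] at hv
    rw [← hv]
    funext i
    simp [Matrix.scalar_apply, Matrix.mulVec_diagonal]
  have hk : ∀ k : ℕ, (A ^ k) *ᵥ v = t ^ k • v := fun k => by
    induction k with
    | zero => simp
    | succ k ih => rw [pow_succ', ← Matrix.mulVec_mulVec, ih, Matrix.mulVec_smul, hAv, smul_smul, pow_succ]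
  have := hk N
  rw [hA, Matrix.one_mulVec] at this
  by_contra hne
  exact hv0 ((smul_eq_zero.1 (show (t ^ N - 1) • v = 0 by rw [sub_smul, one_smul, ← this, sub_self])).resolve_left
    (sub_ne_zero.2 hne))

theorem isIntegral_trace {n : ℕ} {A : Matrix (Fin n) (Fin n) ℂ} (hA : IsOfFinOrder A) :
    IsIntegral ℤ A.trace := by
  obtain ⟨N, hN, hA⟩ := isOfFinOrder_iff_pow_eq_one.1 hA
  rw [Matrix.trace_eq_sum_roots_charpoly]
  refine IsIntegral.multiset_sum fun t ht => ?_
  have h1 : (Matrix.scalar (Fin n) t - A).det = 0 := by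
    rw [← Matrix.eval_charpoly]
    exact (Polynomial.mem_roots (Matrix.charpoly_monic A).ne_zero).1 ht
  exact IsIntegral.of_pow hN (by rw [pow_eq_one_of_root hA h1]; exact isIntegral_one)

/-- the general involution commuting with the parity, with minus one on the plus line -/
noncomputable def invM (g b γ : ℂ) : Matrix (Fin 3) (Fin 3) ℂ :=
  !![g, b, b; γ, (-g - 1) / 2, (1 - g) / 2; γ, (1 - g) / 2, (-g - 1) / 2]

variable (ν : Root ℂ)

theorem trace_invM_dm (g b γ : ℂ) : (invM g b γ * dm ν.μ).trace = (3 * g + 1) / 2 := by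
  simp [invM, dm, Matrix.trace, Fin.sum_univ_three, Matrix.mul_apply, Matrix.vecMul_diagonal]
  linear_combination ((-g - 1) / 2) * ν.eq

theorem trace_invM_sm (g b γ c : ℂ) :
    (invM g b γ * (sm * dm c)).trace = b + (1 - g) / 2 * c + γ * (c * c) := by
  simp [invM, dm, sm, Matrix.trace, Fin.sum_univ_three, Matrix.mul_apply, Matrix.vecMul_diagonal]

theorem trace_invM_phim (g b γ c : ℂ) :
    (invM g b γ * phim ν c).trace * ν.η = 2 * (g + b * c + γ * (c * c)) - ν.η := by
  have h0 := ν.η_ne_zero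
  simp [invM, phim, Matrix.trace, Fin.sum_univ_three, Matrix.mul_apply, Matrix.mul_smul]
  field_simp
  simp only [Root.η]
  linear_combination (-2 * g) * ν.eq

theorem det_invM_phim {g b γ c : ℂ} (hr : g * g + 2 * b * γ = 1) (hc : c * c * c = 1) (t : ℂ) :
    (Matrix.scalar (Fin 3) t - invM g b γ * phim ν c).det =
      (t + 1) * (t * t - ((invM g b γ * phim ν c).trace + 1) * t - 1) := by
  have h0 := ν.η_ne_zero
  have hη := ν.η_sq
  rw [Matrix.det_fin_three]
  simp [invM, phim, Matrix.trace, Fin.sum_univ_three, Matrix.mul_apply, Matrix.mul_smul, Matrix.scalar_apply]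
  field_simp
  simp only [Root.η] at hη ⊢
  grind [ν.eq, ν.cube]

theorem false_of_invM {g b γ : ℂ} (hr : g * g + 2 * b * γ = 1)
    (hy : IsOfFinOrder (invM g b γ * dm ν.μ))
    (hz : ∀ k : ℕ, IsOfFinOrder (invM g b γ * (sm * dm (ν.μ ^ k))))
    (hu : ∀ k : ℕ, IsOfFinOrder (invM g b γ * phim ν (ν.μ ^ k))) : False := by
  set y : ℂ := (3 * g + 1) / 2 with hydef
  have hyI : IsIntegral ℤ y := by
    rw [hydef, ← trace_invM_dm ν g b γ]
    exact isIntegral_trace hy
  have hμI : IsIntegral ℤ ν.μ := IsIntegral.of_pow (by norm_num : 0 < 3) (by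
    rw [pow_succ, sq, ν.cube]; exact isIntegral_one)
  have key : ∀ k : ℕ, (2 * (g + b * ν.μ ^ k + γ * (ν.μ ^ k * ν.μ ^ k))) ^ 2 = 0 ∨
      (2 * (g + b * ν.μ ^ k + γ * (ν.μ ^ k * ν.μ ^ k))) ^ 2 = 12 := by
    intro k
    set c := ν.μ ^ k with hcdef
    have hc : c * c * c = 1 := ν.pow_cube k
    set u := (invM g b γ * phim ν c).trace + 1 with hudef
    set K := 2 * (g + b * c + γ * (c * c)) with hKdef
    have huK : u * ν.η = K := by
      rw [hudef, add_mul, trace_invM_phim]; ring
    have hP : IsIntegral ℤ (c * (b + (1 - g) / 2 * (c * c) + γ * (c * c * (c * c))) + y - 1) := by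
      refine ((((hμI.pow k)).mul ?_).add hyI).sub isIntegral_one
      have h := trace_invM_sm g b γ (ν.μ ^ (k + k)) ▸ isIntegral_trace (hz (k + k))
      rwa [pow_add] at h
    have hKP : K = 2 * (c * (b + (1 - g) / 2 * (c * c) + γ * (c * c * (c * c))) + y - 1) := by
      rw [hKdef, hydef]
      linear_combination (-(1 - g) - 2 * γ * (c * c)) * hc
    set x := u / 2 with hxdef
    have hu2 : IsIntegral ℤ (u * u) := ((isIntegral_trace (hu k)).add isIntegral_one).mul
      ((isIntegral_trace (hu k)).add isIntegral_one)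
    have hx2 : IsIntegral ℤ (x ^ 2) := by
      have e : u * u * ν.η ^ 2 = K ^ 2 := by rw [← huK]; ring
      rw [hKP, sq ν.η, ν.η_sq] at e
      have h3 := hu2.add (hP.pow 2)
      rwa [show x ^ 2 = u * u + (c * (b + (1 - g) / 2 * (c * c) + γ * (c * c * (c * c))) + y - 1) ^ 2 by
        rw [hxdef]; linear_combination (1 / 4 : ℂ) * e]
    have hx : IsIntegral ℤ x := IsIntegral.of_pow (by norm_num) hx2
    -- an eigenvalue
    obtain ⟨d, hd⟩ := IsAlgClosed.exists_pow_nat_eq (u * u + 4) (by norm_num : 0 < 2)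
    set t := (u + d) / 2 with htdef
    have ht : t * t - u * t - 1 = 0 := by
      rw [htdef]; linear_combination (1 / 4 : ℂ) * hd
    obtain ⟨N, hN, hMN⟩ := isOfFinOrder_iff_pow_eq_one.1 (hu k)
    have htN : t ^ N = 1 := pow_eq_one_of_root hMN (by
      rw [det_invM_phim ν hr hc, ← hudef, ht, mul_zero])
    have htI : IsIntegral ℤ t := IsIntegral.of_pow hN (by rw [htN]; exact isIntegral_one)
    have htfin : IsOfFinOrder (t ^ 2) := isOfFinOrder_iff_pow_eq_one.2 ⟨N, hN, by
      rw [← pow_mul, mul_comm, pow_mul, htN, one_pow]⟩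
    have h4 := sq_eq_one_of_congr htfin (by
      rw [show (t ^ 2 - 1) / 2 = x * t by rw [hxdef]; linear_combination (1 / 2 : ℂ) * ht]
      exact hx.mul htI)
    have ht0 : t ≠ 0 := fun e => by simp [e] at ht
    rcases sq_eq_one_iff.1 h4 with h | h
    · left
      have : u = 0 := (mul_eq_zero.1 (show u * t = 0 by linear_combination h - ht)).resolve_right ht0
      rw [← huK, this]; ring
    · right
      have h' : u * t = -2 := by linear_combination h - ht
      have hu4 : u * u = -4 := by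
        have : u * u * (t ^ 2) = 4 := by linear_combination (u * t - 2) * h'
        rw [h] at this
        linear_combination -this
      rw [← huK]
      linear_combination (ν.η * ν.η) * hu4 - 4 * ν.η_sq
  set K := fun k : ℕ => 2 * (g + b * ν.μ ^ k + γ * (ν.μ ^ k * ν.μ ^ k)) with hK
  have hsum : K 0 + K 1 + K 2 = 6 * g := by
    simp only [hK]
    linear_combination (2 * b + 2 * γ * (1 + ν.μ * (ν.μ - 1))) * ν.eq + 0 * ν.cube
  have hsq : K 0 ^ 2 + K 1 ^ 2 + K 2 ^ 2 = 12 := by
    simp only [hK]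
    grind [ν.eq, ν.cube]
  have hg : (6 * g) ^ 2 = 12 := by
    rw [← hsum]
    rcases key 0 with h0 | h0 <;> rcases key 1 with h1 | h1 <;> rcases key 2 with h2 | h2 <;>
      simp only [← show ∀ k, K k = 2 * (g + b * ν.μ ^ k + γ * (ν.μ ^ k * ν.μ ^ k)) from fun k => rfl] at h0 h1 h2 <;>
      rw [h0, h1, h2] at hsq <;> norm_num at hsq
    · rw [pow_eq_zero_iff two_ne_zero] at h0 h1
      rw [h0, h1, zero_add, zero_add, h2]
    · rw [pow_eq_zero_iff two_ne_zero] at h0 h2
      rw [h0, h2, zero_add, add_zero, h1]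
    · rw [pow_eq_zero_iff two_ne_zero] at h1 h2
      rw [h1, h2, add_zero, add_zero, h0]
  refine not_isIntegral_half (n := 1) odd_one ?_
  rw [show ((1 : ℤ) : ℂ) / 2 = y * y - y by
    rw [hydef]
    push_cast
    linear_combination (-1 / 16 : ℂ) * hg]
  exact (hyI.mul hyI).sub hyI

/-- No finite group contains the frame and a further involution commuting with the parity. -/
theorem false_of_involution {M : Matrix (Fin 3) (Fin 3) ℂ} (hM : M * M = 1) (hT : M * tm = tm * M)
    (h1 : M ≠ 1) (h2 : M ≠ -1) (h3 : M ≠ tm) (h4 : M ≠ -tm) (hy : IsOfFinOrder (M * dm ν.μ))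
    (hz : ∀ k : ℕ, IsOfFinOrder (M * (sm * dm (ν.μ ^ k))))
    (hu : ∀ k : ℕ, IsOfFinOrder (M * phim ν (ν.μ ^ k))) : False := by
  have e01 : M 0 2 = M 0 1 := by
    have := congrFun (congrFun hT 0) 1
    simp [tm, Matrix.mul_apply, Fin.sum_univ_three] at this
    first | linear_combination this | linear_combination -this
  have e10 : M 2 0 = M 1 0 := by
    have := congrFun (congrFun hT 1) 0
    simp [tm, Matrix.mul_apply, Fin.sum_univ_three] at this
    first | linear_combination this | linear_combination -this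
  have e22 : M 2 2 = M 1 1 := by
    have := congrFun (congrFun hT 1) 2
    simp [tm, Matrix.mul_apply, Fin.sum_univ_three] at this
    first | linear_combination this | linear_combination -this
  have e21 : M 2 1 = M 1 2 := by
    have := congrFun (congrFun hT 1) 1
    simp [tm, Matrix.mul_apply, Fin.sum_univ_three] at this
    first | linear_combination this | linear_combination -this
  have q : ∀ i j, (M * M) i j = (1 : Matrix (Fin 3) (Fin 3) ℂ) i j := fun i j => by rw [hM]
  have q00 := q 0 0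
  have q01 := q 0 1
  have q10 := q 1 0
  have q11 := q 1 1
  have q12 := q 1 2
  simp [Matrix.mul_apply, Fin.sum_univ_three, e01, e10, e22, e21] at q00 q01 q10 q11 q12
  have hs : M 0 0 + (M 1 1 + M 1 2) = 0 := by
    by_contra hne
    have hb : M 0 1 = 0 := (mul_eq_zero.1 (show (M 0 0 + (M 1 1 + M 1 2)) * M 0 1 = 0 by
      linear_combination q01)).resolve_left hne
    have hc : M 1 0 = 0 := (mul_eq_zero.1 (show (M 0 0 + (M 1 1 + M 1 2)) * M 1 0 = 0 by
      linear_combination q10)).resolve_left hne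
    have hgs : M 0 0 = M 1 1 + M 1 2 := sub_eq_zero.1 ((mul_eq_zero.1 (show
      (M 0 0 - (M 1 1 + M 1 2)) * (M 0 0 + (M 1 1 + M 1 2)) = 0 by
        linear_combination q00 - q11 - q12 - 2 * M 0 1 * 0)).resolve_right hne)
    have hg : M 0 0 = 1 ∨ M 0 0 = -1 := mul_self_eq_one_iff.1 (by
      rw [hb, zero_mul] at q00; linear_combination q00)
    have he : M 1 1 - M 1 2 = 1 ∨ M 1 1 - M 1 2 = -1 := mul_self_eq_one_iff.1 (by
      linear_combination q11 - q12)
    rcases hg with hg | hg <;> rcases he with he | he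
    · exact h1 (Matrix.ext fun i j => by
        fin_cases i <;> fin_cases j <;> simp [e01, e10, e22, e21, hb, hc, hg] <;> grind)
    · exact h4 (Matrix.ext fun i j => by
        fin_cases i <;> fin_cases j <;> simp [tm, e01, e10, e22, e21, hb, hc, hg] <;> grind)
    · exact h3 (Matrix.ext fun i j => by
        fin_cases i <;> fin_cases j <;> simp [tm, e01, e10, e22, e21, hb, hc, hg] <;> grind)
    · exact h2 (Matrix.ext fun i j => by
        fin_cases i <;> fin_cases j <;> simp [e01, e10, e22, e21, hb, hc, hg] <;> grind)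
  have he : M 1 1 - M 1 2 = 1 ∨ M 1 1 - M 1 2 = -1 := mul_self_eq_one_iff.1 (by
    linear_combination q11 - q12)
  have hneg : ∀ X : Matrix (Fin 3) (Fin 3) ℂ, IsOfFinOrder X → IsOfFinOrder (-X) := fun X hX => by
    obtain ⟨N, hN, hXN⟩ := isOfFinOrder_iff_pow_eq_one.1 hX
    refine isOfFinOrder_iff_pow_eq_one.2 ⟨2 * N, by omega, ?_⟩
    rw [Even.neg_pow ⟨N, by ring⟩, mul_comm, pow_mul, hXN, one_pow]
  rcases he with he | he
  · have hform : -M = invM (-M 0 0) (-M 0 1) (-M 1 0) := Matrix.ext fun i j => by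
      fin_cases i <;> fin_cases j <;> simp [invM, e01, e10, e22, e21] <;> grind
    refine false_of_invM ν (g := -M 0 0) (b := -M 0 1) (γ := -M 1 0) (by linear_combination q00)
      ?_ (fun k => ?_) (fun k => ?_) <;> rw [← hform, neg_mul]
    exacts [hneg _ hy, hneg _ (hz k), hneg _ (hu k)]
  · have hform : M = invM (M 0 0) (M 0 1) (M 1 0) := Matrix.ext fun i j => by
      fin_cases i <;> fin_cases j <;> simp [invM, e01, e10, e22, e21] <;> grind
    refine false_of_invM ν (g := M 0 0) (b := M 0 1) (γ := M 1 0) (by linear_combination q00)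
      ?_ (fun k => ?_) (fun k => ?_) <;> rw [← hform]
    exacts [hy, hz k, hu k]

end CfsgLib.Perm.Trans.ThreeDim.Heis
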