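import Cfsg.Agent.Lib.Perm.Trans.ThreeDim.HeisFrame
import Cfsg.Agent.Lib.Coprime.SquareFixed.Basic

/-!
# Normal solvable subgroups of overgroups of the frame normalizer

In a group of determinant one matrices containing `D`, `S` and the `Φ_k`, a normal solvable subgroup
that is not central forces `⟨D, S⟩` to be normal.
-/

set_option autoImplicit false
set_option linter.all false

namespace CfsgLib.Perm.Trans.ThreeDim.Heis

open Matrix

variable {F : Type*} [Field F] (ω : Root F)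

local notation "M3" => Matrix (Fin 3) (Fin 3) F
local notation "G3" => GL (Fin 3) F

include ω in
theorem mem_center_iff_scalar {g : G3} :
    g ∈ Subgroup.center G3 ↔ (g : M3) = (g : M3) 0 0 • 1 := by
  refine ⟨fun h => scalar_of_commute ω ((Subgroup.mem_center_iff.1 h (gD ω)).symm)
    ((Subgroup.mem_center_iff.1 h gS).symm), fun h => Subgroup.mem_center_iff.2 fun w => Units.ext ?_⟩
  rw [Units.val_mul, Units.val_mul, h]
  simp

/-- an element is central once it commutes with `D` and `S` -/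
theorem mem_center_of_commute {g : G3} (hD : Commute g (gD ω)) (hS : Commute g gS) :
    g ∈ Subgroup.center G3 :=
  (mem_center_iff_scalar ω).2 (scalar_of_commute ω hD hS)

theorem gZ_mem_center : gZ ω ∈ Subgroup.center G3 :=
  Subgroup.mem_center_iff.2 fun w => ((commute_gZ ω w).eq).symm

theorem gD_pow_three : gD ω ^ 3 = 1 :=
  Units.ext (by rw [val_gD_pow, pow_succ, sq, ω.cube, dm_one, Units.val_one])

theorem gS_pow_three : (gS : G3) ^ 3 = 1 := Units.ext (by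
  rw [pow_succ, sq]
  simp only [Units.val_mul, val_gS, Units.val_one]
  ext i j
  fin_cases i <;> fin_cases j <;> simp [sm, Matrix.mul_apply, Fin.sum_univ_three])

theorem gZ_pow_three : gZ ω ^ 3 = 1 :=
  Units.ext (by rw [val_gZ_pow, pow_succ, sq, ω.cube, one_smul, Units.val_one])

theorem gD_inv : ((gD ω)⁻¹ : G3) = gD ω ^ 2 :=
  inv_eq_of_mul_eq_one_right (by rw [← pow_succ', gD_pow_three])

theorem gS_inv : ((gS : G3)⁻¹ : G3) = gS * gS :=
  inv_eq_of_mul_eq_one_right (by rw [← mul_assoc, ← sq, ← pow_succ, gS_pow_three])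

/-- `D` and `S` commute up to `μ` -/
theorem pow_swap (a b : ℕ) :
    gD ω ^ a * (gS : G3) ^ b = gZ ω ^ (a * b) * (gS ^ b * gD ω ^ a) := by
  have h1 : ∀ b : ℕ, gD ω * (gS : G3) ^ b = gZ ω ^ b * (gS ^ b * gD ω) := fun b => by
    induction b with
    | zero => simp
    | succ b ih =>
      rw [pow_succ gS, ← mul_assoc, ih, mul_assoc, mul_assoc, gD_mul_gS,
        ← mul_assoc (gS ^ b), ← (commute_gZ ω (gS ^ b)).eq, pow_succ]
      simp only [mul_assoc]
  induction a with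
  | zero => simp
  | succ a ih =>
    rw [pow_succ', mul_assoc, ih, ← mul_assoc, ← ((commute_gZ ω (gD ω)).pow_left _).eq, mul_assoc,
      ← mul_assoc (gD ω), h1, Nat.succ_mul, pow_add]
    simp only [mul_assoc]

theorem dm_pow (c : F) (k : ℕ) : dm c ^ k = dm (c ^ k) := by
  induction k with
  | zero => rw [pow_zero, pow_zero, dm_one]
  | succ k ih => rw [pow_succ, ih, dm_mul, pow_succ]

theorem cube_root_eq_pow {c : F} (hc : c * c * c = 1) : ∃ k : ℕ, c = ω.μ ^ k := by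
  rcases mul_eq_zero.1 (show (c - 1) * ((c - ω.μ) * (c - ω.μ * ω.μ)) = 0 by
    linear_combination hc + (c - c * c) * ω.eq + (c - 1) * ω.cube) with h | h
  · exact ⟨0, by rw [pow_zero]; exact sub_eq_zero.1 h⟩
  rcases mul_eq_zero.1 h with h | h
  · exact ⟨1, by rw [pow_one]; exact sub_eq_zero.1 h⟩
  · exact ⟨2, by rw [sq]; exact sub_eq_zero.1 h⟩

/-- a central element of determinant one is a power of `μ` -/
theorem eq_gZ_pow {z : G3} (hz : z ∈ Subgroup.center G3) (hdet : (z : M3).det = 1) :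
    ∃ k : ℕ, z = gZ ω ^ k := by
  have h := (mem_center_iff_scalar ω).1 hz
  rw [h, Matrix.det_smul, Matrix.det_one, mul_one, Fintype.card_fin, pow_succ, sq] at hdet
  obtain ⟨k, hk⟩ := cube_root_eq_pow ω hdet
  exact ⟨k, Units.ext (by rw [val_gZ_pow, h, hk])⟩

/-! ### Subspaces invariant under the normalizer -/

/-- conjugation of matrices -/
def cj (g : G3) (M : M3) : M3 := (g : M3) * M * ((g⁻¹ : G3) : M3)

theorem cj_val (g h : G3) : cj g (h : M3) = ((g * h * g⁻¹ : G3) : M3) := by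
  rw [cj, Units.val_mul, Units.val_mul]

theorem cj_smul (g : G3) (c : F) (M : M3) : cj g (c • M) = c • cj g M := by
  simp only [cj, Matrix.mul_smul, Matrix.smul_mul]

theorem cj_gS_apply (M : M3) (i j : Fin 3) : cj gS M i j = M (i + 2) (j + 2) := by
  rw [cj, gS_inv, Units.val_mul, val_gS]
  fin_cases i <;> fin_cases j <;> simp [sm, Matrix.mul_apply, Fin.sum_univ_three, Matrix.vecMul, dotProduct]

theorem cj_gD_apply (M : M3) (i j : Fin 3) :
    cj (gD ω) M i j = ω.μ ^ ((i : ℕ) + 2 * (j : ℕ)) * M i j := by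
  rw [cj, gD_inv, val_gD_pow, val_gD]
  fin_cases i <;> fin_cases j <;>
    simp [dm, Matrix.mul_apply, Matrix.vecMul_diagonal, Fin.sum_univ_three] <;> ring_nf <;> simp

/-- projection to an eigenspace of conjugation by an element of order three -/
def proj (g : G3) (a : F) (M : M3) : M3 := M + a • cj g M + (a * a) • cj g (cj g M)

theorem proj_mem {g : G3} {W : Submodule F M3} (hW : ∀ M ∈ W, cj g M ∈ W) (a : F) {M : M3} (hM : M ∈ W) :
    proj g a M ∈ W :=
  add_mem (add_mem hM (W.smul_mem _ (hW _ hM))) (W.smul_mem _ (hW _ (hW _ hM)))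

theorem proj_proj (M : M3) (d : Fin 3) {c : F} (hc : c * c * c = 1) :
    proj gS c (proj (gD ω) (ω.μ ^ (2 * (d : ℕ))) M) =
      (3 * (M d 0 + c * c * M (d + 1) 1 + c * M (d + 2) 2)) • (sm ^ (d : ℕ) * dm c) := by
  ext i j
  fin_cases d <;> fin_cases i <;> fin_cases j <;>
    simp [proj, cj_gS_apply, cj_gD_apply, dm, sm, sq, Matrix.mul_apply, Matrix.vecMul_diagonal,
      Fin.sum_univ_three] <;> grind [ω.eq, ω.cube]

theorem exists_line {W : Submodule F M3} (hD : ∀ M ∈ W, cj (gD ω) M ∈ W) (hS : ∀ M ∈ W, cj gS M ∈ W)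
    {M : M3} (hM : M ∈ W) (hns : M ≠ M 0 0 • 1) :
    ∃ d e : Fin 3, (d ≠ 0 ∨ e ≠ 0) ∧ ((gS ^ (d : ℕ) * gD ω ^ (e : ℕ) : G3) : M3) ∈ W := by
  by_contra hno
  push Not at hno
  have hz : ∀ d e : Fin 3, (d ≠ 0 ∨ e ≠ 0) →
      M d 0 + ω.μ ^ (e : ℕ) * ω.μ ^ (e : ℕ) * M (d + 1) 1 + ω.μ ^ (e : ℕ) * M (d + 2) 2 = 0 := fun d e hde => by
    by_contra hne
    refine hno d e hde ?_
    rw [Units.val_mul, Units.val_pow_eq_pow_val, val_gS, val_gD_pow]
    refine (W.smul_mem_iff (mul_ne_zero ω.three hne)).1 ?_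
    rw [← proj_proj ω M d (ω.pow_cube _)]
    exact proj_mem hS _ (proj_mem hD _ hM)
  have a10 := hz 1 0 (by simp)
  have a11 := hz 1 1 (by simp)
  have a12 := hz 1 2 (by simp)
  have a20 := hz 2 0 (by simp)
  have a21 := hz 2 1 (by simp)
  have a22 := hz 2 2 (by simp)
  have a01 := hz 0 1 (by simp)
  have a02 := hz 0 2 (by simp)
  simp at a10 a11 a12 a20 a21 a22 a01 a02
  have h3 := ω.three
  refine hns (Matrix.ext fun i j => ?_)
  fin_cases i <;> fin_cases j <;> simp <;> grind [ω.eq, ω.cube]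

/-- a subspace invariant under the normalizer and containing a non-scalar contains `D` and `S` -/
theorem dm_sm_mem {W : Submodule F M3} (hD : ∀ M ∈ W, cj (gD ω) M ∈ W) (hS : ∀ M ∈ W, cj gS M ∈ W)
    (h0 : ∀ M ∈ W, cj (gPhi ω 0) M ∈ W) (h1 : ∀ M ∈ W, cj (gPhi ω 1) M ∈ W)
    {M : M3} (hM : M ∈ W) (hns : M ≠ M 0 0 • 1) : dm ω.μ ∈ W ∧ sm ∈ W := by
  obtain ⟨d, e, hde, hmem⟩ := exists_line ω hD hS hM hns
  have hμ := ω.ne_zero
  let m : ℕ → ℕ → Prop := fun a b => ((gS ^ a * gD ω ^ b : G3) : M3) ∈ W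
  have hexp : ∀ a b : ℕ, m a b → m (a % 3) (b % 3) := fun a b h => by
    show ((gS ^ (a % 3) * gD ω ^ (b % 3) : G3) : M3) ∈ W
    rwa [← pow_eq_pow_mod a gS_pow_three, ← pow_eq_pow_mod b (gD_pow_three ω)]
  have g0 : ∀ a b : ℕ, m a b → m (2 * b % 3) (a % 3) := fun a b h => by
    refine hexp _ _ ?_
    have h' : cj (gPhi ω 0) ((gS ^ a * gD ω ^ b : G3) : M3) ∈ W := h0 _ h
    have e1 : gPhi ω 0 * gS * (gPhi ω 0)⁻¹ = gD ω := by
      rw [show gPhi ω 0 * gS = gD ω * gPhi ω 0 by simpa [preD] using gPhi_mul_preD ω 0, mul_inv_cancel_right]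
    have e2 : gPhi ω 0 * gD ω * (gPhi ω 0)⁻¹ = gS ^ 2 := by
      rw [gPhi_mul_gD, mul_inv_cancel_right, imD, pow_zero, one_mul, pow_zero, mul_one, sq]
    rw [cj_val, ← conj_mul, ← conj_pow, ← conj_pow, e1, e2, ← pow_mul, pow_swap, Units.val_mul, val_gZ_pow,
      Matrix.smul_mul, Matrix.one_mul, W.smul_mem_iff (pow_ne_zero _ hμ)] at h'
    exact h'
  have g1 : m 1 2 → m 0 1 := fun h => by
    have h' : cj (gPhi ω 1) (ω.μ • ((gS ^ 1 * gD ω ^ 2 : G3) : M3)) ∈ W := h1 _ (W.smul_mem _ h)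
    rw [show ω.μ • ((gS ^ 1 * gD ω ^ 2 : G3) : M3) = ((preD ω 1 : G3) : M3) by
      simp [preD, val_gZ, Matrix.smul_mul], cj_val, gPhi_mul_preD, mul_inv_cancel_right] at h'
    show ((gS ^ 0 * gD ω ^ 1 : G3) : M3) ∈ W
    rwa [pow_zero, one_mul, pow_one]
  have h01 : m 0 1 := by
    have hm : m d e := hmem
    fin_cases d <;> fin_cases e <;> simp only [Fin.isValue, Fin.val_zero, Fin.val_one, Fin.val_two] at hm
    · exact absurd hde (by simp)
    · exact hm
    · exact g0 _ _ (g0 _ _ hm)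
    · exact g0 _ _ hm
    · exact g1 (g0 _ _ (g0 _ _ (g0 _ _ hm)))
    · exact g1 hm
    · exact g0 _ _ (g0 _ _ (g0 _ _ hm))
    · exact g1 (g0 _ _ (g0 _ _ hm))
    · exact g1 (g0 _ _ hm)
  refine ⟨?_, ?_⟩
  · have : ((gS ^ 0 * gD ω ^ 1 : G3) : M3) ∈ W := h01
    rwa [pow_zero, one_mul, pow_one, val_gD] at this
  · have : ((gS ^ 1 * gD ω ^ 0 : G3) : M3) ∈ W := g0 _ _ (g0 _ _ (g0 _ _ h01))
    rwa [pow_zero, mul_one, pow_one, val_gS] at this

/-! ### The normal subgroup -/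

/-- a fixed point of an element of order three on an abelian group of exponent three -/
theorem exists_fixed {Q : Type*} [Group Q] {A : Subgroup Q} (hA : ∀ x ∈ A, ∀ y ∈ A, x * y = y * x)
    (h3 : ∀ x ∈ A, x ^ 3 = 1) {d : Q} (hd : d ^ 3 = 1) (hn : ∀ x ∈ A, d * x * d⁻¹ ∈ A)
    {x : Q} (hx : x ∈ A) (hx1 : x ≠ 1) : ∃ y ∈ A, y ≠ 1 ∧ Commute d y := by
  have hd3 : d * d * d = 1 := by rw [← hd, pow_succ, sq]
  let σ : A → A := fun y => ⟨d * y * d⁻¹, hn y y.2⟩
  letI : CommGroup A := { (inferInstance : Group A) with mul_comm := fun u v => Subtype.ext (hA u u.2 v v.2) }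
  have hσ : ∀ u v : A, σ (u * v) = σ u * σ v := fun u v => Subtype.ext (by
    show d * ((u : Q) * v) * d⁻¹ = d * u * d⁻¹ * (d * v * d⁻¹)
    group)
  have hσi : ∀ u : A, σ u⁻¹ = (σ u)⁻¹ := fun u => Subtype.ext (by
    show d * (u : Q)⁻¹ * d⁻¹ = (d * u * d⁻¹)⁻¹
    group)
  have hσ3 : ∀ u : A, σ (σ (σ u)) = u := fun u => Subtype.ext (by
    show d * (d * (d * (u : Q) * d⁻¹) * d⁻¹) * d⁻¹ = u
    rw [show d * (d * (d * (u : Q) * d⁻¹) * d⁻¹) * d⁻¹ = (d * d * d) * u * (d * d * d)⁻¹ by group, hd3]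
    group)
  have h3' : ∀ u : A, u * u * u = 1 := fun u => Subtype.ext (by
    have := h3 u u.2
    rw [pow_succ, sq] at this
    simpa using this)
  set f : A → A := fun u => σ u * u⁻¹ with hf
  have hfix : ∀ u : A, f u = 1 → Commute d (u : Q) := fun u hu =>
    mul_inv_eq_iff_eq_mul.1 (congrArg Subtype.val (mul_inv_eq_one.1 hu))
  set a : A := ⟨x, hx⟩ with ha
  have hf3 : f (f (f a)) = 1 := by
    have e : ∀ p q r t : A, r * q⁻¹ * (q * p⁻¹)⁻¹ * (q * p⁻¹ * (p * t⁻¹)⁻¹)⁻¹ =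
        (p * p * p) * (q * q * q)⁻¹ * (r * t⁻¹) := fun p q r t => by
      simp only [_root_.mul_inv_rev, inv_inv]
      simp only [mul_comm, mul_left_comm, mul_assoc]
    simp only [hf, hσ, hσi]
    rw [e, h3', h3', hσ3, mul_inv_cancel]
    simp
  by_cases h1 : f a = 1
  · exact ⟨x, hx, hx1, hfix a h1⟩
  by_cases h2 : f (f a) = 1
  · exact ⟨_, (f a).2, fun e => h1 (Subtype.ext e), hfix _ h2⟩
  exact ⟨_, (f (f a)).2, fun e => h2 (Subtype.ext e), hfix _ hf3⟩

/-- elements of determinant one commuting with `D` and `S` modulo scalars are monomials -/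
theorem exists_monomial {g : G3} (hg : (g : M3).det = 1)
    (hgd : g * gD ω * g⁻¹ * (gD ω)⁻¹ ∈ Subgroup.center G3)
    (hgs : g * gS * g⁻¹ * gS⁻¹ ∈ Subgroup.center G3) :
    ∃ i j : ℕ, ((gS ^ i * gD ω ^ j)⁻¹ * g) ∈ Subgroup.center G3 := by
  have hdD : (gD ω : M3).det = 1 := by rw [val_gD, det_dm, ← mul_assoc, ω.cube]
  have hdS : ((gS : G3) : M3).det = 1 := by rw [val_gS, det_sm]
  have key : ∀ r : G3, (r : M3).det = 1 → g * r * g⁻¹ * r⁻¹ ∈ Subgroup.center G3 →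
      ∃ k : ℕ, g * r * g⁻¹ = gZ ω ^ k * r := fun r hr hz => by
    obtain ⟨k, hk⟩ := eq_gZ_pow ω hz (by
      have h1 : Matrix.GeneralLinearGroup.det (g * r * g⁻¹ * r⁻¹) = 1 := by
        simp [map_mul, map_inv, mul_comm, mul_left_comm]
      rw [← Matrix.GeneralLinearGroup.val_det_apply, h1, Units.val_one])
    exact ⟨k, by rw [← hk, inv_mul_cancel_right]⟩
  obtain ⟨i, hi⟩ := key _ hdD hgd
  obtain ⟨j, hj⟩ := key _ hdS hgs
  refine ⟨2 * i, j, ?_⟩
  set m := (gS : G3) ^ (2 * i) * gD ω ^ j with hm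
  have hcZ : ∀ (k : ℕ) (w : G3), gZ ω ^ k * w = w * gZ ω ^ k := fun k w => ((commute_gZ ω w).pow_left k).eq
  have hmD : m * gD ω * m⁻¹ = gZ ω ^ i * gD ω := by
    have h := pow_swap ω 1 (2 * i)
    rw [pow_one, one_mul] at h
    have h' : gZ ω ^ (2 * i) * (m * gD ω * m⁻¹) = gD ω := by
      rw [show m * gD ω * m⁻¹ = gS ^ (2 * i) * gD ω * (gS ^ (2 * i))⁻¹ by rw [hm]; group, ← mul_assoc, ← h,
        mul_inv_cancel_right]
    calc m * gD ω * m⁻¹ = gZ ω ^ i * (gZ ω ^ (2 * i) * (m * gD ω * m⁻¹)) := by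
          rw [← mul_assoc, ← pow_add, show i + 2 * i = 3 * i by ring, pow_mul, gZ_pow_three, one_pow, one_mul]
      _ = _ := by rw [h']
  have hmS : m * gS * m⁻¹ = gZ ω ^ j * gS := by
    have h := pow_swap ω j 1
    rw [pow_one, mul_one] at h
    rw [show m * gS * m⁻¹ = gS ^ (2 * i) * (gD ω ^ j * gS) * (gD ω ^ j)⁻¹ * (gS ^ (2 * i))⁻¹ by rw [hm]; group,
      h, ← mul_assoc (gS ^ (2 * i)), ← hcZ]
    group
  have hcomm : ∀ r : G3, g * r * g⁻¹ = m * r * m⁻¹ → Commute (m⁻¹ * g) r := fun r h => by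
    have h' : m⁻¹ * g * r * (m⁻¹ * g)⁻¹ = r := by
      rw [show m⁻¹ * g * r * (m⁻¹ * g)⁻¹ = m⁻¹ * (g * r * g⁻¹) * m by group, h]; group
    exact mul_inv_eq_iff_eq_mul.1 h'
  exact mem_center_of_commute ω (hcomm _ (hi.trans hmD.symm)) (hcomm _ (hj.trans hmS.symm))

/-- a normal solvable noncentral subgroup makes `⟨D, S⟩` normal -/
theorem le_normalizer_of_solvable {H K : Subgroup G3} (hdet : ∀ g ∈ H, (g : M3).det = 1)
    (hR : gR ω ≤ H) (hPhi : ∀ k, gPhi ω k ∈ H) (hKH : K ≤ H) (hn : H ≤ Subgroup.normalizer (K : Set G3))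
    (hsol : Group.IsSolvable K) (hnc : ¬ K ≤ Subgroup.center G3) :
    H ≤ Subgroup.normalizer (gR ω : Set G3) := by
  classical
  -- a term of the derived series with central commutators
  obtain ⟨A, hAH, hnA, hAc, hAnc⟩ : ∃ A : Subgroup G3, A ≤ H ∧ H ≤ Subgroup.normalizer (A : Set G3) ∧
      (∀ x ∈ A, ∀ y ∈ A, x * y * x⁻¹ * y⁻¹ ∈ Subgroup.center G3) ∧ ¬ A ≤ Subgroup.center G3 := by
    let D : ℕ → Subgroup G3 := fun k => (derivedSeries K k).map K.subtype
    have hex : ∃ k, D k ≤ Subgroup.center G3 := by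
      obtain ⟨k, hk⟩ := hsol.solvable
      exact ⟨k, by simp only [D, hk, Subgroup.map_bot, bot_le]⟩
    obtain ⟨j, hj⟩ : ∃ j, Nat.find hex = j + 1 := Nat.exists_eq_succ_of_ne_zero fun e => hnc (by
      have := Nat.find_spec hex
      rw [e] at this
      simpa [D, ← MonoidHom.range_eq_map] using this)
    refine ⟨D j, (Subgroup.map_subtype_le _).trans hKH,
      hn.trans (Coprime.SquareFixed.normalizer_le_normalizer_map K (derivedSeries K j)),
      fun x hx y hy => ?_, Nat.find_min hex (by omega)⟩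
    have hsp := Nat.find_spec hex
    rw [hj] at hsp
    obtain ⟨x', hx', rfl⟩ := hx
    obtain ⟨y', hy', rfl⟩ := hy
    refine hsp ⟨x' * y' * x'⁻¹ * y'⁻¹, ?_, rfl⟩
    rw [← commutatorElement_def, derivedSeries_succ]
    exact Subgroup.commutator_mem_commutator hx' hy'
  have hcj : ∀ g ∈ H, ∀ x ∈ A, g * x * g⁻¹ ∈ A := fun g hg x hx =>
    (Subgroup.mem_normalizer_iff.1 (hnA hg) x).1 hx
  -- the span of `A`
  obtain ⟨a₀, ha₀, ha₀c⟩ := SetLike.not_le_iff_exists.1 hAnc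
  set W : Submodule F M3 := Submodule.span F ((fun g : G3 => (g : M3)) '' (A : Set G3)) with hW
  have hWs : ∀ g ∈ H, ∀ M ∈ W, cj g M ∈ W := fun g hg M hM => by
    induction hM using Submodule.span_induction with
    | mem M hM =>
      obtain ⟨x, hx, rfl⟩ := hM
      rw [cj_val]
      exact Submodule.subset_span ⟨_, hcj g hg x hx, rfl⟩
    | zero => simp [cj]
    | add x y _ _ hx hy =>
      rw [show cj g (x + y) = cj g x + cj g y by simp [cj, mul_add, add_mul]]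
      exact add_mem hx hy
    | smul c x _ hx => rw [cj_smul]; exact W.smul_mem c hx
  obtain ⟨hdW, hsW⟩ := dm_sm_mem ω (hWs _ (hR (gD_mem ω))) (hWs _ (hR (gS_mem ω))) (hWs _ (hPhi 0))
    (hWs _ (hPhi 1)) (M := (a₀ : M3)) (Submodule.subset_span ⟨a₀, ha₀, rfl⟩)
    (fun e => ha₀c ((mem_center_iff_scalar ω).2 e))
  -- cubes are central
  have hcube : ∀ x ∈ A, x * x * x ∈ Subgroup.center G3 := by
    intro x hx
    have hall : ∀ M ∈ W, ((x * x * x : G3) : M3) * M = M * ((x * x * x : G3) : M3) := fun M hM => by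
      induction hM using Submodule.span_induction with
      | mem M hM =>
        obtain ⟨y, hy, rfl⟩ := hM
        have hz := hAc y hy x hx
        set z := y * x * y⁻¹ * x⁻¹ with hzd
        obtain ⟨k, hk⟩ := eq_gZ_pow ω hz (hdet _ (mul_mem (mul_mem (mul_mem (hAH hy) (hAH hx))
          (inv_mem (hAH hy))) (inv_mem (hAH hx))))
        have hz3 : z ^ 3 = 1 := by rw [hk, ← pow_mul, mul_comm, pow_mul, gZ_pow_three, one_pow]
        have hyx : y * x * y⁻¹ = z * x := by rw [hzd]; group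
        have hfix : y * (x * x * x) * y⁻¹ = x * x * x := by
          have hcz : Commute z x := (Subgroup.mem_center_iff.1 hz x).symm
          rw [show y * (x * x * x) * y⁻¹ = (y * x * y⁻¹) ^ 3 by rw [conj_pow, pow_succ, sq],
            hyx, hcz.mul_pow, hz3, one_mul, pow_succ, sq]
        show ((x * x * x : G3) : M3) * (y : M3) = (y : M3) * ((x * x * x : G3) : M3)
        rw [← Units.val_mul, ← Units.val_mul, (mul_inv_eq_iff_eq_mul.1 hfix).symm]
      | zero => simp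
      | add u v _ _ hu hv => rw [mul_add, add_mul, hu, hv]
      | smul c u _ hu => rw [Matrix.mul_smul, hu, Matrix.smul_mul]
    exact mem_center_of_commute ω
      (Units.ext (by rw [Units.val_mul, Units.val_mul (gD ω), val_gD, hall _ hdW]))
      (Units.ext (by rw [Units.val_mul, Units.val_mul gS, val_gS, hall _ hsW]))
  -- the image modulo scalars
  let π := QuotientGroup.mk' (Subgroup.center G3)
  have hπ : ∀ g : G3, π g = 1 ↔ g ∈ Subgroup.center G3 := fun g => QuotientGroup.eq_one_iff g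
  set Ā := A.map π with hĀ
  have hĀc : ∀ u ∈ Ā, ∀ v ∈ Ā, u * v = v * u := by
    rintro _ ⟨x, hx, rfl⟩ _ ⟨y, hy, rfl⟩
    have := (hπ _).2 (hAc x hx y hy)
    rw [map_mul, map_mul, map_mul, map_inv, map_inv, mul_inv_eq_one, mul_inv_eq_iff_eq_mul] at this
    exact this
  have hĀ3 : ∀ u ∈ Ā, u ^ 3 = 1 := by
    rintro _ ⟨x, hx, rfl⟩
    rw [← map_pow, hπ, pow_succ, sq]
    exact hcube x hx
  set d := π (gD ω) with hd
  set s := π gS with hs
  have hd3 : d ^ 3 = 1 := by rw [hd, ← map_pow, gD_pow_three, map_one]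
  have hs3 : s ^ 3 = 1 := by rw [hs, ← map_pow, gS_pow_three, map_one]
  have hds : Commute d s := by
    show π (gD ω) * π gS = π gS * π (gD ω)
    rw [← map_mul, gD_mul_gS, map_mul, (hπ _).2 (gZ_mem_center ω), one_mul, map_mul]
  have hnĀ : ∀ g ∈ H, ∀ u ∈ Ā, π g * u * (π g)⁻¹ ∈ Ā := by
    rintro g hg _ ⟨x, hx, rfl⟩
    exact ⟨_, hcj g hg x hx, by simp [map_mul]⟩
  obtain ⟨y, hy, hy1, hyd⟩ := exists_fixed hĀc hĀ3 hd3 (hnĀ _ (hR (gD_mem ω)))
    (x := π a₀) ⟨a₀, ha₀, rfl⟩ (fun e => ha₀c ((hπ _).1 e))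
  obtain ⟨v, hv, hv1, hvs⟩ := exists_fixed (A := Ā ⊓ Subgroup.centralizer {d})
    (fun u hu v hv => hĀc u hu.1 v hv.1) (fun u hu => hĀ3 u hu.1) hs3
    (fun u hu => ⟨hnĀ _ (hR (gS_mem ω)) u hu.1, Subgroup.mem_centralizer_singleton_iff.2 (by
      have h1 : Commute u d := Subgroup.mem_centralizer_singleton_iff.1 hu.2
      exact (((hds.symm).mul_left h1).mul_left hds.symm.inv_left).eq)⟩)
    (x := y) ⟨hy, Subgroup.mem_centralizer_singleton_iff.2 hyd.eq.symm⟩ hy1
  have hvd : Commute v d := Subgroup.mem_centralizer_singleton_iff.1 hv.2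
  have hmono : ∀ g ∈ H, Commute (π g) d → Commute (π g) s → ∃ i j : ℕ, π g = s ^ i * d ^ j := by
    intro g hg hgd hgs
    have hc : ∀ r : G3, Commute (π g) (π r) → g * r * g⁻¹ * r⁻¹ ∈ Subgroup.center G3 := fun r h => (hπ _).1 (by
      rw [map_mul, map_mul, map_mul, map_inv, map_inv, h.eq, mul_inv_cancel_right, mul_inv_cancel])
    obtain ⟨i, j, h⟩ := exists_monomial ω (hdet g hg) (hc _ hgd) (hc _ hgs)
    refine ⟨i, j, ?_⟩
    have := (hπ _).2 h
    rw [map_mul, map_inv, inv_mul_eq_one, map_mul, map_pow, map_pow] at this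
    exact this.symm
  obtain ⟨v', hv', rfl⟩ := hv.1
  obtain ⟨i, j, hij⟩ := hmono v' (hAH hv') hvd hvs.symm
  set φ := π (gPhi ω 0) with hφ
  have hφd : φ * d * φ⁻¹ = s ^ 2 := by
    rw [hd, hs, hφ, ← map_inv, ← map_mul, ← map_mul, ← map_pow, gPhi_mul_gD, mul_inv_cancel_right, imD,
      pow_zero, one_mul, pow_zero, mul_one, sq]
  have hφs : φ * s * φ⁻¹ = d := by
    rw [hd, hs, hφ, ← map_inv, ← map_mul, ← map_mul,
      show gPhi ω 0 * gS = gD ω * gPhi ω 0 by simpa [preD] using gPhi_mul_preD ω 0, mul_inv_cancel_right]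
  have ha : s ^ i * d ^ j ∈ Ā := hij ▸ ⟨v', hv', rfl⟩
  have hb : d ^ i * s ^ (2 * j) ∈ Ā := by
    have := hnĀ _ (hPhi 0) _ ha
    rwa [← hφ, ← conj_mul, ← conj_pow, ← conj_pow, hφd, hφs, ← pow_mul] at this
  have hn0 : ¬ (i % 3 = 0 ∧ j % 3 = 0) := fun h => hv1 (by
    rw [hij, pow_eq_pow_mod i hs3, pow_eq_pow_mod j hd3, h.1, h.2, pow_zero, pow_zero, one_mul])
  have hnn : ((i * i + j * j) * (i * i + j * j)) % 3 = 1 := by
    have hi := Nat.mod_lt i (show 3 > 0 by norm_num)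
    have hj := Nat.mod_lt j (show 3 > 0 by norm_num)
    rw [Nat.mul_mod, Nat.add_mod, Nat.mul_mod i i, Nat.mul_mod j j]
    interval_cases i % 3 <;> interval_cases j % 3 <;> simp_all
  set n := i * i + j * j with hndef
  have hcomb : ∀ x y : ℕ, s ^ (i * x + 2 * j * y) * d ^ (j * x + i * y) ∈ Ā := fun x y => by
    have e : (s ^ i * d ^ j) ^ x * (d ^ i * s ^ (2 * j)) ^ y =
        s ^ (i * x + 2 * j * y) * d ^ (j * x + i * y) := by
      rw [(hds.symm.pow_pow i j).mul_pow, (hds.pow_pow i (2 * j)).mul_pow, ← pow_mul, ← pow_mul, ← pow_mul,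
        ← pow_mul, pow_add s, mul_assoc, mul_assoc, ← mul_assoc (d ^ (j * x)), ← pow_add,
        (hds.pow_pow (j * x + i * y) _).eq]
      simp only [mul_assoc]
    exact e ▸ mul_mem (pow_mem ha x) (pow_mem hb y)
  have hsĀ : s ∈ Ā := by
    have := hcomb (n * i) (2 * n * j)
    rw [pow_eq_pow_mod _ hs3, pow_eq_pow_mod (j * (n * i) + i * (2 * n * j)) hd3,
      show (i * (n * i) + 2 * j * (2 * n * j)) % 3 = 1 by
        rw [show i * (n * i) + 2 * j * (2 * n * j) = n * n + 3 * (n * j * j) by rw [hndef]; ring, Nat.add_mul_mod_self_left, hnn],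
      show (j * (n * i) + i * (2 * n * j)) % 3 = 0 by
        rw [show j * (n * i) + i * (2 * n * j) = 3 * (n * i * j) by ring, Nat.mul_mod_right],
      pow_one, pow_zero, mul_one] at this
    exact this
  have hdĀ : d ∈ Ā := by
    have := hcomb (n * j) (n * i)
    rw [pow_eq_pow_mod _ hs3, pow_eq_pow_mod (j * (n * j) + i * (n * i)) hd3,
      show (i * (n * j) + 2 * j * (n * i)) % 3 = 0 by
        rw [show i * (n * j) + 2 * j * (n * i) = 3 * (n * i * j) by ring, Nat.mul_mod_right],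
      show (j * (n * j) + i * (n * i)) % 3 = 1 by
        rw [show j * (n * j) + i * (n * i) = n * n by rw [hndef]; ring, hnn],
      pow_one, pow_zero, one_mul] at this
    exact this
  -- `H` normalizes `⟨D, S⟩`
  have hgen : ∀ g ∈ H, ∀ r : G3, r ∈ H → π r ∈ Ā → g * r * g⁻¹ ∈ gR ω := by
    intro g hg r hr hrA
    set w := g * r * g⁻¹ with hw
    have hwH : w ∈ H := mul_mem (mul_mem hg hr) (inv_mem hg)
    have hwA : π w ∈ Ā := by
      rw [hw, map_mul, map_mul, map_inv]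
      exact hnĀ g hg _ hrA
    obtain ⟨a, b, hab⟩ := hmono w hwH (hĀc _ hwA _ hdĀ) (hĀc _ hwA _ hsĀ)
    have hmR : gS ^ a * gD ω ^ b ∈ gR ω := mul_mem (pow_mem (gS_mem ω) _) (pow_mem (gD_mem ω) _)
    have hc : (gS ^ a * gD ω ^ b)⁻¹ * w ∈ Subgroup.center G3 := (hπ _).1 (by
      rw [map_mul, map_inv, map_mul, map_pow, map_pow, ← hab, inv_mul_cancel])
    obtain ⟨k, hk⟩ := eq_gZ_pow ω hc (hdet _ (mul_mem (inv_mem (hR hmR)) hwH))
    rw [← mul_inv_cancel_left (gS ^ a * gD ω ^ b) w, hk]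
    exact mul_mem hmR (pow_mem (gZ_mem ω) _)
  have hle : ∀ g ∈ H, ∀ r ∈ gR ω, g * r * g⁻¹ ∈ gR ω := by
    intro g hg r hr
    induction hr using Subgroup.closure_induction with
    | mem x hx =>
      rcases hx with rfl | rfl
      · exact hgen g hg _ (hR (gD_mem ω)) hdĀ
      · exact hgen g hg _ (hR (gS_mem ω)) hsĀ
    | one => simp
    | mul x y _ _ hx hy =>
      rw [← conj_mul]
      exact mul_mem hx hy
    | inv x _ hx =>
      rw [← conj_inv]
      exact inv_mem hx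
  intro g hg
  refine Subgroup.mem_normalizer_iff.2 fun r => ⟨hle g hg r, fun h => ?_⟩
  have := hle g⁻¹ (inv_mem hg) _ h
  simpa [mul_assoc] using this

end CfsgLib.Perm.Trans.ThreeDim.Heis
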