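import Cfsg.Agent.Lib.Perm.Trans.ThreeDim.HeisComplex
import Cfsg.Agent.Lib.Perm.Trans.ThreeDim.HeisNormal
import Cfsg.Agent.Lib.Perm.Elusive.ExtraspecialThree
import Cfsg.Agent.Lib.Invol.BrauerSuzuki
import Cfsg.Agent.Lib.FT.NoMinSimple

/-!
# Overgroups of the frame normalizer with a faithful complex representation of degree three

Such a group normalizes `⟨D, S⟩`.
-/

set_option autoImplicit false
set_option linter.all false

namespace CfsgLib.Perm.Trans.ThreeDim.Heis

open Matrix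

variable {F : Type*} [Field F]

/-- two elements of order three commuting up to a central element of order three -/
theorem exists_frame_of_comm (h3 : (3 : F) ≠ 0) {om : F} (hom : om * om + om + 1 = 0)
    {A B C : GL (Fin 3) F} (hA : A ^ 3 = 1) (hB : B ^ 3 = 1) (hC : C ^ 3 = 1) (hCA : Commute C A)
    (hCB : Commute C B) (hAB : A * B = C * (B * A)) (hC1 : C ≠ 1) :
    ∃ (ν : Root F) (P : GL (Fin 3) F),
      P⁻¹ * A * P = gD ν ∧ P⁻¹ * B * P = gS ∧ P⁻¹ * C * P = gZ ν := by
  classical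
  have cube : ∀ g : GL (Fin 3) F, g ^ 3 = 1 → (g : Matrix (Fin 3) (Fin 3) F) * g * g = 1 := fun g hg => by
    have := congrArg Units.val hg
    rw [pow_succ, sq] at this
    simpa using this
  obtain ⟨a, ha⟩ : ∃ a, a = (A : Matrix (Fin 3) (Fin 3) F) := ⟨_, rfl⟩
  obtain ⟨b, hb⟩ : ∃ b, b = (B : Matrix (Fin 3) (Fin 3) F) := ⟨_, rfl⟩
  obtain ⟨c, hc⟩ : ∃ c, c = (C : Matrix (Fin 3) (Fin 3) F) := ⟨_, rfl⟩
  have hcab : a * b = c * (b * a) := by simpa [ha, hb, hc] using congrArg Units.val hAB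
  have hne : a * b ≠ b * a := fun h => hC1 (by
    have hABu : A * B = B * A := Units.ext (by simpa [ha, hb] using h)
    exact mul_eq_right.1 (hAB.symm.trans hABu))
  have hca : a * c = c * a := by simpa [ha, hc] using congrArg Units.val hCA.eq.symm
  have hcb : b * c = c * b := by simpa [hb, hc] using congrArg Units.val hCB.eq.symm
  have hc3 : c * c * c = 1 := hc ▸ cube C hC
  have ha3 : a * a * a = 1 := ha ▸ cube A hA
  have hb3 : b * b * b = 1 := hb ▸ cube B hB
  have hcd : c.det = 1 := by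
    have h := congrArg Matrix.det hcab
    rw [Matrix.det_mul, Matrix.det_mul, Matrix.det_mul] at h
    have hu : IsUnit (b.det * a.det) := by
      rw [ha, hb]
      exact ((Matrix.isUnit_iff_isUnit_det _).1 B.isUnit).mul ((Matrix.isUnit_iff_isUnit_det _).1 A.isUnit)
    exact hu.mul_right_cancel (by linear_combination -h)
  obtain ⟨μ, hμ⟩ : ∃ μ : F, c = μ • 1 := by
    by_contra hns
    push Not at hns
    have hsingle : ∀ μ : F, ∀ v w, c *ᵥ v = μ • v → c *ᵥ w = μ • w → ¬ LinearIndependent F ![v, w] :=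
      fun μ v w hv hw hli => hns μ (Elusive.eigen_single h3 hcd hc3 hv hw hli)
    obtain ⟨e, he⟩ := Elusive.exists_eigenbasis_three h3 hom hc3 hsingle
    have hline : ∀ g : Matrix (Fin 3) (Fin 3) F, g * c = c * g → ∀ i, ∃ t : F, t • e i = g *ᵥ e i :=
      fun g hg i => by
      by_contra hcon
      push Not at hcon
      refine hsingle (om ^ (i : ℕ)) (e i) (g *ᵥ e i) (he i) ?_
        ((LinearIndependent.pair_iff' (e.ne_zero i)).2 hcon)
      rw [mulVec_mulVec, ← hg, ← mulVec_mulVec, he, mulVec_smul]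
    refine hne (Matrix.toLin'.injective (e.ext fun i => ?_))
    obtain ⟨s, hs⟩ := hline a hca i
    obtain ⟨t, ht⟩ := hline b hcb i
    simp only [Matrix.toLin'_apply]
    rw [← mulVec_mulVec, ← mulVec_mulVec, ← ht, ← hs, mulVec_smul, mulVec_smul, ← hs, ← ht, smul_comm]
  have hμ3 : μ * μ * μ = 1 := by
    have h := congrFun (congrFun hc3 0) 0
    rw [hμ] at h
    simp at h
    linear_combination h
  have hμ1 : μ ≠ 1 := fun h => hne (by rw [hcab, hμ, h, one_smul, one_mul])
  have hμq : μ * μ + μ + 1 = 0 :=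
    (mul_eq_zero.1 (show (μ - 1) * (μ * μ + μ + 1) = 0 by linear_combination hμ3)).resolve_left (sub_ne_zero.2 hμ1)
  let ν : Root F := ⟨μ, hμq, h3⟩
  rw [hμ, Matrix.smul_mul, Matrix.one_mul] at hcab
  obtain ⟨u, hu⟩ : ∃ u : Fin 3 → F, u + a *ᵥ u + a *ᵥ (a *ᵥ u) ≠ 0 := by
    by_contra hcon
    push Not at hcon
    have hN : a * a + a + 1 = 0 := Matrix.ext_of_mulVec_single fun i => by
      rw [add_mulVec, add_mulVec, ← mulVec_mulVec, one_mulVec, zero_mulVec]
      rw [← hcon (Pi.single i 1)]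
      abel
    have h1 : b * ((μ * μ) • (a * a) + μ • a + 1) = 0 := by
      have : (a * a + a + 1) * b = b * ((μ * μ) • (a * a) + μ • a + 1) := by
        rw [add_mul, add_mul, one_mul, Matrix.mul_assoc, hcab, Matrix.mul_smul, ← Matrix.mul_assoc, hcab,
          Matrix.smul_mul, smul_smul, mul_add, mul_add, mul_one, Matrix.mul_smul, Matrix.mul_smul, Matrix.mul_assoc]
      rw [← this, hN, zero_mul]
    have h2 : (μ * μ) • (a * a) + μ • a + 1 = 0 := by
      have := congrArg (fun M => b * b * M) h1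
      simpa [← Matrix.mul_assoc, hb3] using this
    have h4 : a * a = (-(μ + 1)) • (1 : Matrix (Fin 3) (Fin 3) F) := by
      have h5 : (μ + 1) • (a * a) + a = 0 := by
        refine (smul_eq_zero.1 (show (μ - 1) • ((μ + 1) • (a * a) + a) = 0 from ?_)).resolve_left (sub_ne_zero.2 hμ1)
        linear_combination (norm := module) h2 - hN
      have h6 := congrArg (fun M => a * M) h5
      simp only [mul_add, Matrix.mul_smul, ← Matrix.mul_assoc, ha3, mul_zero] at h6
      linear_combination (norm := module) h6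
    have h7 : a = ((-(μ + 1)) * (-(μ + 1))) • (1 : Matrix (Fin 3) (Fin 3) F) := by
      calc a = (a * a) * (a * a) := by rw [← Matrix.mul_assoc, ha3, one_mul]
        _ = _ := by rw [h4, Matrix.smul_mul, Matrix.one_mul, smul_smul]
    refine hne ?_
    rw [h7, Matrix.smul_mul, Matrix.one_mul, Matrix.mul_smul, Matrix.mul_one]
  obtain ⟨v, hv⟩ : ∃ v, v = u + a *ᵥ u + a *ᵥ (a *ᵥ u) := ⟨_, rfl⟩
  have hav : a *ᵥ v = v := by
    rw [hv, mulVec_add, mulVec_add, show a *ᵥ (a *ᵥ (a *ᵥ u)) = u by rw [mulVec_mulVec, mulVec_mulVec, ha3, one_mulVec]]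
    abel
  have habv : ∀ w (l : F), a *ᵥ w = l • w → a *ᵥ (b *ᵥ w) = (μ * l) • (b *ᵥ w) := fun w l hw => by
    rw [mulVec_mulVec, hcab, smul_mulVec, ← mulVec_mulVec, hw, mulVec_smul, smul_smul]
  obtain ⟨e, he⟩ : ∃ e : Fin 3 → Fin 3 → F, e = ![v, b *ᵥ v, b *ᵥ (b *ᵥ v)] := ⟨_, rfl⟩
  have hv0 : v ≠ 0 := hv ▸ hu
  have hbinj : ∀ w, b *ᵥ w = 0 → w = 0 := fun w hw => by
    have : (b * b * b) *ᵥ w = 0 := by rw [← mulVec_mulVec, hw, mulVec_zero]
    rwa [hb3, one_mulVec] at this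
  have he1 : a *ᵥ (b *ᵥ v) = μ • (b *ᵥ v) := by
    rw [habv v 1 (by rw [one_smul, hav]), mul_one]
  have hae : ∀ j, a *ᵥ e j = ![1, μ, μ * μ] j • e j := fun j => by
    rw [he]
    fin_cases j
    · simpa using hav
    · simpa using he1
    · simpa using habv _ _ he1
  have hinj : Function.Injective ![(1 : F), μ, μ * μ] := by
    have h12 : μ ≠ μ * μ := ν.ne_sq
    have h02 : μ * μ ≠ 1 := ν.sq_ne_one
    intro i j h
    fin_cases i <;> fin_cases j <;> simp [-mul_right_eq_self₀] at h ⊢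
    exacts [hμ1 h.symm, h02 h.symm, hμ1 h, h12 h, h02 h, h12 h.symm]
  have hli : LinearIndependent F e :=
    Module.End.eigenvectors_linearIndependent' (Matrix.toLin' a) _ hinj e fun j =>
      ⟨Module.End.mem_eigenspace_iff.2 (by rw [Matrix.toLin'_apply]; exact hae j), by
        rw [he]
        fin_cases j
        · simpa using hv0
        · simpa using fun h => hv0 (hbinj _ h)
        · simpa using fun h => hv0 (hbinj _ (hbinj _ h))⟩
  obtain ⟨P, hP⟩ := (Matrix.linearIndependent_cols_iff_isUnit (A := Matrix.of fun i j => e j i)).1 hli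
  refine ⟨ν, P, ?_, ?_, ?_⟩ <;> rw [mul_assoc, inv_mul_eq_iff_eq_mul] <;> refine Units.ext ?_ <;>
    rw [Units.val_mul, Units.val_mul]
  · rw [hP, val_gD, ← ha]
    exact Elusive.mul_cols_of_eigen a e _ hae
  · rw [hP, val_gS, ← hb]
    have hb2' : b *ᵥ (b *ᵥ (b *ᵥ v)) = v := by rw [mulVec_mulVec, mulVec_mulVec, hb3, one_mulVec]
    have hcol : ∀ j, b *ᵥ e j = e (j + 1) := fun j => by
      rw [he]
      fin_cases j <;> simp [hb2', ← Matrix.mul_assoc, hb3]
    ext i j
    have hij : (b * Matrix.of fun i j => e j i) i j = e (j + 1) i := by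
      rw [← hcol j]; rfl
    rw [hij, sm, Matrix.mul_apply, Fin.sum_univ_three]
    fin_cases j <;> simp
  · rw [val_gZ, ← hc, hμ, Matrix.smul_mul, Matrix.one_mul, Matrix.mul_smul, Matrix.mul_one]

theorem isOfFinOrder_smul {M : Matrix (Fin 3) (Fin 3) F} (hM : IsOfFinOrder M) {ζ : F} (hζ : IsOfFinOrder ζ) :
    IsOfFinOrder (ζ • M) := by
  obtain ⟨m, hm, hMm⟩ := isOfFinOrder_iff_pow_eq_one.1 hM
  obtain ⟨n, hn, hζn⟩ := isOfFinOrder_iff_pow_eq_one.1 hζ
  refine isOfFinOrder_iff_pow_eq_one.2 ⟨m * n, Nat.mul_pos hm hn, ?_⟩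
  rw [smul_pow, pow_mul M, hMm, one_pow, mul_comm m n, pow_mul ζ, hζn, one_pow, one_smul]

variable (ω : Root F)

/-- a scalar of determinant one and square one is trivial -/
theorem eq_one_of_sq (ω : Root F) {g : GL (Fin 3) F} (hg : g ∈ Subgroup.center (GL (Fin 3) F)) (hd : (g : Matrix (Fin 3) (Fin 3) F).det = 1)
    (h2 : g * g = 1) : g = 1 := by
  obtain ⟨k, rfl⟩ := eq_gZ_pow ω hg hd
  have h3 : (gZ ω ^ k) ^ 3 = 1 := by rw [← pow_mul, mul_comm, pow_mul, gZ_pow_three, one_pow]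
  rwa [pow_succ, sq, h2, one_mul] at h3

/-- The main lemma: a lifted overgroup of the frame normalizer normalizes `⟨D, S⟩`. -/
theorem le_normalizer_of_lift (h2 : (2 : F) ≠ 0) {H : Subgroup (GL (Fin 3) F)} [Finite H]
    (hdet : ∀ g ∈ H, (g : Matrix (Fin 3) (Fin 3) F).det = 1) (hR : gR ω ≤ H) (hPhi : ∀ k, gPhi ω k ∈ H)
    (ρ : H →* GL (Fin 3) ℂ) (hρ : Function.Injective ρ) :
    H ≤ Subgroup.normalizer (gR ω : Set (GL (Fin 3) F)) := by
  classical
  let D : H := ⟨gD ω, hR (gD_mem ω)⟩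
  let S : H := ⟨gS, hR (gS_mem ω)⟩
  let Z : H := ⟨gZ ω, hR (gZ_mem ω)⟩
  let T : H := ⟨gT, gPhi_sq ω 0 ▸ mul_mem (hPhi 0) (hPhi 0)⟩
  let Φ : ℕ → H := fun k => ⟨gPhi ω k, hPhi k⟩
  have hC3 : (3 : ℂ) ≠ 0 := by norm_num
  obtain ⟨om, hom⟩ : ∃ om : ℂ, om * om + om + 1 = 0 := by
    obtain ⟨s, hs⟩ := IsAlgClosed.exists_pow_nat_eq (-3 : ℂ) (by norm_num : 0 < 2)
    exact ⟨(-1 + s) / 2, by linear_combination (1 / 4 : ℂ) * hs⟩
  have hZc : ∀ g : H, Z * g = g * Z := fun g => Subtype.ext (commute_gZ ω g.1).eq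
  obtain ⟨ν, P, hD, hS, hZ⟩ := exists_frame_of_comm hC3 hom (A := ρ D) (B := ρ S) (C := ρ Z)
    (by rw [← map_pow, show D ^ 3 = 1 from Subtype.ext (gD_pow_three ω), map_one])
    (by rw [← map_pow, show S ^ 3 = 1 from Subtype.ext gS_pow_three, map_one])
    (by rw [← map_pow, show Z ^ 3 = 1 from Subtype.ext (gZ_pow_three ω), map_one])
    ((show Commute Z D from hZc D).map ρ) ((show Commute Z S from hZc S).map ρ)
    (by rw [← map_mul, ← map_mul, ← map_mul]; exact congrArg ρ (Subtype.ext (gD_mul_gS ω)))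
    (fun h => ω.ne_one (by
      have h' := congrArg Subtype.val (hρ (h.trans (map_one ρ).symm))
      simpa [Z, val_gZ] using Matrix.ext_iff.2 (congrArg Units.val h') 0 0))
  let θ : H →* GL (Fin 3) ℂ := (MulAut.conj P⁻¹).toMonoidHom.comp ρ
  have hθ : ∀ g : H, θ g = P⁻¹ * ρ g * P := fun g => by
    show P⁻¹ * ρ g * P⁻¹⁻¹ = _
    rw [inv_inv]
  have hθi : Function.Injective θ := (MulAut.conj P⁻¹).injective.comp hρ
  have hθD : θ D = gD ν := by rw [hθ, hD]
  have hθS : θ S = gS := by rw [hθ, hS]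
  have hθZ : θ Z = gZ ν := by rw [hθ, hZ]
  have hfin : ∀ g : H, IsOfFinOrder ((θ g : GL (Fin 3) ℂ) : Matrix (Fin 3) (Fin 3) ℂ) := fun g =>
    MonoidHom.isOfFinOrder (Units.coeHom _) (MonoidHom.isOfFinOrder θ (isOfFinOrder_of_finite g))
  -- scalar images come from scalars
  have hscal : ∀ (g : H) (c : ℂ), ((θ g : GL (Fin 3) ℂ) : Matrix (Fin 3) (Fin 3) ℂ) = c • 1 →
      (g : GL (Fin 3) F) ∈ Subgroup.center (GL (Fin 3) F) := fun g c h => by
    have hcom : ∀ x : H, Commute g x := fun x => hθi (Units.ext (by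
      rw [map_mul, map_mul, Units.val_mul, Units.val_mul, h]; simp))
    exact mem_center_of_commute ω (congrArg Subtype.val (hcom D).eq) (congrArg Subtype.val (hcom S).eq)
  -- the images of the `Φ k`
  have hΦ : ∀ k, ∃ ζ : ℂ, IsOfFinOrder ζ ∧
      ((θ (Φ k) : GL (Fin 3) ℂ) : Matrix (Fin 3) (Fin 3) ℂ) = ζ • phim ν (ν.μ ^ k) := by
    intro k
    have r1 : θ (Φ k) * gD ν = imD ν k * θ (Φ k) := by
      have h : Φ k * D = Z ^ k * (S * S * D ^ k) * Φ k := Subtype.ext (by
        simpa [Φ, D, S, Z, imD] using gPhi_mul_gD ω k)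
      have := congrArg θ h
      simpa only [map_mul, map_pow, hθD, hθS, hθZ, imD] using this
    have r2 : θ (Φ k) * preD ν k = gD ν * θ (Φ k) := by
      have h : Φ k * (Z ^ k * (S * D ^ (2 * k))) = D * Φ k := Subtype.ext (by
        simpa [Φ, D, S, Z, preD] using gPhi_mul_preD ω k)
      have := congrArg θ h
      simpa only [map_mul, map_pow, hθD, hθS, hθZ, preD] using this
    obtain ⟨g, hg⟩ : ∃ g, g = (gPhi ν k)⁻¹ * θ (Φ k) := ⟨_, rfl⟩
    have c1 : Commute g (gD ν) := by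
      show g * gD ν = gD ν * g
      rw [hg, mul_assoc, r1, ← mul_assoc, ← mul_assoc, eq_comm]
      congr 1
      rw [eq_inv_mul_iff_mul_eq, ← mul_assoc, gPhi_mul_gD, mul_inv_cancel_right]
    have c2 : Commute g (preD ν k) := by
      show g * preD ν k = preD ν k * g
      rw [hg, mul_assoc, r2, ← mul_assoc, ← mul_assoc, eq_comm]
      congr 1
      rw [eq_inv_mul_iff_mul_eq, ← mul_assoc, gPhi_mul_preD, mul_inv_cancel_right]
    have hs := scalar_of_commute ν c1 (commute_gS_of ν c1 c2)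
    set ζ := (g : Matrix (Fin 3) (Fin 3) ℂ) 0 0 with hζ
    refine ⟨ζ, ?_, ?_⟩
    · have hY : gPhi ν k ^ 4 = 1 := by
        rw [show 4 = 2 * 2 from rfl, pow_mul, sq (gPhi ν k), gPhi_sq, sq]
        refine Units.ext ?_
        rw [Units.val_mul, val_gT, Units.val_one]
        ext i j
        fin_cases i <;> fin_cases j <;> simp [tm, Matrix.mul_apply, Fin.sum_univ_three]
      have hcg : Commute (gPhi ν k) g := Units.ext (by rw [Units.val_mul, Units.val_mul, hs]; simp)
      obtain ⟨N, hN, hXN⟩ := isOfFinOrder_iff_pow_eq_one.1 (MonoidHom.isOfFinOrder θ (isOfFinOrder_of_finite (Φ k)))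
      have e : g ^ (4 * N) = 1 := by
        rw [hg, ((show Commute (gPhi ν k)⁻¹ (θ (Φ k)) by
          have : θ (Φ k) = gPhi ν k * g := by rw [hg, mul_inv_cancel_left]
          rw [this]; exact ((Commute.refl _).mul_right hcg).inv_left)).mul_pow, inv_pow, pow_mul, hY, one_pow,
          inv_one, one_mul, mul_comm, pow_mul, hXN, one_pow]
      have e' := congrArg Units.val e
      rw [Units.val_pow_eq_pow_val, hs, smul_pow, one_pow, Units.val_one] at e'
      exact isOfFinOrder_iff_pow_eq_one.2 ⟨4 * N, by omega, by simpa using congrFun (congrFun e' 0) 0⟩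
    · rw [show θ (Φ k) = gPhi ν k * g by rw [hg, mul_inv_cancel_left], Units.val_mul, hs, val_gPhi,
        Matrix.mul_smul, Matrix.mul_one]
  obtain ⟨ζ, hζf, hζ⟩ := hΦ 0
  have hζ0 : ζ ≠ 0 := fun h => by
    obtain ⟨n, hn, h'⟩ := isOfFinOrder_iff_pow_eq_one.1 hζf
    rw [h, zero_pow hn.ne'] at h'
    exact zero_ne_one h'
  have hθT : ((θ T : GL (Fin 3) ℂ) : Matrix (Fin 3) (Fin 3) ℂ) = (ζ * ζ) • tm := by
    rw [show T = Φ 0 * Φ 0 from Subtype.ext (gPhi_sq ω 0).symm, map_mul, Units.val_mul, hζ, Matrix.smul_mul,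
      Matrix.mul_smul, smul_smul, phim_sq ν (ν.pow_cube 0)]
  -- `T` is the only involution of its centralizer
  have hTne : T ≠ 1 := fun h => h2 (by
    have := Matrix.ext_iff.2 (congrArg Units.val (congrArg Subtype.val h)) 0 0
    simp [T, val_gT, tm] at this
    linear_combination -this)
  have hTT : T * T = 1 := Subtype.ext (Units.ext (by
    show (tm : Matrix (Fin 3) (Fin 3) F) * tm = 1
    ext i j
    fin_cases i <;> fin_cases j <;> simp [tm, Matrix.mul_apply, Fin.sum_univ_three]))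
  have key : ∀ s : H, s * s = 1 → s ≠ 1 → Commute s T → s = T := by
    intro s hs hs1 hsT
    by_contra hne
    set M := ((θ s : GL (Fin 3) ℂ) : Matrix (Fin 3) (Fin 3) ℂ) with hM
    have hMM : M * M = 1 := by rw [hM, ← Units.val_mul, ← map_mul, hs, map_one, Units.val_one]
    have hζ2 : ζ * ζ ≠ 0 := mul_ne_zero hζ0 hζ0
    have hMT : M * tm = tm * M := by
      have h := congrArg (fun g : H => ((θ g : GL (Fin 3) ℂ) : Matrix (Fin 3) (Fin 3) ℂ)) hsT.eq
      simp only [map_mul, Units.val_mul, hθT, ← hM, Matrix.mul_smul, Matrix.smul_mul] at h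
      exact smul_right_injective _ hζ2 h
    have hsc : ∀ c : ℂ, M = c • tm → False := fun c h => hne (by
      have h1 : ((θ (s * T) : GL (Fin 3) ℂ) : Matrix (Fin 3) (Fin 3) ℂ) = (c * (ζ * ζ)) • 1 := by
        rw [map_mul, Units.val_mul, hθT, ← hM, h, Matrix.smul_mul, Matrix.mul_smul, smul_smul]
        congr 1
        ext i j
        fin_cases i <;> fin_cases j <;> simp [tm, Matrix.mul_apply, Fin.sum_univ_three]
      have h' := eq_one_of_sq ω (hscal _ _ h1) (hdet _ (s * T).2) (congrArg Subtype.val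
        (show s * T * (s * T) = 1 by rw [hsT.symm.mul_mul_mul_comm, hs, hTT, one_mul]))
      calc s = s * T * T := by rw [mul_assoc, hTT, mul_one]
        _ = T := by rw [show s * T = 1 from Subtype.ext h', one_mul])
    refine false_of_involution ν hMM hMT ?_ ?_ (fun h => hsc 1 (by rw [one_smul, h]))
      (fun h => hsc (-1) (by rw [neg_one_smul, h])) ?_ (fun k => ?_) (fun k => ?_)
    · exact fun h => hs1 (hθi (Units.ext (by rw [map_one]; exact h)))
    · exact fun h => hs1 (Subtype.ext (eq_one_of_sq ω (hscal s (-1) (by rw [neg_one_smul]; exact h)) (hdet _ s.2)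
        (congrArg Subtype.val hs)))
    · have := hfin (s * D)
      rwa [map_mul, Units.val_mul, hθD, val_gD] at this
    · have := hfin (s * (S * D ^ k))
      rwa [map_mul, map_mul, map_pow, Units.val_mul, Units.val_mul, hθD, hθS, val_gD_pow, val_gS] at this
    · obtain ⟨η', hη', hk⟩ := hΦ k
      have h0 : η' ≠ 0 := fun h => by
        obtain ⟨n, hn, h'⟩ := isOfFinOrder_iff_pow_eq_one.1 hη'
        rw [h, zero_pow hn.ne'] at h'
        exact zero_ne_one h'
      have hinv : IsOfFinOrder η'⁻¹ := by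
        obtain ⟨n, hn, h'⟩ := isOfFinOrder_iff_pow_eq_one.1 hη'
        exact isOfFinOrder_iff_pow_eq_one.2 ⟨n, hn, by rw [inv_pow, h', inv_one]⟩
      have h' := isOfFinOrder_smul (hfin (s * Φ k)) hinv
      rwa [map_mul, Units.val_mul, hk, ← hM, Matrix.mul_smul, smul_smul, inv_mul_cancel₀ h0, one_smul] at h'
  -- hence `T` is central modulo the odd core
  haveI : Fact (Nat.Prime 2) := ⟨Nat.prime_two⟩
  have hTord : orderOf T = 2 := Invol.invol_iff.2 ⟨hTT, hTne⟩
  obtain ⟨Q, hQ⟩ := IsPGroup.exists_le_sylow (IsPGroup.of_card (n := 1)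
    (show Nat.card (Subgroup.zpowers T) = 2 ^ 1 by rw [Nat.card_zpowers, hTord, pow_one]))
  have hTQ : T ∈ (Q : Subgroup H) := hQ (Subgroup.mem_zpowers T)
  have hcenT : ∀ x ∈ (Q : Subgroup H), Commute x T := by
    haveI : Nontrivial (Q : Subgroup H) := ⟨⟨⟨T, hTQ⟩, 1, fun h => hTne (congrArg Subtype.val h)⟩⟩
    haveI := Q.2.center_nontrivial
    have hp : IsPGroup 2 (Subgroup.center (Q : Subgroup H)) := Q.2.to_subgroup _
    obtain ⟨n, hn, hcard⟩ : ∃ n : ℕ, 0 < n ∧ Nat.card (Subgroup.center (Q : Subgroup H)) = 2 ^ n := by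
      obtain ⟨n, hn⟩ := hp.exists_card_eq
      refine ⟨n, Nat.pos_of_ne_zero fun h => ?_, hn⟩
      have := Finite.one_lt_card_iff_nontrivial.2 (inferInstance : Nontrivial (Subgroup.center (Q : Subgroup H)))
      rw [hn, h] at this
      norm_num at this
    obtain ⟨w, hw⟩ := exists_prime_orderOf_dvd_card' 2 (hcard ▸ dvd_pow_self 2 hn.ne')
    have hwo : orderOf ((w : (Q : Subgroup H)) : H) = 2 := by
      rw [Subgroup.orderOf_coe, Subgroup.orderOf_coe, hw]
    have hwc : ∀ x ∈ (Q : Subgroup H), Commute x ((w : (Q : Subgroup H)) : H) := fun x hx =>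
      congrArg Subtype.val (Subgroup.mem_center_iff.1 w.2 ⟨x, hx⟩)
    have hwT := key _ (Invol.invol_iff.1 hwo).1 (Invol.invol_iff.1 hwo).2 (hwc T hTQ).symm
    exact fun x hx => hwT ▸ hwc x hx
  have hzc : Invol.IsZCentral T := Invol.zcentral_of_unique_invol Q hTord fun x hx hxo =>
    key x (Invol.invol_iff.1 hxo).1 (Invol.invol_iff.1 hxo).2 (hcenT x hx)
  -- the odd core is solvable and noncentral
  set K := Cfsg.pPrimeCore 2 H with hK
  haveI : K.Normal := by haveI := Coprime.pPrimeCore_characteristic (G := H) 2; infer_instance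
  have hodd : Odd (Nat.card K) :=
    Nat.not_even_iff_odd.1 fun h => Coprime.pPrimeCore_not_dvd (G := H) Nat.prime_two h.two_dvd
  have hDK : D ∈ K := by
    have h := hzc D
    have e : T * D * T⁻¹ * D⁻¹ = D := by
      rw [show T * D = D * D * T from Subtype.ext (gT_mul_gD ω), mul_inv_cancel_right, mul_inv_cancel_right]
    rwa [e] at h
  haveI : Group.IsSolvable K := FT.isSolvable_of_odd K hodd
  refine le_normalizer_of_solvable ω hdet hR hPhi (K := K.map H.subtype) (Subgroup.map_subtype_le K)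
    (fun g hg => Subgroup.mem_normalizer_iff.2 fun x => ?_)
    (Group.isSolvable_of_surjective (f := (K.equivMapOfInjective _ H.subtype_injective).toMonoidHom) (K.equivMapOfInjective _ H.subtype_injective).surjective) (fun h => ?_)
  · constructor
    · rintro ⟨y, hy, rfl⟩
      exact ⟨⟨g, hg⟩ * y * ⟨g, hg⟩⁻¹, Subgroup.Normal.conj_mem inferInstance y hy _, rfl⟩
    · rintro ⟨y, hy, hxy⟩
      refine ⟨(⟨g, hg⟩ : H)⁻¹ * y * ⟨g, hg⟩, by
        simpa using Subgroup.Normal.conj_mem (inferInstance : K.Normal) y hy (⟨g, hg⟩ : H)⁻¹, ?_⟩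
      rw [map_mul, map_mul, map_inv, hxy]
      show g⁻¹ * (g * x * g⁻¹) * g = x
      group
  · have hc : gD ω ∈ Subgroup.center (GL (Fin 3) F) := h ⟨D, hDK, rfl⟩
    have h' := Subgroup.mem_center_iff.1 hc gS
    have h'' := gD_mul_gS ω
    rw [← h', right_eq_mul] at h''
    exact ω.ne_one (by simpa [val_gZ] using Matrix.ext_iff.2 (congrArg Units.val h'') 0 0)

end CfsgLib.Perm.Trans.ThreeDim.Heis
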