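import Cfsg.Agent.Lib.Perm.Trans.ThreeDim.HeisIrr
import Cfsg.Agent.Lib.Perm.Trans.ThreeDim.HeisLifted
import Cfsg.Agent.Lib.Char.LiftCoprime

/-!
# Overgroups of the frame normalizer: the dichotomy
-/

set_option autoImplicit false
set_option linter.all false

namespace CfsgLib.Perm.Trans.ThreeDim.Heis

open scoped Matrix
open Matrix Cfsg.Geo CfsgLib.Perm.Trans CfsgLib.Perm.Asch

variable {F : Type*} [Field F] [Fintype F] (ω : Root F)

local notation "M3" => Matrix (Fin 3) (Fin 3) F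
local notation "G3" => GL (Fin 3) F

/-- the elements of `⟨D, S⟩` -/
theorem exists_form {M : G3} (hM : M ∈ gR ω) : ∃ i j k : ℕ, M = gZ ω ^ i * (gS ^ j * gD ω ^ k) := by
  have hmul : ∀ a b : G3, (∃ i j k : ℕ, a = gZ ω ^ i * (gS ^ j * gD ω ^ k)) →
      (∃ i j k : ℕ, b = gZ ω ^ i * (gS ^ j * gD ω ^ k)) → ∃ i j k : ℕ, a * b = gZ ω ^ i * (gS ^ j * gD ω ^ k) := by
    rintro _ _ ⟨i, j, k, rfl⟩ ⟨i', j', k', rfl⟩
    refine ⟨i + i' + k * j', j + j', k + k', ?_⟩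
    have hc : ∀ (n : ℕ) (w : G3), w * gZ ω ^ n = gZ ω ^ n * w := fun n w => (((commute_gZ ω w).pow_left n).eq).symm
    calc gZ ω ^ i * (gS ^ j * gD ω ^ k) * (gZ ω ^ i' * (gS ^ j' * gD ω ^ k'))
        = gZ ω ^ i * ((gS ^ j * gD ω ^ k) * gZ ω ^ i') * (gS ^ j' * gD ω ^ k') := by group
      _ = gZ ω ^ i * gZ ω ^ i' * (gS ^ j * (gD ω ^ k * gS ^ j')) * gD ω ^ k' := by rw [hc]; group
      _ = gZ ω ^ i * gZ ω ^ i' * ((gS ^ j * gZ ω ^ (k * j')) * (gS ^ j' * gD ω ^ k)) * gD ω ^ k' := by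
        rw [pow_swap]; group
      _ = gZ ω ^ (i + i' + k * j') * (gS ^ (j + j') * gD ω ^ (k + k')) := by
        rw [hc (k * j') (gS ^ j), pow_add, pow_add, pow_add, pow_add]; group
  induction hM using Subgroup.closure_induction with
  | mem x hx =>
    rcases hx with rfl | rfl
    · exact ⟨0, 0, 1, by simp⟩
    · exact ⟨0, 1, 0, by simp⟩
  | one => exact ⟨0, 0, 0, by simp⟩
  | mul x y _ _ hx hy => exact hmul x y hx hy
  | inv x _ hx =>
    have hn : ∀ n : ℕ, ∃ i j k : ℕ, x ^ n = gZ ω ^ i * (gS ^ j * gD ω ^ k) := fun n => by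
      induction n with
      | zero => exact ⟨0, 0, 0, by simp⟩
      | succ n ih => rw [pow_succ]; exact hmul _ _ ih hx
    obtain ⟨i, j, k, h⟩ := hn (orderOf x - 1)
    refine ⟨i, j, k, ?_⟩
    rw [← h]
    refine inv_eq_of_mul_eq_one_right ?_
    rw [← pow_succ', Nat.sub_add_cancel (orderOf_pos x), pow_orderOf_eq_one]

/-- `Φ k` normalizes `⟨D, S⟩` -/
theorem gPhi_mem_normalizer (k : ℕ) : gPhi ω k ∈ Subgroup.normalizer (gR ω : Set G3) := by
  refine CfsgLib.Perm.Elusive.mem_normalizer_of_generators (a := gD ω) (b := gS) rfl ?_ ?_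
  · rw [gPhi_mul_gD, mul_inv_cancel_right]; exact imD_mem ω k
  · have h : (gS : G3) = (gZ ω ^ k)⁻¹ * preD ω k * (gD ω ^ (2 * k))⁻¹ := by rw [preD]; group
    have e : gPhi ω k * gS * (gPhi ω k)⁻¹ =
        (gPhi ω k * (gZ ω ^ k)⁻¹ * (gPhi ω k)⁻¹) * (gPhi ω k * preD ω k * (gPhi ω k)⁻¹) *
          (gPhi ω k * gD ω * (gPhi ω k)⁻¹)⁻¹ ^ (2 * k) := by
      rw [inv_pow, conj_pow, h]; group
    rw [e, gPhi_mul_preD, gPhi_mul_gD, mul_inv_cancel_right, mul_inv_cancel_right,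
      show gPhi ω k * (gZ ω ^ k)⁻¹ * (gPhi ω k)⁻¹ = (gZ ω ^ k)⁻¹ by
        rw [← (((commute_gZ ω (gPhi ω k)).pow_left k).inv_left).eq, mul_inv_cancel_right]]
    exact mul_mem (mul_mem (inv_mem (pow_mem (gZ_mem ω) k)) (gD_mem ω)) (pow_mem (inv_mem (imD_mem ω k)) _)

/-- a diagonal element outside the normalizer -/
theorem diag_not_mem_normalizer {g : G3} {a : Fˣ}
    (hg : (g : M3) = Matrix.diagonal ![(a : F), ((a⁻¹ : Fˣ) : F), 1]) (ha : a ^ 3 ≠ 1) :
    g ∉ Subgroup.normalizer (gR ω : Set G3) := by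
  intro h
  have h1 : g * gS * g⁻¹ ∈ gR ω := ((Subgroup.mem_normalizer_iff.1 h) gS).1 (gS_mem ω)
  obtain ⟨i, j, k, hijk⟩ := exists_form ω h1
  have hinv : ((g⁻¹ : G3) : M3) = Matrix.diagonal ![((a⁻¹ : Fˣ) : F), (a : F), 1] := by
    refine left_inv_eq_right_inv (a := (g : M3)) (Units.inv_mul g) ?_
    rw [hg, Matrix.diagonal_mul_diagonal, ← Matrix.diagonal_one]
    congr 1
    funext i
    fin_cases i <;> simp
  have h2 := congrArg (fun w : G3 => (w : M3) 2 1) hijk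
  simp only [Units.val_mul, hg, hinv, val_gS, val_gZ_pow, val_gD_pow, Matrix.smul_mul, Matrix.one_mul, dm,
    Matrix.smul_apply, Matrix.mul_diagonal, Matrix.diagonal_mul, smul_eq_mul] at h2
  rw [Units.val_pow_eq_pow_val, val_gS, pow_eq_pow_mod j (show (sm : M3) ^ 3 = 1 by
    rw [← val_gS, ← Units.val_pow_eq_pow_val, gS_pow_three, Units.val_one])] at h2
  have hc : (ω.μ ^ i * ω.μ ^ k) ^ 3 = 1 := by
    have h3 : ω.μ ^ 3 = 1 := by rw [pow_succ, sq]; exact ω.cube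
    rw [mul_pow, ← pow_mul, ← pow_mul, mul_comm i, mul_comm k, pow_mul, pow_mul, h3, one_pow, one_pow, mul_one]
  have hj : j % 3 < 3 := Nat.mod_lt _ (by norm_num)
  interval_cases j % 3
  · simp [sm] at h2
  · simp [sm] at h2
    refine ha (Units.ext ?_)
    rw [Units.val_pow_eq_pow_val, Units.val_one, h2, hc]
  · simp [sm, pow_two, Matrix.mul_apply, Fin.sum_univ_three] at h2

/-- Overgroups without transvections are inside the normalizer. -/
theorem has_or_normalizes {p : ℕ} [Fact p.Prime] [CharP F p] (hp7 : 7 ≤ p) {H : Subgroup G3}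
    (hdet : ∀ g ∈ H, (g : M3).det = 1) (hR : gR ω ≤ H) (hPhi : ∀ k, gPhi ω k ∈ H) (hrat : Rational H) :
    H ≤ Subgroup.normalizer (gR ω : Set G3) ∨ ∃ x ψ, Has H x ψ ∧ x ≠ 0 ∧ ψ ≠ 0 := by
  by_cases hno : NoTv H
  · left
    have hp : p.Prime := Fact.out
    have h2 : (2 : F) ≠ 0 := Ring.two_ne_zero (fun e => by
      have := (CharP.eq F (ringChar.charP F) ‹CharP F p›).symm.trans e; omega)
    obtain ⟨ρ, hρ⟩ := CfsgLib.Char.LiftCoprime.exists_complex (F := F) (p := p) hp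
      (not_dvd_card hp7 hno (adSimple ω hR hPhi) hrat) ((Units.coeHom M3).comp H.subtype)
      (Units.val_injective.comp Subtype.val_injective)
    exact le_normalizer_of_lift ω h2 hdet hR hPhi ρ.toHomUnits fun x y h => hρ (congrArg Units.val h)
  · right
    unfold NoTv at hno
    push Not at hno
    exact hno

end CfsgLib.Perm.Trans.ThreeDim.Heis
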