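import Mathlib

/-!
# The standard frame of `3^{1+2}` in three dimensions

`hD`, `hS` generate the group, `hT` inverts both, `hPhi k` are elements of order four of the
normalizer with square `hT`.
-/

set_option autoImplicit false
set_option linter.all false

namespace CfsgLib.Perm.Trans.ThreeDim.Heis

open Matrix

variable {F : Type*} [Field F]

/-- `μ` is a primitive cube root of unity, the characteristic is not three -/
structure Root (F : Type*) [Field F] where
  μ : F
  eq : μ * μ + μ + 1 = 0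
  three : (3 : F) ≠ 0

variable (ω : Root F)

theorem Root.cube : ω.μ * ω.μ * ω.μ = 1 := by linear_combination (ω.μ - 1) * ω.eq

theorem Root.ne_zero : ω.μ ≠ 0 := fun h => by
  have := ω.eq
  simp [h] at this

theorem Root.ne_one : ω.μ ≠ 1 := fun h => ω.three (by
  have := ω.eq
  rw [h] at this
  linear_combination this)

theorem Root.sq_ne_one : ω.μ * ω.μ ≠ 1 := fun h => ω.ne_one (by linear_combination ω.cube - ω.μ * h)

theorem Root.ne_sq : ω.μ ≠ ω.μ * ω.μ := fun h =>
  ω.ne_one (mul_left_cancel₀ ω.ne_zero (by rw [mul_one]; exact h.symm))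

/-- the square root of `-3` -/
def Root.η : F := ω.μ - ω.μ * ω.μ

theorem Root.η_sq : ω.η * ω.η = -3 := by
  show (ω.μ - ω.μ * ω.μ) * (ω.μ - ω.μ * ω.μ) = -3
  linear_combination (ω.μ * ω.μ - 3 * ω.μ + 3) * ω.eq

theorem Root.η_ne_zero : ω.η ≠ 0 := fun h => ω.three (by
  have := ω.η_sq
  rw [h] at this
  linear_combination this)

theorem Root.pow_cube (k : ℕ) : ω.μ ^ k * ω.μ ^ k * ω.μ ^ k = 1 := by
  rw [← mul_pow, ← mul_pow, ω.cube, one_pow]

/-- `diag(1, c, c²)` -/
def dm (c : F) : Matrix (Fin 3) (Fin 3) F := Matrix.diagonal ![1, c, c * c]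

/-- the cyclic shift -/
def sm : Matrix (Fin 3) (Fin 3) F := !![0, 0, 1; 1, 0, 0; 0, 1, 0]

/-- minus the parity -/
def tm : Matrix (Fin 3) (Fin 3) F := !![-1, 0, 0; 0, 0, -1; 0, -1, 0]

/-- the twisted Fourier matrices -/
def phim (c : F) : Matrix (Fin 3) (Fin 3) F :=
  ω.η⁻¹ • !![1, c * c, c * c; c, ω.μ, ω.μ * ω.μ; c, ω.μ * ω.μ, ω.μ]

theorem det_sm : (sm : Matrix (Fin 3) (Fin 3) F).det = 1 := by
  rw [Matrix.det_fin_three]; simp [sm]

theorem det_dm (c : F) : (dm c).det = c * (c * c) := by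
  rw [dm, Matrix.det_diagonal, Fin.prod_univ_three]; simp

theorem det_tm : (tm : Matrix (Fin 3) (Fin 3) F).det = 1 := by
  rw [Matrix.det_fin_three]; simp [tm]

theorem det_phim {c : F} (hc : c * c * c = 1) : (phim ω c).det = 1 := by
  rw [phim, Matrix.det_smul, Fintype.card_fin, Matrix.det_fin_three]
  simp
  rw [eq_comm, ← sub_eq_zero]
  have h := ω.η_sq
  have h0 := ω.η_ne_zero
  field_simp
  simp only [Root.η] at h ⊢
  grind [ω.cube, ω.eq]

theorem dm_mul (a b : F) : dm a * dm b = dm (a * b) := by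
  rw [dm, dm, dm, Matrix.diagonal_mul_diagonal]
  congr 1
  funext i
  fin_cases i <;> simp
  ring

theorem dm_one : dm (1 : F) = 1 := by
  rw [dm, ← Matrix.diagonal_one]
  congr 1
  funext i
  fin_cases i <;> simp

theorem dm_mul_sm : dm ω.μ * sm = ω.μ • (sm * dm ω.μ) := by
  ext i j
  fin_cases i <;> fin_cases j <;>
    simp [dm, sm, Matrix.mul_apply, Matrix.vecMul_diagonal, Fin.sum_univ_three, ω.cube, ← mul_assoc]

theorem phim_mul_dm {c : F} (hc : c * c * c = 1) :
    phim ω c * dm ω.μ = (c • (sm * sm * dm c)) * phim ω c := by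
  rw [phim, Matrix.mul_smul, Matrix.smul_mul]
  congr 1
  ext i j
  fin_cases i <;> fin_cases j <;>
    simp [dm, sm, Matrix.mul_apply, Matrix.vecMul_diagonal, Fin.sum_univ_three] <;> grind [ω.cube]

theorem phim_mul_sm {c : F} (hc : c * c * c = 1) :
    phim ω c * (c • (sm * dm (c * c))) = dm ω.μ * phim ω c := by
  rw [phim, Matrix.smul_mul, Matrix.mul_smul (dm ω.μ)]
  congr 1
  ext i j
  fin_cases i <;> fin_cases j <;>
    simp [dm, sm, Matrix.mul_apply, Matrix.vecMul_diagonal, Fin.sum_univ_three] <;> grind [ω.cube]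

theorem phim_sq {c : F} (hc : c * c * c = 1) : phim ω c * phim ω c = tm := by
  rw [phim, Matrix.mul_smul, Matrix.smul_mul, smul_smul, ← mul_inv, ω.η_sq]
  have h3 := ω.three
  ext i j
  fin_cases i <;> fin_cases j <;>
    simp [tm, Matrix.mul_apply, Fin.sum_univ_three] <;> field_simp <;> grind [ω.cube, ω.eq]

theorem tm_mul_dm : tm * dm ω.μ = dm (ω.μ * ω.μ) * tm := by
  ext i j
  fin_cases i <;> fin_cases j <;> simp [tm, dm, Matrix.mul_apply, Fin.sum_univ_three]
  linear_combination (-ω.μ) * ω.cube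

theorem tm_mul_sm : tm * (sm : Matrix (Fin 3) (Fin 3) F) = sm * sm * tm := by
  ext i j
  fin_cases i <;> fin_cases j <;> simp [tm, sm, Matrix.mul_apply, Fin.sum_univ_three]

/-- a matrix commuting with `D` and `S` up to scalars is a multiple of some `D ^ i S ^ j` -/
theorem eq_smul_of_commute {M : Matrix (Fin 3) (Fin 3) F} (hD : M * dm ω.μ = dm ω.μ * M)
    (hS : M * sm = sm * M) : M = M 0 0 • 1 := by
  have hne : ∀ i j : Fin 3, i ≠ j → M i j = 0 := fun i j hij => by
    have h := congrFun (congrFun hD i) j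
    rw [dm, Matrix.mul_diagonal, Matrix.diagonal_mul] at h
    have hd : ![1, ω.μ, ω.μ * ω.μ] i ≠ ![1, ω.μ, ω.μ * ω.μ] j := by
      fin_cases i <;> fin_cases j <;> simp at hij ⊢
      exacts [Ne.symm ω.ne_one, Ne.symm ω.sq_ne_one, ω.ne_one, ω.ne_sq, ω.sq_ne_one, Ne.symm ω.ne_sq]
    exact (mul_eq_zero.1 (show (![1, ω.μ, ω.μ * ω.μ] j - ![1, ω.μ, ω.μ * ω.μ] i) * M i j = 0 by
      linear_combination h)).resolve_left (sub_ne_zero.2 (Ne.symm hd))
  have h10 := congrFun (congrFun hS 1) 0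
  have h21 := congrFun (congrFun hS 2) 1
  simp [sm, Matrix.mul_apply, Fin.sum_univ_three] at h10 h21
  ext i j
  by_cases hij : i = j
  · subst hij
    fin_cases i
    · simp
    · simpa using h10
    · simpa using h21.trans h10
  · rw [hne i j hij, Matrix.smul_apply, Matrix.one_apply_ne hij, smul_zero]

/-! ### The elements of the general linear group -/

/-- `D` -/
def gD : GL (Fin 3) F :=
  Matrix.GeneralLinearGroup.mkOfDetNeZero (dm ω.μ) (by
    rw [det_dm, ← mul_assoc, ω.cube]; exact one_ne_zero)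

/-- `S` -/
def gS : GL (Fin 3) F :=
  Matrix.GeneralLinearGroup.mkOfDetNeZero sm (by rw [det_sm]; exact one_ne_zero)

/-- the central element `μ` -/
def gZ : GL (Fin 3) F :=
  Matrix.GeneralLinearGroup.mkOfDetNeZero (ω.μ • 1) (by
    rw [Matrix.det_smul, Matrix.det_one, mul_one]; exact pow_ne_zero _ ω.ne_zero)

/-- `T` -/
def gT : GL (Fin 3) F :=
  Matrix.GeneralLinearGroup.mkOfDetNeZero tm (by rw [det_tm]; exact one_ne_zero)

/-- `Φ_k` -/
def gPhi (k : ℕ) : GL (Fin 3) F :=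
  Matrix.GeneralLinearGroup.mkOfDetNeZero (phim ω (ω.μ ^ k)) (by
    rw [det_phim ω (ω.pow_cube k)]; exact one_ne_zero)

theorem val_gD : (gD ω : Matrix (Fin 3) (Fin 3) F) = dm ω.μ := rfl

theorem val_gS : ((gS : GL (Fin 3) F) : Matrix (Fin 3) (Fin 3) F) = sm := rfl

theorem val_gZ : (gZ ω : Matrix (Fin 3) (Fin 3) F) = ω.μ • 1 := rfl

theorem val_gT : ((gT : GL (Fin 3) F) : Matrix (Fin 3) (Fin 3) F) = tm := rfl

theorem val_gPhi (k : ℕ) : (gPhi ω k : Matrix (Fin 3) (Fin 3) F) = phim ω (ω.μ ^ k) := rfl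

theorem val_gD_pow (k : ℕ) : ((gD ω ^ k : GL (Fin 3) F) : Matrix (Fin 3) (Fin 3) F) = dm (ω.μ ^ k) := by
  induction k with
  | zero => rw [pow_zero, pow_zero, dm_one, Units.val_one]
  | succ k ih => rw [pow_succ, Units.val_mul, ih, val_gD, dm_mul, ← pow_succ]

theorem val_gZ_pow (k : ℕ) : ((gZ ω ^ k : GL (Fin 3) F) : Matrix (Fin 3) (Fin 3) F) = ω.μ ^ k • 1 := by
  rw [Units.val_pow_eq_pow_val, val_gZ, smul_pow, one_pow]

theorem commute_gZ (g : GL (Fin 3) F) : Commute (gZ ω) g :=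
  Units.ext (by rw [Units.val_mul, Units.val_mul, val_gZ]; simp)

theorem gD_mul_gS : gD ω * gS = gZ ω * (gS * gD ω) := Units.ext (by
  simp only [Units.val_mul, val_gD, val_gS, val_gZ, Matrix.smul_mul, Matrix.one_mul]
  exact dm_mul_sm ω)

/-- the image of `D` under `Φ_k` -/
def imD (k : ℕ) : GL (Fin 3) F := gZ ω ^ k * (gS * gS * gD ω ^ k)

/-- the element taken to `D` by `Φ_k` -/
def preD (k : ℕ) : GL (Fin 3) F := gZ ω ^ k * (gS * gD ω ^ (2 * k))

theorem gPhi_mul_gD (k : ℕ) : gPhi ω k * gD ω = imD ω k * gPhi ω k := Units.ext (by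
  simp only [imD, Units.val_mul, val_gPhi, val_gD, val_gD_pow, val_gS, val_gZ_pow, Matrix.smul_mul,
    Matrix.one_mul]
  rw [phim_mul_dm ω (ω.pow_cube k), Matrix.smul_mul])

theorem gPhi_mul_preD (k : ℕ) : gPhi ω k * preD ω k = gD ω * gPhi ω k := Units.ext (by
  simp only [preD, Units.val_mul, val_gPhi, val_gD, val_gD_pow, val_gS, val_gZ_pow, Matrix.smul_mul,
    Matrix.one_mul]
  rw [two_mul, pow_add]
  exact phim_mul_sm ω (ω.pow_cube k))

theorem gPhi_sq (k : ℕ) : gPhi ω k * gPhi ω k = gT := Units.ext (by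
  simp only [Units.val_mul, val_gPhi, val_gT]
  exact phim_sq ω (ω.pow_cube k))

theorem gT_mul_gD : gT * gD ω = gD ω * gD ω * gT := Units.ext (by
  simp only [Units.val_mul, val_gT, val_gD, dm_mul]
  exact tm_mul_dm ω)

theorem gT_mul_gS : (gT : GL (Fin 3) F) * gS = gS * gS * gT := Units.ext (by
  simp only [Units.val_mul, val_gT, val_gS]
  exact tm_mul_sm)

/-- an element commuting with `D` and `S` is scalar -/
theorem scalar_of_commute {g : GL (Fin 3) F} (hD : Commute g (gD ω)) (hS : Commute g (gS : GL (Fin 3) F)) :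
    (g : Matrix (Fin 3) (Fin 3) F) = (g : Matrix (Fin 3) (Fin 3) F) 0 0 • 1 :=
  eq_smul_of_commute ω (by simpa [Units.val_mul, val_gD] using congrArg Units.val hD.eq)
    (by simpa [Units.val_mul, val_gS] using congrArg Units.val hS.eq)

/-- the subgroup generated by `D` and `S` -/
def gR : Subgroup (GL (Fin 3) F) := Subgroup.closure {gD ω, gS}

theorem gD_mem : gD ω ∈ gR ω := Subgroup.subset_closure (Set.mem_insert _ _)

theorem gS_mem : (gS : GL (Fin 3) F) ∈ gR ω := Subgroup.subset_closure (Set.mem_insert_of_mem _ rfl)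

theorem gZ_mem : gZ ω ∈ gR ω := by
  rw [show gZ ω = gD ω * gS * (gS * gD ω)⁻¹ by rw [gD_mul_gS, mul_inv_cancel_right]]
  exact mul_mem (mul_mem (gD_mem ω) (gS_mem ω)) (inv_mem (mul_mem (gS_mem ω) (gD_mem ω)))

theorem imD_mem (k : ℕ) : imD ω k ∈ gR ω :=
  mul_mem (pow_mem (gZ_mem ω) _) (mul_mem (mul_mem (gS_mem ω) (gS_mem ω)) (pow_mem (gD_mem ω) _))

theorem preD_mem (k : ℕ) : preD ω k ∈ gR ω :=
  mul_mem (pow_mem (gZ_mem ω) _) (mul_mem (gS_mem ω) (pow_mem (gD_mem ω) _))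

/-- commuting with `D` and `preD k` is commuting with `D` and `S` -/
theorem commute_gS_of {g : GL (Fin 3) F} {k : ℕ} (hD : Commute g (gD ω)) (hp : Commute g (preD ω k)) :
    Commute g (gS : GL (Fin 3) F) := by
  have h : (gS : GL (Fin 3) F) = (gZ ω ^ k)⁻¹ * preD ω k * (gD ω ^ (2 * k))⁻¹ := by
    rw [preD]; group
  rw [h]
  exact ((((commute_gZ ω g).symm.pow_right k).inv_right).mul_right hp).mul_right
    ((hD.pow_right (2 * k)).inv_right)

end CfsgLib.Perm.Trans.ThreeDim.Heis
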