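import Cfsg.Agent.Lib.Perm.Trans.ThreeDim.HeisNormal
import Cfsg.Agent.Lib.Perm.Trans.ThreeDim.Average
import Cfsg.Agent.Lib.Perm.Trans.ThreeDim.SlTv

/-!
# Irreducibility of overgroups of the frame normalizer
-/

set_option autoImplicit false
set_option linter.all false

namespace CfsgLib.Perm.Trans.ThreeDim.Heis

open scoped Matrix
open Matrix CfsgLib.Perm.Trans CfsgLib.Perm.Asch

variable {F : Type*} [Field F] (ω : Root F)

local notation "M3" => Matrix (Fin 3) (Fin 3) F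
local notation "G3" => GL (Fin 3) F

/-- `⟨D, S⟩` is irreducible -/
theorem irreducible_of_gR_le {H : Subgroup G3} (hR : gR ω ≤ H) (W : Submodule F (Fin 3 → F))
    (hinv : ∀ g ∈ H, ∀ w ∈ W, (g : M3) *ᵥ w ∈ W) : W = ⊥ ∨ W = ⊤ := by
  rcases eq_or_ne W ⊥ with h | h
  · exact Or.inl h
  right
  obtain ⟨w, hw, hw0⟩ := Submodule.exists_mem_ne_zero_of_ne_bot h
  have hD : ∀ v ∈ W, dm ω.μ *ᵥ v ∈ W := hinv _ (hR (gD_mem ω))
  have hS : ∀ v ∈ W, sm *ᵥ v ∈ W := hinv _ (hR (gS_mem ω))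
  obtain ⟨k, hk⟩ := Function.ne_iff.1 hw0
  have hk' : w k ≠ 0 := hk
  have h3 := ω.three
  have he : (Pi.single k (1 : F) : Fin 3 → F) ∈ W := by
    have hproj : w + ω.μ ^ (2 * (k : ℕ)) • (dm ω.μ *ᵥ w) +
        (ω.μ ^ (2 * (k : ℕ)) * ω.μ ^ (2 * (k : ℕ))) • (dm ω.μ *ᵥ (dm ω.μ *ᵥ w)) = (3 * w k) • Pi.single k 1 := by
      funext i
      fin_cases k <;> fin_cases i <;> simp [dm, Matrix.mulVec_diagonal] <;> grind [ω.eq, ω.cube]
    refine (W.smul_mem_iff (mul_ne_zero h3 hk')).1 (hproj ▸ ?_)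
    exact add_mem (add_mem hw (W.smul_mem _ (hD _ hw))) (W.smul_mem _ (hD _ (hD _ hw)))
  have hsh : ∀ i : Fin 3, (sm : M3) *ᵥ Pi.single i 1 = Pi.single (i + 1) 1 := fun i => by
    funext j
    fin_cases i <;> fin_cases j <;> simp [sm, Matrix.mulVec, dotProduct, Fin.sum_univ_three]
  have hall : ∀ i : Fin 3, (Pi.single i (1 : F) : Fin 3 → F) ∈ W := fun i => by
    have e1 : Pi.single (k + 1) (1 : F) ∈ W := hsh k ▸ hS _ he
    have e2 : Pi.single (k + 1 + 1) (1 : F) ∈ W := hsh (k + 1) ▸ hS _ e1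
    obtain rfl | rfl | rfl : i = k ∨ i = k + 1 ∨ i = k + 1 + 1 := by omega
    exacts [he, e1, e2]
  refine Submodule.eq_top_iff'.2 fun v => ?_
  rw [pi_eq_sum_univ' v]
  exact sum_mem fun i _ => W.smul_mem _ (hall i)

/-- the trace zero part in the lines of the frame -/
theorem three_smul_eq {A : M3} (hA : A.trace = 0) :
    (3 : F) • A = ∑ d : Fin 3, ∑ e : Fin 3,
      (if d = 0 ∧ e = 0 then 0 else A d 0 + ω.μ ^ (e : ℕ) * ω.μ ^ (e : ℕ) * A (d + 1) 1 + ω.μ ^ (e : ℕ) * A (d + 2) 2) •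
        ((gS ^ (d : ℕ) * gD ω ^ (e : ℕ) : G3) : M3) := by
  simp only [Units.val_mul, Units.val_pow_eq_pow_val, val_gS, val_gD, Fin.sum_univ_three]
  simp [Matrix.trace, Fin.sum_univ_three] at hA
  simp only [dm_pow]
  ext i j
  simp only [dm, Matrix.add_apply, Matrix.smul_apply, Matrix.mul_diagonal, smul_eq_mul]
  fin_cases i <;> fin_cases j <;>
    simp [sm, pow_two, Matrix.mul_apply, Fin.sum_univ_three, Matrix.vecMul, dotProduct] <;>
    grind [ω.eq, ω.cube]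

/-- invariant subspaces with a nonscalar contain the trace zero matrices -/
theorem trace_zero_mem {H : Subgroup G3} (hR : gR ω ≤ H) (hPhi : ∀ k, gPhi ω k ∈ H) {W : Submodule F M3}
    (hinv : ∀ g ∈ H, ∀ M ∈ W, cj g M ∈ W) {M : M3} (hM : M ∈ W) (hns : M ≠ M 0 0 • 1) {A : M3} (hA : A.trace = 0) :
    A ∈ W := by
  obtain ⟨hd, hs⟩ := dm_sm_mem ω (hinv _ (hR (gD_mem ω))) (hinv _ (hR (gS_mem ω))) (hinv _ (hPhi 0)) (hinv _ (hPhi 1))
    hM hns
  have hμ := ω.ne_zero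
  let m : ℕ → ℕ → Prop := fun a b => ((gS ^ a * gD ω ^ b : G3) : M3) ∈ W
  have g0 : ∀ a b : ℕ, m a b → m (2 * b % 3) (a % 3) := fun a b h => by
    have h' : cj (gPhi ω 0) ((gS ^ a * gD ω ^ b : G3) : M3) ∈ W := hinv _ (hPhi 0) _ h
    have e1 : gPhi ω 0 * gS * (gPhi ω 0)⁻¹ = gD ω := by
      rw [show gPhi ω 0 * gS = gD ω * gPhi ω 0 by simpa [preD] using gPhi_mul_preD ω 0, mul_inv_cancel_right]
    have e2 : gPhi ω 0 * gD ω * (gPhi ω 0)⁻¹ = gS ^ 2 := by
      rw [gPhi_mul_gD, mul_inv_cancel_right, imD, pow_zero, one_mul, pow_zero, mul_one, sq]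
    rw [cj_val, ← conj_mul, ← conj_pow, ← conj_pow, e1, e2, ← pow_mul, pow_swap, Units.val_mul, val_gZ_pow,
      Matrix.smul_mul, Matrix.one_mul, W.smul_mem_iff (pow_ne_zero _ hμ)] at h'
    show ((gS ^ (2 * b % 3) * gD ω ^ (a % 3) : G3) : M3) ∈ W
    rwa [← pow_eq_pow_mod _ gS_pow_three, ← pow_eq_pow_mod _ (gD_pow_three ω)]
  have h01 : m 0 1 := by
    show ((gS ^ 0 * gD ω ^ 1 : G3) : M3) ∈ W
    rwa [pow_zero, one_mul, pow_one, val_gD]
  have h10 : m 1 0 := by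
    show ((gS ^ 1 * gD ω ^ 0 : G3) : M3) ∈ W
    rwa [pow_zero, mul_one, pow_one, val_gS]
  have h12 : m 1 2 := by
    have h' : cj (gPhi ω 1)⁻¹ ((gD ω : G3) : M3) ∈ W := hinv _ (inv_mem (hPhi 1)) _ (by rwa [val_gD])
    rw [cj_val, inv_inv, mul_assoc, ← gPhi_mul_preD, inv_mul_cancel_left] at h'
    have : ω.μ • ((gS ^ 1 * gD ω ^ 2 : G3) : M3) ∈ W := by
      rwa [show ω.μ • ((gS ^ 1 * gD ω ^ 2 : G3) : M3) = ((preD ω 1 : G3) : M3) by
        simp [preD, val_gZ, Matrix.smul_mul]]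
    exact (W.smul_mem_iff hμ).1 this
  have h20 : m 2 0 := g0 0 1 h01
  have h02 : m 0 2 := g0 2 0 h20
  have h11 : m 1 1 := g0 1 2 h12
  have h21 : m 2 1 := g0 1 1 h11
  have h22 : m 2 2 := g0 2 1 h21
  refine (W.smul_mem_iff ω.three).1 ?_
  rw [three_smul_eq ω hA]
  refine sum_mem fun d _ => sum_mem fun e _ => ?_
  by_cases hde : d = 0 ∧ e = 0
  · rw [if_pos hde, zero_smul]; exact zero_mem _
  · refine W.smul_mem _ ?_
    fin_cases d <;> fin_cases e
    · exact absurd ⟨rfl, rfl⟩ hde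
    exacts [h01, h02, h10, h11, h12, h20, h21, h22]

/-- the overgroups have scalar commutant on trace zero matrices -/
theorem adSimple {H : Subgroup G3} (hR : gR ω ≤ H) (hPhi : ∀ k, gPhi ω k ∈ H) : AdSimple H := by
  intro f hf h1
  have hf' : ∀ g ∈ H, ∀ A, f (cj g A) = cj g (f A) := hf
  have h3 := ω.three
  have hproj : ∀ g ∈ H, ∀ a A, f (proj g a A) = proj g a (f A) := fun g hg a A => by
    simp only [proj, map_add, map_smul, hf' g hg]
  have hself : proj gS 1 (proj (gD ω) (ω.μ ^ (2 * ((1 : Fin 3) : ℕ))) (sm : M3)) = (9 : F) • sm := by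
    rw [proj_proj ω sm 1 (by ring), dm_one, mul_one]
    simp [sm]
    norm_num
  have h := congrArg f hself
  rw [hproj _ (hR (gS_mem ω)), hproj _ (hR (gD_mem ω)), proj_proj ω (f sm) 1 (by ring), dm_one, mul_one, map_smul] at h
  simp only [Fin.val_one, pow_one, mul_one, one_mul] at h
  obtain ⟨c, hc⟩ : ∃ c : F, f sm = c • sm :=
    ⟨(9 : F)⁻¹ * (3 * (f sm 1 0 + f sm (1 + 1) 1 + f sm (1 + 2) 2)), by
      rw [mul_smul, h, inv_smul_smul₀]
      rw [show (9 : F) = 3 * 3 by norm_num]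
      exact mul_ne_zero h3 h3⟩
  refine ⟨c, fun A hA => ?_⟩
  have hmem : A ∈ LinearMap.ker (f - c • LinearMap.id) := by
    refine trace_zero_mem ω hR hPhi (W := LinearMap.ker (f - c • LinearMap.id)) (fun g hg M hM => ?_)
      (M := sm) ?_ ?_ hA
    · rw [LinearMap.mem_ker, LinearMap.sub_apply, LinearMap.smul_apply, LinearMap.id_apply, sub_eq_zero] at hM ⊢
      rw [hf' g hg, hM, cj_smul]
    · simp [hc]
    · intro e
      have := congrFun (congrFun e 1) 0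
      simp [sm] at this
  simpa [sub_eq_zero] using hmem

/-- only scalars are orthogonal to all transvection subgroups -/
theorem eq_scalar_of_orth {H : Subgroup G3} (hR : gR ω ≤ H) (hPhi : ∀ k, gPhi ω k ∈ H) {a α : Fin 3 → F}
    (ha : a ≠ 0) (hα : α ≠ 0) (haα : α ∈ axes H a) (N : M3)
    (hN : ∀ u φ, φ ∈ axes H u → φ ⬝ᵥ (N *ᵥ u) = 0) : ∃ c : F, N = c • 1 := by
  by_contra hns
  push Not at hns
  let W : Submodule F M3 :=
    { carrier := {A | ∀ u φ, φ ∈ axes H u → φ ⬝ᵥ (A *ᵥ u) = 0}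
      add_mem' := fun {A B} hA hB u φ h => by rw [add_mulVec, dotProduct_add, hA u φ h, hB u φ h, add_zero]
      zero_mem' := fun u φ h => by rw [zero_mulVec, dotProduct_zero]
      smul_mem' := fun c A hA u φ h => by rw [smul_mulVec, dotProduct_smul, hA u φ h, smul_zero] }
  have hinv : ∀ g ∈ H, ∀ A ∈ W, cj g A ∈ W := fun g hg A hA u φ h => by
    have h' := hA _ _ (axes_conj h (inv_mem hg))
    rw [inv_inv, ← dotProduct_mulVec] at h'
    rwa [cj, mul_assoc, ← mulVec_mulVec, ← mulVec_mulVec]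
  have hone : (1 : M3) ∈ W := fun u φ h => by rw [one_mulVec]; exact axes_orth h
  have hall : ∀ A : M3, A ∈ W := fun A => by
    have h0 := trace_zero_mem ω hR hPhi hinv (M := N) hN (hns _) (A := A - (A.trace / 3) • 1) (by
      rw [Matrix.trace_sub, Matrix.trace_smul, Matrix.trace_one, Fintype.card_fin, smul_eq_mul]
      have h3 := ω.three
      push_cast
      field_simp
      ring)
    simpa using add_mem h0 (W.smul_mem (A.trace / 3) hone)
  obtain ⟨i, hi⟩ := Function.ne_iff.1 hα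
  obtain ⟨j, hj⟩ := Function.ne_iff.1 ha
  have := hall (vecMulVec (Pi.single i 1) (Pi.single j 1)) a α haα
  rw [vecMulVec_mulVec, op_smul_eq_smul, dotProduct_smul, single_dotProduct, dotProduct_single, one_mul, mul_one,
    smul_eq_mul, mul_eq_zero] at this
  exact this.elim hj hi

end CfsgLib.Perm.Trans.ThreeDim.Heis
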