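import Cfsg.Agent.Lib.Perm.Trans.ThreeDim.HeisSL
import Cfsg.Agent.Lib.Perm.Trans.ThreeDim.UnitaryTv
import Cfsg.Agent.Lib.Perm.Trans.UnitSU
import Cfsg.Agent.Lib.Perm.Elusive.ExtraspecialUnitary

/-!
# The normalizer of `3^{1+2}` is maximal in `SU₃(p)` for `p ≡ 2 mod 3`, `p ≥ 11`
-/

set_option autoImplicit false
set_option linter.all false

namespace CfsgLib.Perm.Trans.ThreeDim.Heis

open scoped Matrix
open Matrix Cfsg Cfsg.Geo CfsgLib.Perm.Trans CfsgLib.Perm.Asch CfsgLib.Perm.Trans.Unit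
open CfsgLib.Perm.Elusive (mem_GU_three mem_GU_of_diagonal exists_gu_frame)

variable {F : Type*} [Field F] [Fintype F] {p : ℕ} [Fact p.Prime] [CharP F p]

/-- the fixed field is the prime field -/
theorem exists_natCast_of_pow_eq {x : F} (hx : x ^ p = x) : ∃ k : ℕ, x = (k : F) := by
  classical
  have hp := (Fact.out : p.Prime)
  have hP : (Polynomial.X ^ p - Polynomial.X : Polynomial F) ≠ 0 :=
    FiniteField.X_pow_card_sub_X_ne_zero F hp.one_lt
  let s : Finset F := (Finset.range p).image fun k : ℕ => (k : F)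
  have hfix : ∀ k : ℕ, ((k : F)) ^ p = k := fun k => by
    rw [← frobenius_def, map_natCast]
  have hsub : s ⊆ (Polynomial.X ^ p - Polynomial.X : Polynomial F).roots.toFinset := by
    intro y hy
    obtain ⟨k, -, rfl⟩ := Finset.mem_image.1 hy
    rw [Multiset.mem_toFinset, Polynomial.mem_roots hP]
    simp [hfix k]
  have hs : s.card = p := by
    rw [Finset.card_image_of_injOn (by
      intro a ha b hb h
      exact CharP.natCast_injOn_Iio F p (by simpa using ha) (by simpa using hb) h), Finset.card_range]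
  have hle : (Polynomial.X ^ p - Polynomial.X : Polynomial F).roots.toFinset.card ≤ p := by
    refine (Multiset.toFinset_card_le _).trans ((Polynomial.card_roots' _).trans ?_)
    rw [FiniteField.X_pow_card_sub_X_natDegree_eq F hp.one_lt]
  have he := Finset.eq_of_subset_of_card_le hsub (by rw [hs]; exact hle)
  have hxs : x ∈ s := by
    rw [he, Multiset.mem_toFinset, Polynomial.mem_roots hP]
    simp [hx]
  obtain ⟨k, -, hk⟩ := Finset.mem_image.1 hxs
  exact ⟨k, hk.symm⟩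

/-- the first coefficient in unitary groups -/
theorem rational_of_unitary {M : Subgroup (GL (Fin 3) F)} (hM : M ≤ GU 3 F p) : Rational M := by
  intro u hu v hv β γ h3 hn2 hv'
  obtain ⟨N, hN⟩ : ∃ N, N = (u : Matrix (Fin 3) (Fin 3) F) - 1 := ⟨_, rfl⟩
  rw [← hN] at h3 hn2 hv'
  rw [cube_mul] at h3
  rw [pow_two] at hn2 hv'
  have hu' : (u : Matrix (Fin 3) (Fin 3) F) = 1 + N := by rw [hN]; abel
  let st : Matrix (Fin 3) (Fin 3) F → Matrix (Fin 3) (Fin 3) F := fun A => (A.map (frobenius F p))ᵀ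
  have hst : ∀ g ∈ M, st (g : Matrix (Fin 3) (Fin 3) F) * (g : Matrix (Fin 3) (Fin 3) F) = 1 := fun g hg => by
    have h := congrArg Matrix.transpose (mem_GU_three.1 (hM hg))
    rwa [Matrix.transpose_mul, Matrix.transpose_transpose, Matrix.transpose_one] at h
  have hadd : ∀ A B, st (A + B) = st A + st B := fun A B => by
    simp only [st, Matrix.map_add _ (map_add _), Matrix.transpose_add]
  have hsmul : ∀ (c : F) A, st (c • A) = c ^ p • st A := fun c A => by
    ext i j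
    simp [st, frobenius_def, mul_pow]
  have hmul : ∀ A B, st (A * B) = st B * st A := fun A B => by
    simp only [st, Matrix.map_mul, Matrix.transpose_mul]
  have hone : st 1 = 1 := by simp [st]
  have hN4 : N * N * (N * N) = 0 := by rw [← mul_assoc, h3, zero_mul]
  have hsN : st N = -N + N * N := by
    have h1 := hst u hu
    rw [hu', hadd, hone] at h1
    have h2 : (1 + N) * (1 + (-N + N * N)) = 1 := by
      simp only [add_mul, mul_add, one_mul, mul_neg, mul_one, ← mul_assoc, h3]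
      abel
    exact add_left_cancel (left_inv_eq_right_inv h1 h2)
  have hsN2 : st (N * N) = N * N := by
    rw [hmul, hsN]
    simp only [add_mul, mul_add, neg_mul, mul_neg, ← mul_assoc, h3, zero_mul, neg_zero, add_zero, neg_neg]
  have h1 := hst v hv
  rw [hv', hadd, hadd, hone, hsmul, hsmul, hsN, hsN2] at h1
  have h4 := congrArg (fun A => N * A) h1
  simp only [add_mul, mul_add, one_mul, mul_one, neg_mul, mul_neg, Matrix.smul_mul, Matrix.mul_smul, smul_add, smul_neg,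
    ← mul_assoc, h3, zero_mul, smul_zero, neg_zero, add_zero] at h4
  have h5 : (β - β ^ p) • (N * N) = 0 := by linear_combination (norm := module) h4
  exact exists_natCast_of_pow_eq (sub_eq_zero.1 ((smul_eq_zero.1 h5).resolve_right hn2)).symm

/-- transvections in isometry groups are unitary transvections -/
theorem unitary_form_of_has {σ : F ≃+* F} {f : (Fin 3 → F) → (Fin 3 → F) → F} (hf : IsUnitaryForm σ f)
    {M : Subgroup (GL (Fin 3) F)} (hiso : M ≤ isoU f) {x ψ : Fin 3 → F} (h : Has M x ψ) (hx : x ≠ 0) (hψ : ψ ≠ 0) :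
    f x x = 0 ∧ ∃ c : F, c ≠ 0 ∧ σ c = -c ∧ ψ = c • hv hf x := by
  obtain ⟨h0, hmem⟩ := h
  have key : ∀ v w, (ψ ⬝ᵥ v) * f x w + σ (ψ ⬝ᵥ w) * f v x + (ψ ⬝ᵥ v) * (σ (ψ ⬝ᵥ w) * f x x) = 0 := fun v w => by
    have h := mem_isoU.1 (hiso hmem) v w
    rw [tv_mulVec, tv_mulVec] at h
    simp only [hf.add_left, herm_add_right hf, hf.smul_left, herm_smul_right hf] at h
    linear_combination h
  obtain ⟨i, hi⟩ := Function.ne_iff.1 hψ
  have hxx : f x x = 0 := by
    have h1 := key (Pi.single i 1) x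
    rw [h0, map_zero, zero_mul, zero_mul, mul_zero, add_zero, add_zero, dotProduct_single, mul_one] at h1
    exact (mul_eq_zero.1 h1).resolve_left hi
  obtain ⟨w, hw⟩ := (hf.nondegenerate x hx).1
  obtain ⟨v0, hv0⟩ : ∃ v0, f v0 x = 1 := ⟨(f w x)⁻¹ • w, by rw [hf.smul_left, inv_mul_cancel₀ hw]⟩
  have hv0' : f x v0 = 1 := by rw [hf.herm, hv0, map_one]
  obtain ⟨c, hc⟩ : ∃ c, c = -σ (ψ ⬝ᵥ v0) := ⟨_, rfl⟩
  have hform : ∀ v, ψ ⬝ᵥ v = c * f v x := fun v => by
    have h := key v v0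
    rw [hxx, hv0', mul_one, mul_zero, mul_zero, add_zero] at h
    rw [hc]
    linear_combination h
  have hσc : σ c = -c := by
    have h := hform v0
    rw [hv0, mul_one] at h
    conv_lhs => rw [hc, map_neg, hf.involutive, h]
  have hψc : ψ = c • hv hf x := dot_ext hf fun v => by rw [hform, smul_dotProduct, hv_dot, smul_eq_mul]
  exact ⟨hxx, c, fun e => hψ (by rw [hψc, e, zero_smul]), hσc, hψc⟩

variable (ω : Root F)

theorem gD_mem_GU (hμp : ω.μ * ω.μ ^ p = 1) : gD ω ∈ GU 3 F p :=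
  mem_GU_of_diagonal (C := gD ω) (d := ![1, ω.μ, ω.μ * ω.μ]) rfl fun i => by
    fin_cases i
    · simp
    · simpa using hμp
    · show ω.μ * ω.μ * (ω.μ * ω.μ) ^ p = 1
      rw [mul_pow, mul_mul_mul_comm, hμp, one_mul]

theorem gS_mem_GU : (gS : GL (Fin 3) F) ∈ GU 3 F p := by
  rw [mem_GU_three, val_gS]
  ext i j
  fin_cases i <;> fin_cases j <;> simp [sm, Matrix.mul_apply, Fin.sum_univ_three]

theorem gPhi_mem_GU (hμ2 : ω.μ ^ p = ω.μ * ω.μ) (k : ℕ) : gPhi ω k ∈ GU 3 F p := by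
  have h3 := ω.three
  have hη : ω.η ^ p = -ω.η := by
    show (ω.μ - ω.μ * ω.μ) ^ p = -(ω.μ - ω.μ * ω.μ)
    rw [sub_pow_char, mul_pow, hμ2]
    linear_combination (-ω.μ) * ω.cube
  have hcp : (ω.μ ^ k) ^ p = ω.μ ^ k * ω.μ ^ k := by
    rw [← pow_mul, mul_comm, pow_mul, hμ2, mul_pow]
  have hc := ω.pow_cube k
  rw [mem_GU_three, val_gPhi, phim, Matrix.transpose_smul]
  generalize ω.μ ^ k = c at hc hcp
  rw [Matrix.map_smul' _ _ _ (map_mul (frobenius F p)), Matrix.smul_mul, Matrix.mul_smul, smul_smul, frobenius_def,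
    inv_pow, hη, ← mul_inv, mul_neg, ω.η_sq, neg_neg]
  ext i j
  fin_cases i <;> fin_cases j <;>
    simp [Matrix.mul_apply, Fin.sum_univ_three, frobenius_def, mul_pow, hμ2, hcp] <;> field_simp <;>
    grind [ω.eq, ω.cube]

/-- overgroups of `⟨D, S, Φ⟩` normalise `⟨D, S⟩` or are everything -/
theorem su_dichotomy (hcard : Fintype.card F = p ^ 2) (hp11 : 11 ≤ p) {M : Subgroup (GL (Fin 3) F)}
    (hR : gR ω ≤ M) (hPhi : ∀ k, gPhi ω k ∈ M) (hMG : M ≤ GU 3 F p ⊓ specialLinear (Fin 3) F) :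
    M ≤ Subgroup.normalizer (gR ω : Set (GL (Fin 3) F)) ∨ M = GU 3 F p ⊓ specialLinear (Fin 3) F := by
  rcases has_or_normalizes ω (p := p) (by omega) (fun g hg => mem_SL_iff.1 (hMG hg).2) hR hPhi
      (rational_of_unitary fun g hg => (hMG hg).1) with h | ⟨x, ψ, hx, hx0, hψ0⟩
  · exact Or.inl h
  · right
    obtain ⟨C⟩ := ctx_of_card hcard
    have hf : IsUnitaryForm C.bar (hermForm 3 F p) := isUnitary_hermForm C
    have hiso : M ≤ isoU (hermForm 3 F p) := fun g hg => (hMG hg).1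
    obtain ⟨hxx, c, hc0, hc, rfl⟩ := unitary_form_of_has hf hiso hx hx0 hψ0
    have hall : ∀ d : F, C.bar d = -d → Has M x (d • hv hf x) := by
      intro d hd
      obtain ⟨k, hk⟩ := exists_natCast_of_pow_eq (p := p) (x := d / c) (by
        rw [← C.bar_eq, map_div₀, hd, hc, neg_div_neg_eq])
      rw [show d = (k : F) * c by rw [← hk, div_mul_cancel₀ _ hc0]]
      clear hd hk
      induction k with
      | zero => rw [Nat.cast_zero, zero_mul, zero_smul]; exact has_zero_right x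
      | succ k ih => rw [Nat.cast_succ, add_mul, one_mul, add_smul]; exact ih.add_right hx
    have htv := hasTv_top_of_irreducible hf hiso (fun W hW => irreducible_of_gR_le ω hR W hW) hx0 hxx hall
    refine le_antisymm hMG (isoU_inf_SL_le hf htv (Or.inr ?_))
    rw [hcard, sq]
    nlinarith

/-- the frame case -/
theorem su_frame_maximal (hcard : Fintype.card F = p ^ 2) (hp3 : p % 3 = 2) (hp11 : 11 ≤ p) :
    IsMaximalIn (GU 3 F p ⊓ specialLinear (Fin 3) F)
      (Subgroup.normalizer (gR ω : Set (GL (Fin 3) F)) ⊓ (GU 3 F p ⊓ specialLinear (Fin 3) F)) := by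
  have hp := (Fact.out : p.Prime)
  have hμ2 : ω.μ ^ p = ω.μ * ω.μ := by
    have h3 : ω.μ ^ 3 = 1 := by rw [pow_succ, sq]; exact ω.cube
    rw [show p = 3 * (p / 3) + 2 by omega, pow_add, pow_mul, h3, one_pow, one_mul, sq]
  have hμp : ω.μ * ω.μ ^ p = 1 := by rw [hμ2, ← mul_assoc, ω.cube]
  refine ⟨lt_of_le_of_ne inf_le_right fun e => ?_, fun M hHM hMG => ?_⟩
  · obtain ⟨a, ha⟩ := IsCyclic.exists_ofOrder_eq_natCard (α := Fˣ)
    rw [Nat.card_units, Nat.card_eq_fintype_card, hcard] at ha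
    obtain ⟨b, hb⟩ : ∃ b : Fˣ, b = a ^ (p - 1) := ⟨_, rfl⟩
    obtain ⟨g, hg⟩ : ∃ g : GL (Fin 3) F,
        (g : Matrix (Fin 3) (Fin 3) F) = Matrix.diagonal ![(b : F), ((b⁻¹ : Fˣ) : F), 1] :=
      ⟨Matrix.GeneralLinearGroup.mkOfDetNeZero (Matrix.diagonal ![(b : F), ((b⁻¹ : Fˣ) : F), 1]) (by
        rw [Matrix.det_diagonal, Fin.prod_univ_three]; simp), rfl⟩
    have hb1 : b * b ^ p = 1 := by
      rw [← pow_succ', hb, ← pow_mul, mul_comm, ← Nat.sq_sub_sq, one_pow, ← ha, pow_orderOf_eq_one]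
    have hbp : (b : F) * (b : F) ^ p = 1 := by
      have := congrArg Units.val hb1
      rwa [Units.val_mul, Units.val_pow_eq_pow_val, Units.val_one] at this
    refine diag_not_mem_normalizer ω hg (fun h => ?_) (e.ge ⟨mem_GU_of_diagonal hg fun i => ?_, mem_SL_iff.2 ?_⟩).1
    · rw [hb, ← pow_mul] at h
      have h1 := Nat.le_of_dvd (by omega) (orderOf_dvd_of_pow_eq_one h)
      rw [ha] at h1
      have h2 : 11 * p ≤ p ^ 2 := by rw [sq]; exact Nat.mul_le_mul_right p hp11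
      omega
    · fin_cases i
      · exact hbp
      · show ((b⁻¹ : Fˣ) : F) * ((b⁻¹ : Fˣ) : F) ^ p = 1
        rw [Units.val_inv_eq_inv_val, inv_pow, ← mul_inv, hbp, inv_one]
      · simp
    · rw [hg, Matrix.det_diagonal, Fin.prod_univ_three]; simp
  · have hR : gR ω ≤ M := by
      refine le_trans (le_inf Subgroup.le_normalizer ?_) hHM
      rw [gR, Subgroup.closure_le]
      rintro _ (rfl | rfl)
      · exact ⟨gD_mem_GU ω hμp, mem_SL_iff.2 (by rw [val_gD, det_dm, ← mul_assoc, ω.cube])⟩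
      · exact ⟨gS_mem_GU, mem_SL_iff.2 (by rw [val_gS, det_sm])⟩
    have hPhi : ∀ k, gPhi ω k ∈ M := fun k =>
      hHM ⟨gPhi_mem_normalizer ω k, gPhi_mem_GU ω hμ2 k, mem_SL_iff.2 (det_phim ω (ω.pow_cube k))⟩
    exact (su_dichotomy ω hcard hp11 hR hPhi hMG).imp (fun h => le_antisymm (le_inf h hMG) hHM) id

omit [Fact p.Prime] [CharP F p] in
/-- cube roots in the similarity group are isometries -/
theorem le_GU_of_similarity {R : Subgroup (GL (Fin 3) F)} (hp : p.Prime) (hcard : Fintype.card F = p ^ 2)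
    (hp3 : p % 3 = 2) (hR : R ≤ similarityGroup (hermForm 3 F p)) (h3 : ∀ g ∈ R, g ^ 3 = 1) : R ≤ GU 3 F p := by
  obtain ⟨C⟩ := ctx_of_card hcard
  have hf : IsUnitaryForm C.bar (hermForm 3 F p) := isUnitary_hermForm C
  intro g hg
  obtain ⟨c, hc⟩ := hR hg
  obtain ⟨v, hv⟩ : ∃ v : Fin 3 → F, hermForm 3 F p v v ≠ 0 :=
    ⟨Pi.single 0 1, by simp [hermForm, Fin.sum_univ_three, zero_pow hp.ne_zero]⟩
  have hcp : (c : F) ^ p = c := by
    have h1 : C.bar (hermForm 3 F p v v) = hermForm 3 F p v v := (hf.herm v v).symm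
    have h2 := hf.herm ((g : Matrix (Fin 3) (Fin 3) F) *ᵥ v) ((g : Matrix (Fin 3) (Fin 3) F) *ᵥ v)
    rw [hc, map_mul, h1] at h2
    rw [← C.bar_eq]
    exact (mul_right_cancel₀ hv h2).symm
  have hc3 : (c : F) ^ 3 = 1 := by
    have hiter : ∀ n : ℕ, hermForm 3 F p (((g ^ n : GL (Fin 3) F) : Matrix (Fin 3) (Fin 3) F) *ᵥ v)
        (((g ^ n : GL (Fin 3) F) : Matrix (Fin 3) (Fin 3) F) *ᵥ v) = (c : F) ^ n * hermForm 3 F p v v := fun n => by
      induction n with
      | zero => simp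
      | succ n ih =>
        rw [pow_succ', Units.val_mul, ← Matrix.mulVec_mulVec, hc, ih, pow_succ', mul_assoc]
    have h := hiter 3
    rw [h3 g hg, Units.val_one, Matrix.one_mulVec] at h
    exact mul_right_cancel₀ hv (h.symm.trans (one_mul _).symm)
  have hc1 : (c : F) = 1 := by
    have h : (c : F) ^ p = (c : F) * c := by
      rw [show p = 3 * (p / 3) + 2 by omega, pow_add, pow_mul, hc3, one_pow, one_mul, sq]
    rw [hcp] at h
    exact mul_left_cancel₀ c.ne_zero (h.symm.trans (mul_one _).symm)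
  intro u w
  show hermForm 3 F p ((g : Matrix (Fin 3) (Fin 3) F) *ᵥ u) ((g : Matrix (Fin 3) (Fin 3) F) *ᵥ w) = _
  rw [hc, hc1, one_mul]

omit [Fact p.Prime] [CharP F p] in
/-- The clause of class six for `SU₃`. -/
theorem su3_symplectic_maximal {R : Subgroup (GL (Fin 3) F)} (hp : p.Prime) (hcard : Fintype.card F = p ^ 2)
    (hp3 : p % 3 = 2) (hp11 : 11 ≤ p) (hsymp : IsSymplecticTypeGroup 3 R)
    (hsim : R ≤ similarityGroup (hermForm 3 F p)) (h27 : Nat.card R = 27)
    (hZ : Nat.card (Subgroup.center R) = 3) :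
    IsMaximalIn (GU 3 F p ⊓ specialLinear (Fin 3) F)
      (subgroupNormalizer R ⊓ (GU 3 F p ⊓ specialLinear (Fin 3) F)) := by
  haveI : Fact p.Prime := ⟨hp⟩
  haveI : CharP F p := by
    obtain ⟨r, hr⟩ := CharP.exists F
    obtain ⟨n, hr', hn⟩ := FiniteField.card F r
    rw [hcard] at hn
    obtain rfl : p = r := (Nat.prime_dvd_prime_iff_eq hp hr').1 (hp.dvd_of_dvd_pow (hn ▸ dvd_pow_self p two_ne_zero))
    exact hr
  have hexp : Monoid.exponent R = 3 := by rw [hsymp.exponent_eq]; rfl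
  have hRU : R ≤ GU 3 F p := le_GU_of_similarity hp hcard hp3 hsim fun g hg => by
    have := congrArg Subtype.val (Monoid.pow_exponent_eq_one (⟨g, hg⟩ : R))
    rwa [hexp] at this
  have h3F : (3 : F) ≠ 0 := fun h => by
    have := (CharP.cast_eq_zero_iff F p 3).1 (by exact_mod_cast h)
    have := Nat.le_of_dvd (by norm_num) this
    omega
  obtain ⟨om, hom⟩ : ∃ om : F, om * om + om + 1 = 0 := by
    have h : 3 ∣ Nat.card Fˣ := by
      rw [Nat.card_units, Nat.card_eq_fintype_card, hcard, show p ^ 2 - 1 = (p + 1) * (p - 1) from Nat.sq_sub_sq p 1]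
      exact dvd_mul_of_dvd_left (by omega) _
    haveI : Fact (Nat.Prime 3) := ⟨Nat.prime_three⟩
    obtain ⟨u, hu⟩ := exists_prime_orderOf_dvd_card' 3 h
    have h1 : (u : F) ≠ 1 := fun e' => by
      rw [show u = 1 from Units.ext e', orderOf_one] at hu; omega
    have h3 : (u : F) * u * u = 1 := by
      have := congrArg Units.val (hu ▸ pow_orderOf_eq_one u)
      simpa [pow_succ] using this
    exact ⟨u, (mul_eq_zero.1 (show ((u : F) - 1) * ((u : F) * u + u + 1) = 0 by linear_combination h3)).resolve_left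
      (sub_ne_zero.2 h1)⟩
  obtain ⟨μ, hμ, P, D, S, hD, hS, hPD, hPS, hgen, -⟩ := CfsgLib.Perm.Elusive.exists_frame R h27 hexp
    (not_comm_of_card h27 hZ) h3F hom
  let ω : Root F := ⟨μ, hμ, h3F⟩
  have hμ3 : μ * μ * μ = 1 := ω.cube
  have hμp : μ * μ ^ p = 1 := by
    rw [← pow_succ', show p + 1 = 3 * (p / 3 + 1) by omega, pow_mul, pow_succ μ 2, sq, hμ3, one_pow]
  obtain ⟨P', hP', hP'D, hP'S⟩ := exists_gu_frame hcard R hRU hμ3 ω.ne_one hμp hD hS hPD hPS
  have hR : R = (gR ω).map (MulAut.conj P').toMonoidHom := by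
    rw [hgen, gR, MonoidHom.map_closure, Set.image_pair, ← hP'D, ← hP'S,
      show gD ω = D from Units.ext hD.symm, show (gS : GL (Fin 3) F) = S from Units.ext hS.symm]
    rfl
  have hSL : ∀ (P x : GL (Fin 3) F), x ∈ specialLinear (Fin 3) F → P * x * P⁻¹ ∈ specialLinear (Fin 3) F :=
    fun P x hx => (inferInstance : (MonoidHom.ker (Matrix.GeneralLinearGroup.det : GL (Fin 3) F →* Fˣ)).Normal).conj_mem x hx P
  have h := isMaximalIn_map (MulAut.conj P') (su_frame_maximal ω hcard hp3 hp11)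
  rw [Subgroup.map_inf_eq (Subgroup.normalizer (gR ω : Set (GL (Fin 3) F))) (GU 3 F p ⊓ specialLinear (Fin 3) F) _
      (MulAut.conj P').injective, Subgroup.map_equiv_normalizer_eq,
    map_conj_eq_self (K := GU 3 F p ⊓ specialLinear (Fin 3) F)
      (fun x hx => ⟨(GU 3 F p).mul_mem ((GU 3 F p).mul_mem hP' hx.1) ((GU 3 F p).inv_mem hP'), hSL P' x hx.2⟩)
      (fun x hx => ⟨(GU 3 F p).mul_mem ((GU 3 F p).mul_mem ((GU 3 F p).inv_mem hP') hx.1) hP', by simpa using hSL P'⁻¹ x hx.2⟩), ← hR] at h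
  exact h

end CfsgLib.Perm.Trans.ThreeDim.Heis
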