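import Mathlib

/-!
# Roots of unity less than sixty degrees from one
-/

set_option autoImplicit false
set_option linter.all false

namespace CfsgLib.Perm.Trans.ThreeDim

/-- the standard primitive root -/
noncomputable def zeta (n : ℕ) : ℂ := Complex.exp (2 * Real.pi * Complex.I / n)

theorem zeta_primitive {n : ℕ} (hn : n ≠ 0) : IsPrimitiveRoot (zeta n) n := Complex.isPrimitiveRoot_exp n hn

theorem zeta_ne_zero (n : ℕ) : zeta n ≠ 0 := Complex.exp_ne_zero _

theorem zeta_zpow (n : ℕ) (j : ℤ) : zeta n ^ j = Complex.exp (((2 * Real.pi * j / n : ℝ) : ℂ) * Complex.I) := by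
  rw [zeta, ← Complex.exp_int_mul]
  congr 1
  push_cast
  ring

/-- small powers are close to one -/
theorem zeta_near {n : ℕ} (j : ℤ) (hj : 6 * |j| < n) : ‖zeta n ^ j - 1‖ < 1 := by
  rw [zeta_zpow]
  set θ : ℝ := 2 * Real.pi * j / n with hθ
  have hn0 : (0 : ℝ) < n := Nat.cast_pos.2 (by have := abs_nonneg j; omega)
  have habs : |θ| < Real.pi / 3 := by
    rw [hθ, abs_div, abs_of_pos hn0, div_lt_iff₀ hn0, abs_mul, abs_mul, abs_two, abs_of_pos Real.pi_pos]
    have hj' : 6 * |(j : ℝ)| < n := by exact_mod_cast hj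
    nlinarith [Real.pi_pos]
  have hcos : 1 / 2 < Real.cos θ := by
    rw [← Real.cos_abs θ, ← Real.cos_pi_div_three]
    exact Real.cos_lt_cos_of_nonneg_of_le_pi (abs_nonneg θ) (by linarith [Real.pi_pos]) habs
  have hsq : ‖Complex.exp ((θ : ℂ) * Complex.I) - 1‖ ^ 2 = 2 - 2 * Real.cos θ := by
    rw [Complex.sq_norm, Complex.normSq_apply]
    simp [Complex.exp_ofReal_mul_I_re, Complex.exp_ofReal_mul_I_im]
    nlinarith [Real.sin_sq_add_cos_sq θ]
  nlinarith [norm_nonneg (Complex.exp ((θ : ℂ) * Complex.I) - 1)]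

/-- the ratio of two powers -/
theorem zeta_ratio_near {n : ℕ} (hn : n ≠ 0) {a b : ℕ} (t : ℤ) (h : (n : ℤ) ∣ (a : ℤ) - b - t) (ht : 6 * |t| < n) :
    ‖zeta n ^ a / zeta n ^ b - 1‖ < 1 := by
  have h0 := zeta_ne_zero n
  rw [← zpow_natCast, ← zpow_natCast, ← zpow_sub₀ h0]
  obtain ⟨c, hc⟩ := h
  rw [show (a : ℤ) - b = t + (n : ℤ) * c by omega, zpow_add₀ h0, zpow_mul, zpow_natCast (zeta n) n,
    (zeta_primitive hn).pow_eq_one, one_zpow, mul_one]
  exact zeta_near t ht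

/-- powers are different -/
theorem zeta_pow_ne {n : ℕ} (hn : n ≠ 0) {a b : ℕ} (h : a % n ≠ b % n) : zeta n ^ a ≠ zeta n ^ b := fun e => by
  have hprim := zeta_primitive hn
  rw [← pow_mod_orderOf (zeta n) a, ← pow_mod_orderOf (zeta n) b, ← hprim.eq_orderOf] at e
  exact h (hprim.pow_inj (Nat.mod_lt _ (Nat.pos_of_ne_zero hn)) (Nat.mod_lt _ (Nat.pos_of_ne_zero hn)) e)

end CfsgLib.Perm.Trans.ThreeDim
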