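import Cfsg.Agent.Lib.Char.BlichfeldtSixty

/-!
# A torus with cyclically permuted characters in a complex group of degree three

If some element of the torus has three distinct eigenvalues of which two are less than sixty
degrees away from the third, then the centraliser of the torus is normal.
-/

set_option autoImplicit false
set_option linter.all false

namespace CfsgLib.Perm.Trans.ThreeDim

open scoped ComplexConjugate Matrix InnerProductSpace
open Matrix Module

universe u

/-- a unitary model in which an abelian subgroup is diagonal -/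
theorem exists_unitary_model {X : Type u} [Group X] [Finite X] {d : ℕ} (ρ : X →* Matrix (Fin d) (Fin d) ℂ)
    (hρ : Function.Injective ρ) (T : Subgroup X) (hT : ∀ a ∈ T, ∀ b ∈ T, a * b = b * a) :
    ∃ R : X →* Matrix (Fin d) (Fin d) ℂ, (∀ g, R g⁻¹ = (R g)ᴴ) ∧ Function.Injective R ∧
      ∀ t ∈ T, ∃ f : Fin d → ℂ, R t = diagonal f := by
  classical
  have := Fintype.ofFinite X
  let π : Representation ℂ X (Fin d → ℂ) := (Matrix.toLinAlgEquiv' : Matrix (Fin d) (Fin d) ℂ ≃ₐ[ℂ] _).toMonoidHom.comp ρ
  have hπ : Function.Injective π := fun a b h => hρ (Matrix.toLinAlgEquiv'.injective h)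
  have hL : Function.Injective (Cfsg.Agent.S4470.embed π) := fun v w h => by
    funext i
    have := congrArg (fun z : EuclideanSpace ℂ (X × Fin d) => z (1, i)) h
    simpa [Cfsg.Agent.S4470.embed] using this
  let e := LinearEquiv.ofInjective (Cfsg.Agent.S4470.embed π) hL
  let U : X →* (LinearMap.range (Cfsg.Agent.S4470.embed π) →L[ℂ]
      LinearMap.range (Cfsg.Agent.S4470.embed π)) :=
    { toFun := fun g => LinearMap.toContinuousLinearMap (e.conj (π g))
      map_one' := by ext y; simp [LinearEquiv.conj_apply]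
      map_mul' := fun a b => by
        apply ContinuousLinearMap.ext
        intro y
        show e (π (a * b) (e.symm y)) = e (π a (e.symm (e (π b (e.symm y)))))
        rw [LinearEquiv.symm_apply_apply, map_mul]
        rfl }
  have hU : ∀ g y z, ⟪U g y, U g z⟫_ℂ = ⟪y, z⟫_ℂ := by
    intro g y z
    obtain ⟨v, rfl⟩ := e.surjective y
    obtain ⟨w, rfl⟩ := e.surjective z
    show ⟪e (π g (e.symm (e v))), e (π g (e.symm (e w)))⟫_ℂ = _
    rw [LinearEquiv.symm_apply_apply, LinearEquiv.symm_apply_apply, Submodule.coe_inner,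
      Submodule.coe_inner]
    show ⟪Cfsg.Agent.S4470.embed π (π g v), Cfsg.Agent.S4470.embed π (π g w)⟫_ℂ =
      ⟪Cfsg.Agent.S4470.embed π v, Cfsg.Agent.S4470.embed π w⟫_ℂ
    rw [PiLp.inner_apply, PiLp.inner_apply]
    refine Fintype.sum_equiv ((Equiv.mulRight g).prodCongr (Equiv.refl _)) _ _ fun q => ?_
    simp [Cfsg.Agent.S4470.embed]
  obtain ⟨o, ho⟩ := Cfsg.Agent.S4470.exists_eigenbasis
    (W := LinearMap.range (Cfsg.Agent.S4470.embed π)) U hU T hT
  have hd : Module.finrank ℂ (LinearMap.range (Cfsg.Agent.S4470.embed π)) = d := by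
    rw [← e.finrank_eq, Module.finrank_fin_fun]
  let o' := o.reindex (finCongr hd)
  let b := o'.toBasis.map e.symm
  let R : X →* Matrix (Fin d) (Fin d) ℂ :=
    { toFun := fun g => LinearMap.toMatrix b b (π g)
      map_one' := by rw [map_one]; exact LinearMap.toMatrix_one b
      map_mul' := fun g h => by rw [map_mul]; exact LinearMap.toMatrix_mul b _ _ }
  have hent : ∀ g i j, R g i j = ⟪o' i, U g (o' j)⟫_ℂ := by
    intro g i j
    show LinearMap.toMatrix b b (π g) i j = _
    rw [LinearMap.toMatrix_apply, ← OrthonormalBasis.repr_apply_apply]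
    simp [b, U, LinearEquiv.conj_apply, OrthonormalBasis.coe_toBasis_repr_apply]
  refine ⟨R, fun g => ?_, fun g h hgh => hπ ((LinearMap.toMatrix b b).injective hgh), fun t ht => ?_⟩
  · ext i j
    rw [conjTranspose_apply, hent, hent, ← starRingEnd_apply,
      inner_conj_symm (𝕜 := ℂ) (U g (o' i)) (o' j), ← hU g,
      show U g (U g⁻¹ (o' j)) = (U g * U g⁻¹) (o' j) from rfl, ← map_mul, mul_inv_cancel, map_one]
    rfl
  · choose f hf using fun i => ho i t ht
    refine ⟨fun i => f ((finCongr hd).symm i), ?_⟩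
    ext i j
    rw [hent, show o' j = o ((finCongr hd).symm j) from o.reindex_apply _ j, hf, inner_smul_right,
      ← show o' j = o ((finCongr hd).symm j) from o.reindex_apply _ j, orthonormal_iff_ite.1 o'.orthonormal, diagonal_apply]
    split_ifs with h <;> simp [h]

/-- a column supported at one place -/
theorem column_mul {R S : Matrix (Fin 3) (Fin 3) ℂ} {a b c : Fin 3} (hS : ∀ i, i ≠ b → S i a = 0)
    (hR : ∀ i, i ≠ c → R i b = 0) : ∀ i, i ≠ c → (R * S) i a = 0 := by
  intro i hi
  rw [Matrix.mul_apply]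
  refine Finset.sum_eq_zero fun l _ => ?_
  by_cases hl : l = b
  · subst hl; rw [hR i hi, zero_mul]
  · rw [hS l hl, mul_zero]

/-- the centraliser of a torus with an element satisfying the sixty degree condition is normal -/
theorem centralizer_normal {X : Type u} [Group X] [Finite X] (ρ : X →* Matrix (Fin 3) (Fin 3) ℂ)
    (hρ : Function.Injective ρ) (T : Subgroup X) (hT : ∀ a ∈ T, ∀ b ∈ T, a * b = b * a) (σ : T →* T) {y : X}
    (hy : ∀ t : T, (σ t : X) = y⁻¹ * t * y) (hnorm : ∀ t : T, t * σ t * σ (σ t) = 1) (h3 : ∀ t : T, σ (σ (σ t)) = t)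
    (hexp : ∃ t : T, t ^ 3 ≠ 1)
    (htarget : ∀ χ : T →* ℂ, (∀ t, χ t = 1 → χ (σ t) = 1 → t = 1) →
      ∃ t, χ t ≠ χ (σ t) ∧ χ (σ t) ≠ χ (σ (σ t)) ∧ χ t ≠ χ (σ (σ t)) ∧
        ‖χ (σ t) / χ t - 1‖ < 1 ∧ ‖χ (σ (σ t)) / χ t - 1‖ < 1)
    (g c : X) (hc : ∀ t ∈ T, c * t = t * c) : ∀ t ∈ T, g * c * g⁻¹ * t = t * (g * c * g⁻¹) := by
  classical
  obtain ⟨R, hR, hRi, hdiag⟩ := exists_unitary_model ρ hρ T hT
  choose f hf using fun t : T => hdiag t.1 t.2
  -- the characters
  let χ : Fin 3 → T →* ℂ := fun i =>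
    { toFun := fun t => f t i
      map_one' := by
        have h := congrFun (congrFun (hf 1) i) i
        rw [diagonal_apply_eq, Subgroup.coe_one, map_one, one_apply_eq] at h
        exact h.symm
      map_mul' := fun s t => by
        have h := congrFun (congrFun (hf (s * t)) i) i
        rw [diagonal_apply_eq, Subgroup.coe_mul, map_mul, hf, hf, diagonal_mul_diagonal, diagonal_apply_eq] at h
        exact h.symm }
  have hentry : ∀ (t : T) (i j : Fin 3), R y i j ≠ 0 → χ i t = χ j (σ t) := by
    intro t i j h0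
    have h : R (t : X) * R y = R y * R (σ t : X) := by
      rw [← map_mul, ← map_mul, hy, mul_assoc y⁻¹, mul_inv_cancel_left]
    have h' := congrFun (congrFun h i) j
    rw [hf, hf, diagonal_mul, mul_diagonal, mul_comm (R y i j)] at h'
    exact mul_right_cancel₀ h0 h'
  have hcol : ∀ j, ∃ i, R y i j ≠ 0 := by
    intro j
    by_contra hcon
    push Not at hcon
    have h : R y⁻¹ * R y = 1 := by rw [← map_mul, inv_mul_cancel, map_one]
    have h' := congrFun (congrFun h j) j
    rw [Matrix.mul_apply, one_apply_eq, Finset.sum_eq_zero fun l _ => by rw [hcon l, mul_zero]] at h'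
    exact zero_ne_one h'
  obtain ⟨a, t₀, ha⟩ : ∃ a t₀, χ a t₀ ^ 3 ≠ 1 := by
    by_contra hcon
    push Not at hcon
    obtain ⟨t, ht⟩ := hexp
    refine ht (Subtype.ext (hRi ?_))
    rw [Subgroup.coe_pow, map_pow, hf, diagonal_pow, Subgroup.coe_one, map_one, ← diagonal_one]
    exact congrArg _ (funext fun i => hcon i t)
  obtain ⟨b, hb⟩ := hcol a
  obtain ⟨d, hd⟩ := hcol b
  have eb : ∀ t, χ b t = χ a (σ t) := fun t => hentry t b a hb
  have ed : ∀ t, χ d t = χ a (σ (σ t)) := fun t => by rw [hentry t d b hd, eb]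
  have hcube : ¬ ∀ t, χ a (σ t) = χ a t := fun h => ha (by
    have e := congrArg (χ a) (hnorm t₀)
    rw [map_mul, map_mul, map_one, h (σ t₀), h t₀] at e
    rw [pow_succ, pow_succ, pow_one]
    exact e)
  have hab : a ≠ b := fun e => hcube fun t => by rw [← eb, ← e]
  have hbd : b ≠ d := fun e => hcube fun t => by
    have h := eb (σ (σ t))
    rw [h3] at h
    rw [← h, e, ed, h3]
  have had : a ≠ d := fun e => hcube fun t => by
    have h := ed (σ t)
    rw [h3, ← e] at h
    exact h
  have hall : ∀ i, i = a ∨ i = b ∨ i = d := fun i => by omega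
  have hfaith : ∀ t, χ a t = 1 → χ a (σ t) = 1 → t = 1 := by
    intro t h1 h2
    have e := congrArg (χ a) (hnorm t)
    rw [map_mul, map_mul, map_one, h1, h2, one_mul, one_mul] at e
    refine Subtype.ext (hRi ?_)
    rw [hf, Subgroup.coe_one, map_one, ← diagonal_one]
    refine congrArg _ (funext fun i => ?_)
    show χ i t = 1
    rcases hall i with rfl | rfl | rfl
    · exact h1
    · rw [eb]; exact h2
    · rw [ed]; exact e
  obtain ⟨t, t1, t2, t3, s1, s2⟩ := htarget (χ a) hfaith
  have hinj : ∀ i j, χ i t = χ j t → i = j := by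
    intro i j h
    have t1' := t1.symm
    have t2' := t2.symm
    have t3' := t3.symm
    rcases hall i with rfl | rfl | rfl <;> rcases hall j with rfl | rfl | rfl <;> simp only [eb, ed] at h <;>
      first | rfl | contradiction
  -- columns of `y`
  have hy1 : ∀ i, i ≠ b → R y i a = 0 := fun i hi => by
    by_contra h
    exact hi (hinj i b (by rw [hentry t i a h, eb]))
  have hy2 : ∀ i, i ≠ d → R y i b = 0 := fun i hi => by
    by_contra h
    exact hi (hinj i d (by rw [hentry t i b h, hentry t d b hd]))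
  have h60 : ∀ i, ‖f t i / f t a - 1‖ < 1 := by
    intro i
    show ‖χ i t / χ a t - 1‖ < 1
    have h0 : χ a t ≠ 0 := fun h => by
      have e := congrArg (χ a) (hnorm t)
      rw [map_mul, map_mul, h, zero_mul, zero_mul, map_one] at e
      exact zero_ne_one e
    rcases hall i with rfl | rfl | rfl
    · rw [div_self h0, sub_self, norm_zero]; exact one_pos
    · rw [eb]; exact s1
    · rw [ed]; exact s2
  -- every conjugate of `t` is diagonal
  have hconj : ∀ h : X, ∀ i, i ≠ a → R (h * t * h⁻¹) i a = 0 := by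
    intro h i hi
    have e := congrFun (congrFun (CfsgLib.Char.BlichfeldtSixty.conj_commute_projection R hR (f t) (hf t) a h60 h) i) a
    rw [diagonal_mul, mul_diagonal, if_pos rfl, mul_one, if_neg (show ¬ f t i = f t a from fun e => hi (hinj i a e)), zero_mul] at e
    exact e.symm
  have hshift : ∀ (z : X) (k : Fin 3), (∀ i, i ≠ k → R z i a = 0) → ∀ h i, i ≠ k → R (h * t * h⁻¹) i k = 0 := by
    intro z k hz h i hi
    have h2 := column_mul (R := R z) (S := R (z⁻¹ * h * t * (z⁻¹ * h)⁻¹)) (hconj (z⁻¹ * h)) hz i hi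
    rw [← map_mul, show z * (z⁻¹ * h * t * (z⁻¹ * h)⁻¹) = h * t * h⁻¹ * z by group, map_mul, Matrix.mul_apply,
      Finset.sum_eq_single k (fun l _ hl => by rw [hz l hl, mul_zero]) (fun h => absurd (Finset.mem_univ k) h)] at h2
    refine (mul_eq_zero.1 h2).resolve_right fun hk => ?_
    have e : R z⁻¹ * R z = 1 := by rw [← map_mul, inv_mul_cancel, map_one]
    have e' := congrFun (congrFun e a) a
    rw [Matrix.mul_apply, one_apply_eq, Finset.sum_eq_zero fun l _ => by
      by_cases hl : l = k
      · subst hl; rw [hk, mul_zero]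
      · rw [hz l hl, mul_zero]] at e'
    exact zero_ne_one e'
  have hallcol : ∀ h i j, i ≠ j → R (h * t * h⁻¹) i j = 0 := by
    intro h i j hij
    rcases hall j with rfl | rfl | rfl
    · exact hconj h i hij
    · exact hshift y _ hy1 h i hij
    · refine hshift (y * y) _ ?_ h i hij
      rw [map_mul]
      exact column_mul hy1 hy2
  -- centralisers
  have hdia : ∀ x : X, R x * R (t : X) = R (t : X) * R x → ∀ i j, i ≠ j → R x i j = 0 := by
    intro x hx i j hij
    have e := congrFun (congrFun hx i) j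
    rw [hf, mul_diagonal, diagonal_mul] at e
    by_contra h0
    exact hij (hinj i j (mul_right_cancel₀ h0 (e.symm.trans (mul_comm _ _))))
  have hcomm : ∀ A B : Matrix (Fin 3) (Fin 3) ℂ, (∀ i j, i ≠ j → A i j = 0) → (∀ i j, i ≠ j → B i j = 0) →
      A * B = B * A := by
    intro A B hA hB
    rw [← Matrix.IsDiag.diagonal_diag (A := A) (fun i j h => hA i j h), ← Matrix.IsDiag.diagonal_diag (A := B) (fun i j h => hB i j h),
      diagonal_mul_diagonal, diagonal_mul_diagonal]
    exact congrArg _ (funext fun i => mul_comm _ _)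
  have hcd := hdia c (by rw [← map_mul, ← map_mul, hc t t.2])
  have h1 : g⁻¹ * t * g * c = c * (g⁻¹ * t * g) := hRi (by
    rw [map_mul R, map_mul R c]
    refine hcomm _ _ (fun i j h => ?_) hcd
    have := hallcol g⁻¹ i j h
    rwa [inv_inv] at this)
  have h2 := hdia (g * c * g⁻¹) (by
    rw [← map_mul, ← map_mul]
    refine congrArg R ?_
    calc g * c * g⁻¹ * (t : X) = g * (c * (g⁻¹ * t * g)) * g⁻¹ := by group
      _ = g * (g⁻¹ * t * g * c) * g⁻¹ := by rw [h1]
      _ = (t : X) * (g * c * g⁻¹) := by group)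
  intro s hs
  refine hRi ?_
  rw [map_mul R, map_mul R s]
  refine hcomm _ _ h2 fun i j h => ?_
  have e := hf ⟨s, hs⟩
  show R s i j = 0
  rw [show R s = diagonal (f ⟨s, hs⟩) from e, diagonal_apply_ne _ h]

end CfsgLib.Perm.Trans.ThreeDim
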