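import Cfsg.Agent.Lib.Perm.Trans.ThreeDim.MonoTv
import Cfsg.Agent.Lib.Perm.Trans.ThreeDim.Unip
import Cfsg.Agent.Lib.Perm.Trans.ThreeDim.Sixty
import Cfsg.Agent.Lib.Perm.Trans.ThreeDim.Roots
import Cfsg.Agent.Lib.Char.LiftCoprime
import Cfsg.Agent.Lib.Perm.Trans.SL

/-!
# Overgroups of the monomial group in dimension three

A group of determinant one containing the monomial matrices and one more element either contains all
transvections, or has order prime to the characteristic, which is impossible for fields of more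
than seven elements by lifting to the complex numbers.
-/

set_option autoImplicit false
set_option linter.all false

namespace CfsgLib.Perm.Trans.ThreeDim

open scoped Matrix
open Matrix Cfsg.Geo CfsgLib.Perm.Asch CfsgLib.Perm.Trans CfsgLib.Perm.LinDecomp

variable {F : Type*} [Field F] [Fintype F] {M : Subgroup (GL (Fin 3) F)}

theorem exists_third {i j : Fin 3} (h : i ≠ j) : ∃ l, Idx i j l := by
  fin_cases i <;> fin_cases j <;> first | exact absurd rfl h | exact ⟨0, by decide, by decide, by decide⟩ | exact ⟨1, by decide, by decide, by decide⟩ | exact ⟨2, by decide, by decide, by decide⟩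

/-- if the images of the vectors supported on two coordinates are never full, the matrix is monomial -/
theorem mono_of_pairs (h5 : 5 ≤ Fintype.card F) {g : GL (Fin 3) F}
    (h : ∀ (i j : Fin 3) (c : Fˣ), i ≠ j →
      ∃ k, ((g : Matrix (Fin 3) (Fin 3) F) *ᵥ (Pi.single i 1 + Pi.single j (c : F))) k = 0) : Mono g := by
  classical
  have hz : ∀ i j : Fin 3, i ≠ j → ∃ k, (g : Matrix (Fin 3) (Fin 3) F) k i = 0 ∧ (g : Matrix (Fin 3) (Fin 3) F) k j = 0 := by
    intro i j hij
    choose k hk using fun c => h i j c hij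
    obtain ⟨c, c', hne, he⟩ := Fintype.exists_ne_map_eq_of_card_lt k (by
      rw [Fintype.card_units, Fintype.card_fin]; omega)
    have hv : ∀ d : Fˣ, ((g : Matrix (Fin 3) (Fin 3) F) *ᵥ (Pi.single i 1 + Pi.single j (d : F))) (k c) =
        (g : Matrix (Fin 3) (Fin 3) F) (k c) i + (d : F) * (g : Matrix (Fin 3) (Fin 3) F) (k c) j := fun d => by
      rw [mulVec_add, Pi.add_apply, mulVec_single_col,
        show Pi.single j (d : F) = (d : F) • Pi.single j 1 by rw [← Pi.single_smul, smul_eq_mul, mul_one],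
        mulVec_smul, Pi.smul_apply, mulVec_single_col, smul_eq_mul]
    have h1 := (hv c).symm.trans (hk c)
    have h2 := (hv c').symm.trans (he ▸ hk c')
    have h3 : ((c : F) - c') * (g : Matrix (Fin 3) (Fin 3) F) (k c) j = 0 := by linear_combination h1 - h2
    have h4 := (mul_eq_zero.1 h3).resolve_left (sub_ne_zero.2 fun e => hne (Units.ext e))
    exact ⟨k c, by simpa [h4] using h1, h4⟩
  have hrow : ∀ k, ∃ l, (g : Matrix (Fin 3) (Fin 3) F) k l ≠ 0 := by
    intro k
    by_contra hcon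
    push Not at hcon
    exact (Matrix.GeneralLinearGroup.det g).ne_zero
      (by rw [Matrix.GeneralLinearGroup.val_det_apply]; exact Matrix.det_eq_zero_of_row_eq_zero k hcon)
  refine mono_of_cols fun l => ?_
  obtain ⟨i, j, H⟩ := exists_idx l
  obtain ⟨a, ha1, ha2⟩ := hz i l H.il
  obtain ⟨b, hb1, hb2⟩ := hz j l H.jl
  obtain ⟨c, hc1, hc2⟩ := hz i j H.ij
  have hdist : ∀ r, (g : Matrix (Fin 3) (Fin 3) F) r i = 0 → (g : Matrix (Fin 3) (Fin 3) F) r j = 0 →
      (g : Matrix (Fin 3) (Fin 3) F) r l = 0 → False := fun r h1 h2 h3 => by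
    obtain ⟨m, hm⟩ := hrow r
    rcases H.all m with rfl | rfl | rfl <;> contradiction
  have hab : a ≠ b := fun e => hdist a ha1 (e ▸ hb1) ha2
  have hac : a ≠ c := fun e => hdist a ha1 (e ▸ hc2) ha2
  have hbc : b ≠ c := fun e => hdist b (e ▸ hc1) hb1 hb2
  refine ⟨c, fun r hr => ?_⟩
  rcases (⟨hab, hbc, hac⟩ : Idx a b c).all r with rfl | rfl | rfl
  · exact ha2
  · exact hb2
  · exact absurd rfl hr

omit [Fintype F] in
/-- the centre of a monomial transvection is not full -/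
theorem centre_not_full {x ψ : Fin 3 → F} (h : ψ ⬝ᵥ x = 0) (hψ : ψ ≠ 0) (hm : Mono (tv x ψ h)) : ∃ k, x k = 0 := by
  by_contra hcon
  push Not at hcon
  obtain ⟨σ, d, hd⟩ := hm
  obtain ⟨l, hl⟩ := Function.ne_iff.1 hψ
  obtain ⟨i, j, H⟩ := exists_idx l
  have hcol : ∀ k, k ≠ l → ((tv x ψ h : GL (Fin 3) F) : Matrix (Fin 3) (Fin 3) F) k l ≠ 0 := by
    intro k hk
    rw [← mulVec_single_col ((tv x ψ h : GL (Fin 3) F) : Matrix (Fin 3) (Fin 3) F) l k, tv_mulVec, Pi.add_apply, Pi.single_eq_of_ne hk, zero_add, Pi.smul_apply, smul_eq_mul,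
      dotProduct_single, mul_one]
    exact mul_ne_zero hl (hcon k)
  have hval : ∀ k, k ≠ l → k = σ l := fun k hk => by
    by_contra e
    exact hcol k hk (by rw [hd, mon_apply, if_neg e])
  exact H.ij ((hval i H.il).trans (hval j H.jl).symm)

/-- the cyclic monomial element fixing a full vector -/
theorem exists_cycle (hN : ∀ (σ : Equiv.Perm (Fin 3)) (d : Fin 3 → Fˣ),
    (mon σ d : GL (Fin 3) F) ∈ specialLinear (Fin 3) F → mon σ d ∈ M) {x : Fin 3 → F} (hx : ∀ k, x k ≠ 0) :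
    ∃ c w, c ∈ M ∧ w ∈ M ∧ c ≠ 1 ∧ c ^ 3 = 1 ∧ w * c * w⁻¹ = c ^ 2 ∧
      (c : Matrix (Fin 3) (Fin 3) F) *ᵥ x = x ∧ (w : Matrix (Fin 3) (Fin 3) F) *ᵥ x = -x := by
  classical
  let u : Fin 3 → Fˣ := fun k => Units.mk0 (x k) (hx k)
  let σ : Equiv.Perm (Fin 3) := finRotate 3
  let τ : Equiv.Perm (Fin 3) := Equiv.swap 1 2
  let dd : Equiv.Perm (Fin 3) → Fin 3 → Fˣ := fun π l => u (π l) * (u l)⁻¹
  have hprod : ∀ π : Equiv.Perm (Fin 3), ∏ l, (dd π l : F) = 1 := fun π => by
    rw [← Units.coe_prod]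
    simp only [dd, Finset.prod_mul_distrib, Equiv.prod_comp π u, Finset.prod_inv_distrib, mul_inv_cancel, Units.val_one]
  have hfix : ∀ π, (mon π (dd π) : GL (Fin 3) F).1 *ᵥ x = x := fun π => funext fun k => by
    rw [mon_mulVec]
    simp [dd, u, mul_assoc, inv_mul_cancel₀ (hx _)]
  have hmul : ∀ π ρ : Equiv.Perm (Fin 3), (mon π (dd π) : GL (Fin 3) F) * mon ρ (dd ρ) = mon (π * ρ) (dd (π * ρ)) := by
    intro π ρ
    rw [mon_mul]
    congr 1
    funext l
    simp only [dd, Equiv.Perm.mul_apply]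
    rw [mul_assoc, inv_mul_cancel_left]
  have hone : (mon 1 (dd 1) : GL (Fin 3) F) = 1 := by
    rw [show dd 1 = fun _ => 1 from funext fun l => by simp [dd], mon_one]
  refine ⟨mon σ (dd σ), mon τ (fun l => -dd τ l), hN _ _ (mon_mem_SL (by rw [hprod]; simp [σ])), hN _ _ (mon_mem_SL ?_),
    fun e => ?_, ?_, ?_, hfix σ, funext fun k => ?_⟩
  · simp only [Units.val_neg, Finset.prod_neg, Finset.card_univ, Fintype.card_fin, hprod, τ,
      Equiv.Perm.sign_swap (show (1 : Fin 3) ≠ 2 by decide)]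
    norm_num
  · have h := congrArg (fun A : GL (Fin 3) F => (A : Matrix (Fin 3) (Fin 3) F) 1 0) e
    simp only [mon_apply] at h
    rw [if_pos (by decide : (1 : Fin 3) = σ 0)] at h
    exact (dd σ 0).ne_zero (h.trans (by simp))
  · rw [pow_succ, pow_two, hmul, hmul, show σ * σ * σ = 1 by decide, hone]
  · have hw : (mon τ (fun l => -dd τ l) : GL (Fin 3) F) = mon τ (dd τ) * mon 1 (fun _ => -1) := by
      rw [mon_mul, mul_one]; congr 1; funext l; simp
    have hc : ∀ A : GL (Fin 3) F, (mon 1 (fun _ => -1) : GL (Fin 3) F) * A * (mon 1 fun _ => -1 : GL (Fin 3) F)⁻¹ = A := by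
      intro A
      have e : (mon 1 (fun _ => -1) : GL (Fin 3) F) = -1 := Units.ext (Matrix.ext fun i j => by
        rw [mon_apply]
        rcases eq_or_ne i j with rfl | hij
        · simp
        · simp [hij])
      rw [e]; simp
    rw [hw, _root_.mul_inv_rev, show mon τ (dd τ) * mon 1 (fun _ => -1) * mon σ (dd σ) *
      ((mon 1 fun _ => -1 : GL (Fin 3) F)⁻¹ * (mon τ (dd τ))⁻¹) = mon τ (dd τ) * (mon 1 (fun _ => -1) * mon σ (dd σ) *
      (mon 1 fun _ => -1 : GL (Fin 3) F)⁻¹) * (mon τ (dd τ))⁻¹ by group, hc,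
      mul_inv_eq_iff_eq_mul, pow_two, hmul, hmul, hmul, show τ * σ = σ * σ * τ by decide]
  · rw [mon_mulVec, Units.val_neg, neg_mul, Pi.neg_apply]
    have := congrFun (hfix τ) k
    rw [mon_mulVec] at this
    rw [this]

/-- two commuting involutions fixing a vector with a zero coordinate -/
theorem exists_four (h2 : (2 : F) ≠ 0) (hN : ∀ (σ : Equiv.Perm (Fin 3)) (d : Fin 3 → Fˣ),
    (mon σ d : GL (Fin 3) F) ∈ specialLinear (Fin 3) F → mon σ d ∈ M) {x : Fin 3 → F} {l : Fin 3} (hxl : x l = 0) :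
    ∃ a b, a ∈ M ∧ b ∈ M ∧ a * a = 1 ∧ b * b = 1 ∧ a ≠ 1 ∧ b ≠ 1 ∧ a * b = b * a ∧ a ≠ b ∧
      (∃ e : F, (a : Matrix (Fin 3) (Fin 3) F) *ᵥ x = e • x) ∧
      (∃ e : F, (b : Matrix (Fin 3) (Fin 3) F) *ᵥ x = e • x) := by
  classical
  have hneg : (-1 : F) ≠ 1 := fun e => h2 (by linear_combination -e)
  obtain ⟨i, j, H⟩ := exists_idx l
  let da : Fin 3 → Fˣ := fun k => if k = l then 1 else -1
  have ha : (mon 1 da : GL (Fin 3) F) ∈ M := hN _ _ (mon_mem_SL (by simp [H.prod, da, H.il, H.jl]))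
  have haa : (mon 1 da : GL (Fin 3) F) * mon 1 da = 1 := by
    rw [mon_mul, ← mon_one, mul_one]; congr 1; funext k; simp only [da, Equiv.Perm.one_apply]; split_ifs <;> simp
  have hax : (mon 1 da : GL (Fin 3) F).1 *ᵥ x = (-1 : F) • x := funext fun k => by
    rw [mon_mulVec]
    show ((da k : Fˣ) : F) * x k = _
    by_cases hk : k = l
    · subst hk; rw [Pi.smul_apply, hxl, mul_zero, smul_zero]
    · simp [da, hk]
  have hane : (mon 1 da : GL (Fin 3) F) ≠ 1 := fun e => by
    have h := congrArg (fun A : GL (Fin 3) F => (A : Matrix (Fin 3) (Fin 3) F) i i) e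
    simp [mon_apply, da, H.il] at h
    exact hneg h
  by_cases hxi : x i = 0
  · let db : Fin 3 → Fˣ := fun k => if k = i then 1 else -1
    refine ⟨mon 1 da, mon 1 db, ha, hN _ _ (mon_mem_SL (by simp [H.prod, db, H.ij.symm, H.il.symm])), haa, ?_, hane, fun e => ?_, ?_,
      fun e => ?_, ⟨_, hax⟩, ⟨-1, funext fun k => ?_⟩⟩
    · rw [mon_mul, ← mon_one, mul_one]; congr 1; funext k; simp only [db, Equiv.Perm.one_apply]; split_ifs <;> simp
    · have h := congrArg (fun A : GL (Fin 3) F => (A : Matrix (Fin 3) (Fin 3) F) j j) e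
      simp [mon_apply, db, H.ij.symm] at h
      exact hneg h
    · rw [mon_mul, mon_mul]; congr 1; funext k; exact mul_comm _ _
    · have h := congrArg (fun A : GL (Fin 3) F => (A : Matrix (Fin 3) (Fin 3) F) i i) e
      simp [mon_apply, da, db, H.il] at h
      exact hneg h
    · rw [mon_mulVec]
      show ((db k : Fˣ) : F) * x k = _
      by_cases hk : k = i
      · subst hk; rw [Pi.smul_apply, hxi, mul_zero, smul_zero]
      · simp [db, hk]
  by_cases hxj : x j = 0
  · let db : Fin 3 → Fˣ := fun k => if k = j then 1 else -1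
    refine ⟨mon 1 da, mon 1 db, ha, hN _ _ (mon_mem_SL (by simp [H.prod, db, H.ij, H.jl.symm])), haa, ?_, hane, fun e => ?_, ?_,
      fun e => ?_, ⟨_, hax⟩, ⟨-1, funext fun k => ?_⟩⟩
    · rw [mon_mul, ← mon_one, mul_one]; congr 1; funext k; simp only [db, Equiv.Perm.one_apply]; split_ifs <;> simp
    · have h := congrArg (fun A : GL (Fin 3) F => (A : Matrix (Fin 3) (Fin 3) F) i i) e
      simp [mon_apply, db, H.ij] at h
      exact hneg h
    · rw [mon_mul, mon_mul]; congr 1; funext k; exact mul_comm _ _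
    · have h := congrArg (fun A : GL (Fin 3) F => (A : Matrix (Fin 3) (Fin 3) F) j j) e
      simp [mon_apply, da, db, H.jl] at h
      exact hneg h
    · rw [mon_mulVec]
      show ((db k : Fˣ) : F) * x k = _
      by_cases hk : k = j
      · subst hk; rw [Pi.smul_apply, hxj, mul_zero, smul_zero]
      · simp [db, hk]
  let db : Fin 3 → Fˣ := fun k => if k = i then Units.mk0 (x j / x i) (div_ne_zero hxj hxi)
    else if k = j then Units.mk0 (x i / x j) (div_ne_zero hxi hxj) else -1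
  refine ⟨mon 1 da, mon (Equiv.swap i j) db, ha, hN _ _ (mon_mem_SL ?_), haa, ?_, hane, fun e => ?_, ?_, fun e => ?_,
    ⟨_, hax⟩, ⟨1, funext fun k => ?_⟩⟩
  · have hdi : (db i : F) = x j / x i := by simp [db]
    have hdj : (db j : F) = x i / x j := by simp [db, H.ij.symm]
    have hdl : (db l : F) = -1 := by simp [db, H.il.symm, H.jl.symm]
    rw [Equiv.Perm.sign_swap H.ij, H.prod, hdi, hdj, hdl]
    push_cast
    field_simp
  · rw [mon_mul, Equiv.swap_mul_self, ← mon_one]
    congr 1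
    funext k
    rcases H.all k with rfl | rfl | rfl
    · rw [Equiv.swap_apply_left]; simp only [db, if_neg H.ij.symm, if_pos rfl]; ext; simp; field_simp
    · rw [Equiv.swap_apply_right]; simp only [db, if_neg H.ij.symm, if_pos rfl]; ext; simp; field_simp
    · rw [Equiv.swap_apply_of_ne_of_ne H.il.symm H.jl.symm]; simp [db, H.il.symm, H.jl.symm]
  · have h := congrArg (fun A : GL (Fin 3) F => (A : Matrix (Fin 3) (Fin 3) F) i i) e
    simp [mon_apply, H.ij, Equiv.swap_apply_left] at h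
  · rw [mon_mul, mon_mul, mul_one, one_mul]
    congr 1
    funext k
    simp only [Equiv.Perm.one_apply]
    rw [mul_comm]
    congr 1
    rcases H.all k with rfl | rfl | rfl
    · rw [Equiv.swap_apply_left]; simp [da, H.il, H.jl]
    · rw [Equiv.swap_apply_right]; simp [da, H.il, H.jl]
    · rw [Equiv.swap_apply_of_ne_of_ne H.il.symm H.jl.symm]
  · have h := congrArg (fun A : GL (Fin 3) F => (A : Matrix (Fin 3) (Fin 3) F) i i) e
    simp [mon_apply, H.ij, Equiv.swap_apply_left] at h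
  · rw [mon_mulVec, Equiv.symm_swap, one_smul]
    rcases H.all k with rfl | rfl | rfl
    · rw [Equiv.swap_apply_left]; simp [db, H.ij.symm]; field_simp
    · rw [Equiv.swap_apply_right]; simp [db]; field_simp
    · rw [Equiv.swap_apply_of_ne_of_ne H.il.symm H.jl.symm, hxl, mul_zero]

/-- all transvections, or the order is prime to the characteristic -/
theorem full_or_coprime (h5 : 5 ≤ Fintype.card F) {p : ℕ} [hp : Fact p.Prime] [CharP F p]
    (hN : ∀ (σ : Equiv.Perm (Fin 3)) (d : Fin 3 → Fˣ), (mon σ d : GL (Fin 3) F) ∈ specialLinear (Fin 3) F → mon σ d ∈ M)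
    (hM : M ≤ specialLinear (Fin 3) F) {g₀ : GL (Fin 3) F} (hg₀ : g₀ ∈ M) (hgm : ¬ Mono g₀) :
    fullSub M = ⊤ ∨ 5 ≤ p ∧ ¬ p ∣ Nat.card M := by
  classical
  obtain ⟨ν, -, hν2, hν3⟩ := exists_nu h5
  by_cases hfull : fullSub M = ⊤
  · exact Or.inl hfull
  have htv : ∀ x ψ, Has M x ψ → x ≠ 0 → ψ ≠ 0 → (2 : F) = 0 ∧ ∃ k, x k = 0 := by
    intro x ψ h hx hψ
    obtain ⟨h2, hm⟩ := (good_or_mono hN hν3 hν2 h hx hψ).resolve_left hfull
    exact ⟨h2, centre_not_full h.orth hψ hm⟩
  by_cases h2 : (2 : F) = 0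
  · exfalso
    refine hgm (mono_of_pairs h5 fun i j c hij => ?_)
    have hm1 : (-1 : F) = 1 := by linear_combination -h2
    let d : Fin 3 → Fˣ := fun k => if k = i then c else if k = j then c⁻¹ else 1
    obtain ⟨x, hx⟩ : ∃ x : Fin 3 → F, x = Pi.single i 1 + Pi.single j (c : F) := ⟨_, rfl⟩
    obtain ⟨ψ, hψ⟩ : ∃ ψ : Fin 3 → F, ψ = Pi.single i 1 + Pi.single j (c : F)⁻¹ := ⟨_, rfl⟩
    have h0 : ψ ⬝ᵥ x = 0 := by
      rw [hψ, hx]
      simp [dotProduct_add, add_dotProduct, hij, hij.symm]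
      linear_combination h2
    have hmem : tv x ψ h0 ∈ M := by
      obtain ⟨l, hl⟩ := exists_third hij
      rw [show tv x ψ h0 = mon (Equiv.swap i j) d from gl_ext_vec fun v => funext fun k => ?_]
      · refine hN _ _ (mon_mem_SL ?_)
        rw [Equiv.Perm.sign_swap hij, hl.prod]
        simp [d, hij.symm, hl.il.symm, hl.jl.symm, hm1]
      rw [tv_mulVec, mon_mulVec, Equiv.symm_swap, Pi.add_apply, Pi.smul_apply, smul_eq_mul, hψ, hx]
      simp only [add_dotProduct, single_dotProduct, one_mul, Pi.add_apply]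
      rcases hl.all k with rfl | rfl | rfl
      · rw [Equiv.swap_apply_left]; simp [d, hij, hij.symm]; linear_combination (v k) * h2
      · rw [Equiv.swap_apply_right]; simp [d, hij, hij.symm]
        have := c.ne_zero
        field_simp
        linear_combination (v k) * h2
      · rw [Equiv.swap_apply_of_ne_of_ne hl.il.symm hl.jl.symm]; simp [d, hl.il.symm, hl.jl.symm]
    have hx0 : x ≠ 0 := fun e => one_ne_zero (α := F) (by
      have := congrFun e i; rw [hx, Pi.add_apply, Pi.single_eq_same, Pi.single_eq_of_ne hij, add_zero] at this; exact this)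
    have hψ0 : ψ ≠ 0 := fun e => one_ne_zero (α := F) (by
      have := congrFun e i; rw [hψ, Pi.add_apply, Pi.single_eq_same, Pi.single_eq_of_ne hij, add_zero] at this; exact this)
    have h1 := (show Has M x ψ from ⟨h0, hmem⟩).conj hg₀
    rw [← hx]
    refine (htv _ _ h1 (fun e => hx0 (gl_mulVec_eq_zero.1 e)) fun e => hψ0 ?_).2
    have := congrArg (fun v => v ᵥ* (g₀ : Matrix (Fin 3) (Fin 3) F)) e
    simpa [vecMul_vecMul] using this
  have hno : NoTv M := fun x ψ h => by
    by_contra hcon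
    push Not at hcon
    exact h2 (htv x ψ h hcon.1 hcon.2).1
  have hp2 : p ≠ 2 := fun e => h2 (by subst e; exact_mod_cast CharP.cast_eq_zero F 2)
  have hfix : ∀ u ∈ M, u ≠ 1 → u ^ p = 1 → ∀ x : Fin 3 → F, x ≠ 0 →
      (u : Matrix (Fin 3) (Fin 3) F) *ᵥ x = x → ∀ k, x k ≠ 0 := by
    intro u hu hu1 hup x hx hux l hxl
    obtain ⟨a, b, ha, hb, ha2, hb2, ha1, hb1, hab, hne, hax, hbx⟩ := exists_four h2 hN hxl
    exact no_four hp2 hM hno hu hu1 hup hx hux ha hb ha2 hb2 ha1 hb1 hab hne hax hbx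
  by_cases hdvd : p ∣ Nat.card M
  swap
  · refine Or.inr ⟨?_, hdvd⟩
    have := hp.out.two_le
    by_contra hcon
    have hp3 : p = 3 := by
      interval_cases p <;> first | rfl | omega | exact absurd hp.out (by norm_num)
    obtain ⟨c, w, hc, -, hc1, hc3, -⟩ := exists_cycle hN (x := fun _ => (1 : F)) fun _ => one_ne_zero
    subst hp3
    refine hdvd ?_
    exact (dvd_of_eq ((Subgroup.orderOf_coe (⟨c, hc⟩ : M)).symm.trans (orderOf_eq_prime hc3 hc1)).symm).trans
      (orderOf_dvd_natCard _)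
  exfalso
  haveI : Finite M := inferInstance
  obtain ⟨u, hu⟩ := exists_prime_orderOf_dvd_card' p hdvd
  have hu1 : (u : GL (Fin 3) F) ≠ 1 := fun e => by
    rw [show u = 1 from Subtype.ext e, orderOf_one] at hu
    exact hp.out.one_lt.ne hu
  have hup : (u : GL (Fin 3) F) ^ p = 1 := by rw [← hu, ← Subgroup.coe_pow, pow_orderOf_eq_one]; rfl
  obtain ⟨a, b, c, hli, hua, -, -, -⟩ := exists_frame hno u.2 hu1 hup
  have ha0 : a ≠ 0 := hli.ne_zero 0
  have hafull := hfix _ u.2 hu1 hup a ha0 hua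
  by_cases hp3 : p = 3
  · subst hp3
    -- full vectors go to full vectors
    refine hgm (mono_of_pairs h5 fun i j d hij => ?_)
    by_contra hcon
    push Not at hcon
    obtain ⟨v, hv⟩ : ∃ v : Fin 3 → F, v = (g₀ : Matrix (Fin 3) (Fin 3) F) *ᵥ (Pi.single i 1 + Pi.single j (d : F)) := ⟨_, rfl⟩
    obtain ⟨e, w, he, -, he1, he3, -, hev, -⟩ := exists_cycle hN (x := v) (hv ▸ hcon)
    have h1 := hfix (g₀⁻¹ * e * g₀) (M.mul_mem (M.mul_mem (M.inv_mem hg₀) he) hg₀) (fun h => he1 (by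
        calc e = g₀ * (g₀⁻¹ * e * g₀) * g₀⁻¹ := by group
          _ = 1 := by rw [h]; group))
      (by rw [show g₀⁻¹ * e * g₀ = g₀⁻¹ * e * (g₀⁻¹)⁻¹ by rw [inv_inv], conj_pow, he3]; group)
      (((g₀⁻¹ : GL (Fin 3) F) : Matrix (Fin 3) (Fin 3) F) *ᵥ v)
      (fun h => by
        have h2 := hcon i
        rw [← hv, gl_mulVec_eq_zero.1 h] at h2
        exact h2 rfl)
      (by rw [gl_mul_mulVec, gl_mul_mulVec, gl_mulVec_inv, hev])
    obtain ⟨l, hl⟩ := exists_third hij
    refine h1 l ?_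
    rw [hv, gl_inv_mulVec, Pi.add_apply, Pi.single_eq_of_ne hl.il.symm, Pi.single_eq_of_ne hl.jl.symm, add_zero]
  have hp5 : 5 ≤ p := by
    have := hp.out.two_le
    by_contra hcon
    interval_cases p
    · omega
    · omega
    · exact absurd hp.out (by norm_num)
  obtain ⟨e, w, he, hw, he1, he3, hew, hea, hwa⟩ := exists_cycle hN hafull
  exact no_sym hp5 hM hno u.2 hu1 hup ha0 hua he hw he1 he3 hew ⟨1, by rw [one_smul]; exact hea⟩
    ⟨-1, by rw [neg_one_smul]; exact hwa⟩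

/-- the diagonal matrices of determinant one with entries determined by two units -/
def dg (a b : Fˣ) : Fin 3 → Fˣ := ![a, b, (a * b)⁻¹]

omit [Fintype F] in
theorem dg_prod (a b : Fˣ) : ∏ k, ((dg a b k : Fˣ) : F) = 1 := by
  rw [← Units.coe_prod, Fin.prod_univ_three]
  exact congrArg Units.val (mul_inv_cancel (a * b))

/-- no overgroup of order prime to the characteristic over fields of more than seven elements -/
theorem mono_of_coprime (h8 : 8 ≤ Fintype.card F) {p : ℕ} (hp : p.Prime) [CharP F p]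
    (hN : ∀ (σ : Equiv.Perm (Fin 3)) (d : Fin 3 → Fˣ), (mon σ d : GL (Fin 3) F) ∈ specialLinear (Fin 3) F → mon σ d ∈ M)
    (hM : M ≤ specialLinear (Fin 3) F) (hcop : ¬ p ∣ Nat.card M) : ∀ g ∈ M, Mono g := by
  classical
  haveI : Fact p.Prime := ⟨hp⟩
  intro g hgM
  let ψ : M →* Matrix (Fin 3) (Fin 3) F := (Units.coeHom _).comp M.subtype
  obtain ⟨ρ, hρ⟩ := CfsgLib.Char.LiftCoprime.exists_complex hp hcop ψ fun a b h => Subtype.ext (Units.ext h)
  let T : Subgroup M :=
    { carrier := {t | ∀ i j, i ≠ j → ((t : GL (Fin 3) F) : Matrix (Fin 3) (Fin 3) F) i j = 0}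
      one_mem' := fun i j h => by simp [Matrix.one_apply_ne h]
      mul_mem' := fun {a b} ha hb i j h => by
        rw [Subgroup.coe_mul, Units.val_mul, Matrix.mul_apply]
        refine Finset.sum_eq_zero fun k _ => ?_
        by_cases hk : i = k
        · subst hk; rw [hb i j h, mul_zero]
        · rw [ha i k hk, zero_mul]
      inv_mem' := fun {a} ha i j h => by
        rw [Subgroup.coe_inv, Matrix.coe_units_inv,
          ← (show Matrix.IsDiag ((a : GL (Fin 3) F) : Matrix (Fin 3) (Fin 3) F) from fun i j h => ha i j h).diagonal_diag,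
          Matrix.inv_diagonal, Matrix.diagonal_apply_ne _ h] }
  have hform : ∀ t : T, ∃ a b : Fˣ, ((t : M) : GL (Fin 3) F) = mon 1 (dg a b) := by
    intro t
    have hd := det_one_of_mem hM t.1.2
    obtain ⟨A, hA⟩ : ∃ A, A = (((t : M) : GL (Fin 3) F) : Matrix (Fin 3) (Fin 3) F) := ⟨_, rfl⟩
    have hdia : Matrix.diagonal A.diag = A := (show A.IsDiag from fun i j h => hA ▸ t.2 i j h).diagonal_diag
    rw [← hA, ← hdia, det_diagonal, Fin.prod_univ_three] at hd
    have hne := fun k (e : A.diag k = 0) => (one_ne_zero (α := F)) (hd ▸ by fin_cases k <;> simp_all)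
    obtain ⟨d, hd'⟩ : ∃ d : Fin 3 → Fˣ, ∀ k, (d k : F) = A.diag k := ⟨fun k => Units.mk0 _ (hne k), fun k => rfl⟩
    refine ⟨d 0, d 1, Units.ext ?_⟩
    rw [← hA]
    conv_lhs => rw [← hdia]
    ext i j
    rw [mon_apply]
    rcases eq_or_ne i j with rfl | hij
    · rw [diagonal_apply_eq, if_pos (by rfl)]
      fin_cases i
      · exact (hd' 0).symm
      · exact (hd' 1).symm
      · show A.diag 2 = ((d 0 * d 1)⁻¹ : Fˣ)
        rw [Units.val_inv_eq_inv_val, Units.val_mul, hd', hd']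
        exact eq_inv_of_mul_eq_one_right hd
    · rw [diagonal_apply_ne _ hij, if_neg (by simpa using hij)]
  have hmem : ∀ a b : Fˣ, (mon 1 (dg a b) : GL (Fin 3) F) ∈ M := fun a b =>
    hN _ _ (mon_mem_SL (by rw [map_one, dg_prod]; simp))
  let mkT : Fˣ → Fˣ → T := fun a b => ⟨⟨_, hmem a b⟩, fun i j h => by
    show ((mon 1 (dg a b) : GL (Fin 3) F) : Matrix (Fin 3) (Fin 3) F) i j = 0
    rw [mon_apply, if_neg (by simpa using h)]⟩
  have hTcomm : ∀ a ∈ T, ∀ b ∈ T, a * b = b * a := by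
    intro a ha b hb
    obtain ⟨a1, a2, hA⟩ := hform ⟨a, ha⟩
    obtain ⟨b1, b2, hB⟩ := hform ⟨b, hb⟩
    refine Subtype.ext ?_
    simp only [Subgroup.coe_mul]
    rw [show (a : GL (Fin 3) F) = _ from hA, show (b : GL (Fin 3) F) = _ from hB, mon_mul, mon_mul]
    congr 1; funext k; exact mul_comm _ _
  -- the cycle
  let π : Equiv.Perm (Fin 3) := Equiv.swap 0 1 * Equiv.swap 1 2
  have hπ : π 0 = 1 ∧ π 1 = 2 ∧ π 2 = 0 ∧ Equiv.Perm.sign π = 1 := by decide
  let y : M := ⟨mon π fun _ => 1, hN _ _ (mon_mem_SL (by rw [hπ.2.2.2]; simp))⟩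
  have hyconj : ∀ d, (mon π (fun _ => 1) : GL (Fin 3) F)⁻¹ * mon 1 d * mon π (fun _ => 1) = mon 1 fun l => d (π l) := by
    intro d
    rw [mon_inv, mon_mul, mon_mul, mul_one, inv_mul_cancel]
    congr 1
    funext l
    simp
  have hyT : ∀ t : T, y⁻¹ * (t : M) * y ∈ T := by
    intro t i j h
    obtain ⟨a, b, hab⟩ := hform t
    show (((mon π fun _ => 1 : GL (Fin 3) F)⁻¹ * ((t : M) : GL (Fin 3) F) * mon π fun _ => 1 : GL (Fin 3) F) :
      Matrix (Fin 3) (Fin 3) F) i j = 0
    rw [hab, hyconj, mon_apply, if_neg (by simpa using h)]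
  let σ : T →* T :=
    { toFun := fun t => ⟨y⁻¹ * (t : M) * y, hyT t⟩
      map_one' := Subtype.ext (by simp)
      map_mul' := fun a b => Subtype.ext (by simp [mul_assoc]) }
  have hσ : ∀ (t : T) (d : Fin 3 → Fˣ), ((t : M) : GL (Fin 3) F) = mon 1 d →
      ((σ t : M) : GL (Fin 3) F) = mon 1 fun l => d (π l) := by
    intro t d h
    show (mon π fun _ => 1 : GL (Fin 3) F)⁻¹ * ((t : M) : GL (Fin 3) F) * mon π (fun _ => 1) = _
    rw [h, hyconj]
  have hnorm : ∀ t : T, t * σ t * σ (σ t) = 1 := by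
    intro t
    obtain ⟨a, b, h⟩ := hform t
    refine Subtype.ext (Subtype.ext ?_)
    simp only [Subgroup.coe_mul, Subgroup.coe_one]
    rw [hσ _ _ (hσ _ _ h), hσ _ _ h, h, mon_mul, mon_mul, ← mon_one, mul_one, mul_one]
    congr 1
    funext l
    fin_cases l <;> simp [hπ.1, hπ.2.1, hπ.2.2.1, dg, mul_comm, mul_left_comm, mul_assoc]
  have h3 : ∀ t : T, σ (σ (σ t)) = t := by
    intro t
    obtain ⟨a, b, h⟩ := hform t
    refine Subtype.ext (Subtype.ext ?_)
    rw [hσ _ _ (hσ _ _ (hσ _ _ h)), h]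
    congr 1
    funext l
    fin_cases l <;> simp [hπ.1, hπ.2.1, hπ.2.2.1]
  obtain ⟨ν, -, hν2, hν3⟩ := exists_nu (F := F) (by omega)
  set m := Fintype.card F - 1 with hm
  have hpow : ∀ a : Fˣ, a ^ m = 1 := fun a => by
    rw [hm, ← Fintype.card_units]; exact pow_card_eq_one
  have hTpow : ∀ t : T, t ^ m = 1 := by
    intro t
    obtain ⟨a, b, h⟩ := hform t
    refine Subtype.ext (Subtype.ext ?_)
    have hp' : ∀ k : ℕ, (mon 1 (dg a b) : GL (Fin 3) F) ^ k = mon 1 (fun l => (dg a b l) ^ k) := by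
      intro k
      induction k with
      | zero => simp [mon_one]
      | succ k ih =>
        rw [pow_succ, ih, mon_mul, mul_one]
        congr 1
        funext l
        simp [pow_succ]
    rw [Subgroup.coe_pow, Subgroup.coe_pow, h, hp', Subgroup.coe_one, Subgroup.coe_one, ← mon_one]
    congr 1
    funext l
    exact hpow _
  have hTcard : Nat.card T = m * m := by
    have hbij : Function.Bijective fun q : Fˣ × Fˣ => mkT q.1 q.2 := by
      refine ⟨fun q q' h => ?_, fun t => ?_⟩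
      · have h' := congrArg (fun t : T => (((t : M) : GL (Fin 3) F) : Matrix (Fin 3) (Fin 3) F)) h
        have h0 := congrFun (congrFun h' 0) 0
        have h1 := congrFun (congrFun h' 1) 1
        simp [mkT, mon_apply, dg] at h0 h1
        exact Prod.ext (Units.ext h0) (Units.ext h1)
      · obtain ⟨a, b, h⟩ := hform t
        exact ⟨(a, b), Subtype.ext (Subtype.ext h.symm)⟩
    rw [← Nat.card_eq_of_bijective _ hbij, Nat.card_prod, Nat.card_eq_fintype_card, Fintype.card_units]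
  have hexp : ∃ t : T, t ^ 3 ≠ 1 := ⟨mkT ν 1, fun e => hν3 (by
    have h' := congrArg (fun t : T => (((t : M) : GL (Fin 3) F) : Matrix (Fin 3) (Fin 3) F) 0 0) e
    simp [mkT, pow_succ, mon_mul, mon_apply, dg, Matrix.mul_apply, Fin.sum_univ_three] at h'
    exact Units.ext (by simpa [pow_succ] using h'))⟩
  have hmain : ∀ (h c : M), (∀ t ∈ T, c * t = t * c) → ∀ t ∈ T, h * c * h⁻¹ * t = t * (h * c * h⁻¹) := by
    refine centralizer_normal ρ hρ T hTcomm σ (y := y) (fun t => rfl) hnorm h3 hexp fun χ hχ => ?_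
    have hm0 : m ≠ 0 := by omega
    haveI : NeZero m := ⟨hm0⟩
    let Φ : T → rootsOfUnity m ℂ × rootsOfUnity m ℂ := fun t =>
      (rootsOfUnity.mkOfPowEq (χ t) (by rw [← map_pow, hTpow, map_one]),
        rootsOfUnity.mkOfPowEq (χ (σ t)) (by rw [← map_pow, hTpow, map_one]))
    have hval : ∀ t, ((Φ t).1 : ℂˣ) = (χ t : ℂ) ∧ ((Φ t).2 : ℂˣ) = (χ (σ t) : ℂ) := fun t => ⟨rfl, rfl⟩
    have hΦ : Function.Injective Φ := by
      intro t t' h
      have h1 : χ t = χ t' := congrArg (fun q : rootsOfUnity m ℂ × rootsOfUnity m ℂ => ((q.1 : ℂˣ) : ℂ)) h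
      have h2 : χ (σ t) = χ (σ t') := congrArg (fun q : rootsOfUnity m ℂ × rootsOfUnity m ℂ => ((q.2 : ℂˣ) : ℂ)) h
      have hinv : ∀ s, χ s * χ s⁻¹ = 1 := fun s => by rw [← map_mul, mul_inv_cancel, map_one]
      have e : t * t'⁻¹ = 1 := hχ _ (by rw [map_mul, h1, hinv]) (by rw [map_mul, map_mul, map_inv, h2, hinv])
      exact mul_inv_eq_one.1 e
    have hsurj := ((Nat.bijective_iff_injective_and_card Φ).2 ⟨hΦ, by
      rw [hTcard, Nat.card_prod, (zeta_primitive hm0).card_rootsOfUnity]⟩).2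
    obtain ⟨t, ht⟩ := hsurj (1, rootsOfUnity.mkOfPowEq (zeta m) (zeta_primitive hm0).pow_eq_one)
    have e1 : χ t = 1 := congrArg (fun q : rootsOfUnity m ℂ × rootsOfUnity m ℂ => ((q.1 : ℂˣ) : ℂ)) ht
    have e2 : χ (σ t) = zeta m := congrArg (fun q : rootsOfUnity m ℂ × rootsOfUnity m ℂ => ((q.2 : ℂˣ) : ℂ)) ht
    have e3 : χ (σ (σ t)) = (zeta m)⁻¹ := by
      have e := congrArg χ (hnorm t)
      rw [map_mul, map_mul, map_one, e1, one_mul, e2] at e
      exact eq_inv_of_mul_eq_one_right e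
    have hprim := zeta_primitive hm0
    refine ⟨t, ?_, ?_, ?_, ?_, ?_⟩
    · rw [e1, e2]; exact fun e => absurd (hprim.dvd_of_pow_eq_one 1 (by rw [pow_one, ← e])) (by
        intro h; have := Nat.le_of_dvd one_pos h; omega)
    · rw [e2, e3]; intro e
      have : zeta m ^ 2 = 1 := by
        rw [pow_two]; nth_rewrite 2 [e]
        exact mul_inv_cancel₀ (zeta_ne_zero m)
      have := Nat.le_of_dvd two_pos (hprim.dvd_of_pow_eq_one 2 this)
      omega
    · rw [e1, e3]; intro e
      have : zeta m ^ 1 = 1 := by rw [pow_one]; exact inv_eq_one.1 e.symm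
      have := Nat.le_of_dvd one_pos (hprim.dvd_of_pow_eq_one 1 this)
      omega
    · rw [e1, e2, div_one, ← zpow_one (zeta m)]; exact zeta_near 1 (by norm_num; omega)
    · rw [e1, e3, div_one, ← _root_.zpow_neg_one]; exact zeta_near (-1) (by norm_num; omega)
  -- a regular element goes to a diagonal one
  have hν1 : (ν : Fˣ) ≠ 1 := fun e => hν2 (by rw [e, one_pow])
  have hdist : ∀ i j, dg 1 ν i = dg 1 ν j → i = j := by
    intro i j h
    have e1 : ν⁻¹ ≠ 1 := fun e => hν1 (inv_eq_one.1 e)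
    have e2 : ν⁻¹ ≠ ν := fun e => hν2 (by rw [pow_two]; nth_rewrite 1 [← e]; exact inv_mul_cancel ν)
    fin_cases i <;> fin_cases j <;> simp [dg, hν1, Ne.symm hν1, e1, e1.symm, e2, e2.symm] at h ⊢
  have hkey := hmain ⟨g, hgM⟩ (mkT 1 ν : T) (fun t ht => hTcomm _ (mkT 1 ν).2 t ht) (mkT 1 ν : T) (mkT 1 ν).2
  obtain ⟨D', hD'⟩ : ∃ D' : GL (Fin 3) F, D' = g * mon 1 (dg 1 ν) * g⁻¹ := ⟨_, rfl⟩
  have hc : D' * mon 1 (dg 1 ν) = mon 1 (dg 1 ν) * D' := by
    have h := congrArg (fun z : M => (z : GL (Fin 3) F)) hkey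
    rw [hD']
    simpa [mkT] using h
  have hdg : ((mon 1 (dg 1 ν) : GL (Fin 3) F) : Matrix (Fin 3) (Fin 3) F) = Matrix.diagonal fun k => (dg 1 ν k : F) := by
    ext i j
    rw [mon_apply, Matrix.diagonal_apply, Equiv.Perm.one_apply]
    rcases eq_or_ne i j with rfl | h
    · simp
    · simp [h]
  have hdiag : ∀ i j, i ≠ j → (D' : Matrix (Fin 3) (Fin 3) F) i j = 0 := by
    intro i j hij
    have h := congrArg (fun A : GL (Fin 3) F => (A : Matrix (Fin 3) (Fin 3) F) i j) hc
    simp only [Units.val_mul, hdg, Matrix.mul_diagonal, Matrix.diagonal_mul] at h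
    by_contra h0
    exact hij (hdist i j (Units.ext (mul_right_cancel₀ h0 (h.symm.trans (mul_comm _ _)))))
  have hrel : ∀ k l, (g : Matrix (Fin 3) (Fin 3) F) k l * (dg 1 ν l : F) =
      (D' : Matrix (Fin 3) (Fin 3) F) k k * (g : Matrix (Fin 3) (Fin 3) F) k l := by
    intro k l
    have h := congrArg (fun A : GL (Fin 3) F => (A : Matrix (Fin 3) (Fin 3) F) k l)
      (show g * mon 1 (dg 1 ν) = D' * g by rw [hD']; group)
    simp only [Units.val_mul, hdg, Matrix.mul_diagonal] at h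
    rw [h, Matrix.mul_apply, Finset.sum_eq_single k (fun r _ hr => by rw [hdiag k r hr.symm, zero_mul]) (fun h => absurd (Finset.mem_univ k) h)]
  have hcolne : ∀ l, ∃ k, (g : Matrix (Fin 3) (Fin 3) F) k l ≠ 0 := by
    intro l
    by_contra hcon
    push Not at hcon
    exact (Matrix.GeneralLinearGroup.det g).ne_zero
      (by rw [Matrix.GeneralLinearGroup.val_det_apply]; exact Matrix.det_eq_zero_of_column_eq_zero l hcon)
  choose s hs using hcolne
  have hval : ∀ l, (D' : Matrix (Fin 3) (Fin 3) F) (s l) (s l) = (dg 1 ν l : F) := fun l =>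
    (mul_right_cancel₀ (hs l) ((mul_comm _ _).trans (hrel (s l) l))).symm
  have hsinj : Function.Injective s := fun a b e => hdist a b (Units.ext (by rw [← hval a, ← hval b, e]))
  have hssurj := (Finite.injective_iff_surjective.1 hsinj)
  refine mono_of_cols fun l => ⟨s l, fun k hk => ?_⟩
  by_contra h0
  obtain ⟨a, rfl⟩ := hssurj k
  have := hrel (s a) l
  rw [hval, mul_comm (dg 1 ν a : F)] at this
  exact hk (congrArg s (hdist l a (Units.ext (mul_left_cancel₀ h0 this))).symm)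

end CfsgLib.Perm.Trans.ThreeDim
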