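import Cfsg.Agent.Lib.Perm.Trans.ThreeDim.MonoSmall
import Cfsg.Agent.Lib.Perm.Asch.Small

/-!
# Stabilisers of three lines are maximal in the special linear group of degree three
-/

set_option autoImplicit false
set_option linter.all false

namespace CfsgLib.Perm.Trans.ThreeDim

open scoped Matrix
open Matrix Cfsg.Geo CfsgLib.Perm.Asch CfsgLib.Perm.Trans CfsgLib.Perm.LinDecomp

variable {F : Type*} [Field F] [Fintype F]

/-- overgroups of the monomial group in standard coordinates -/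
theorem monomial_full (h5 : 5 ≤ Fintype.card F) {M : Subgroup (GL (Fin 3) F)}
    (hN : ∀ (σ : Equiv.Perm (Fin 3)) (d : Fin 3 → Fˣ), (mon σ d : GL (Fin 3) F) ∈ specialLinear (Fin 3) F → mon σ d ∈ M)
    (hM : M ≤ specialLinear (Fin 3) F) {g : GL (Fin 3) F} (hg : g ∈ M) (hgm : ¬ Mono g) : fullSub M = ⊤ := by
  obtain ⟨p, hchar⟩ := CharP.exists F
  obtain ⟨n, hp, hq⟩ := FiniteField.card F p
  haveI : Fact p.Prime := ⟨hp⟩
  rcases full_or_coprime h5 (p := p) hN hM hg hgm with h | ⟨hp5, hcop⟩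
  · exact h
  exfalso
  refine hgm ?_
  have hne : Fintype.card F ≠ 6 := fun e => by
    have h : p ∣ 6 := e ▸ hq ▸ dvd_pow_self p n.ne_zero
    have h6 := Nat.le_of_dvd (by norm_num) h
    interval_cases p <;> first | omega | exact absurd hp (by norm_num)
  by_cases h8 : 8 ≤ Fintype.card F
  · exact mono_of_coprime h8 hp hN hM hcop g hg
  · exact mono_of_small (by omega) hp hN hM hcop g hg

/-- line decomposition stabilisers are maximal -/
theorem monomial_maximal (h5 : 5 ≤ Fintype.card F) {D : Fin 3 → Submodule F (Fin 3 → F)} (hD : IsMDecomposition 1 D) :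
    IsMaximalIn (specialLinear (Fin 3) F) (decompositionStabilizer D ⊓ specialLinear (Fin 3) F) := by
  classical
  refine ⟨lt_SL_of_not_le (not_le_decompositionStabilizer hD), fun M hHM hMS => ?_⟩
  by_cases hle : M ≤ decompositionStabilizer D
  · exact Or.inl (le_antisymm (le_inf hle hMS) hHM)
  obtain ⟨g, hgM, hg⟩ := SetLike.not_le_iff_exists.1 hle
  refine Or.inr (eq_SL_of_fullSub hMS ?_)
  have hb : ∀ i, ∃ b, b ∈ D i ∧ b ≠ 0 := fun i => by
    obtain ⟨b, hb, hb0⟩ := Submodule.exists_mem_ne_zero_of_ne_bot (show D i ≠ ⊥ from fun h => by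
      have := hD.finrank_eq i
      rw [h, finrank_bot] at this
      exact absurd this.symm one_ne_zero)
    exact ⟨b, hb, hb0⟩
  choose b hbm hb0 using hb
  have hind : LinearIndependent F b := hD.indep.linearIndependent _ hbm hb0
  obtain ⟨B, hB⟩ : ∃ B : GL (Fin 3) F, ∀ i, (B : Matrix (Fin 3) (Fin 3) F) *ᵥ Pi.single i 1 = b i := by
    have h1 : IsUnit (Matrix.of fun i j => b i j : Matrix (Fin 3) (Fin 3) F) := Matrix.linearIndependent_rows_iff_isUnit.1 hind
    have h2 : IsUnit (Matrix.of fun j i => b i j : Matrix (Fin 3) (Fin 3) F) := by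
      rw [Matrix.isUnit_iff_isUnit_det] at h1 ⊢
      rw [show (Matrix.of fun j i => b i j : Matrix (Fin 3) (Fin 3) F) = (Matrix.of fun i j => b i j : Matrix (Fin 3) (Fin 3) F)ᵀ from rfl,
        Matrix.det_transpose]
      exact h1
    refine ⟨h2.unit, fun i => funext fun j => ?_⟩
    rw [mulVec_single_col]
    rfl
  have hline : ∀ i x, x ∈ D i → ∃ c : F, x = c • b i := fun i x hx => by
    have heq : Submodule.span F {b i} = D i := Submodule.eq_of_le_of_finrank_eq
      (by rw [Submodule.span_le, Set.singleton_subset_iff]; exact hbm i)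
      (by rw [finrank_span_singleton (hb0 i), hD.finrank_eq])
    rw [← heq] at hx
    obtain ⟨c, hc⟩ := Submodule.mem_span_singleton.1 hx
    exact ⟨c, hc.symm⟩
  -- monomial matrices correspond to the stabiliser
  have hmon : ∀ (σ : Equiv.Perm (Fin 3)) (d : Fin 3 → Fˣ), B * mon σ d * B⁻¹ ∈ decompositionStabilizer D := by
    intro σ d
    refine ⟨σ, fun i => Submodule.eq_of_le_of_finrank_eq ?_ ?_⟩
    · rintro _ ⟨x, hx, rfl⟩
      obtain ⟨c, rfl⟩ := hline i x hx
      rw [Matrix.toLin'_apply, mulVec_smul, gl_mul_mulVec, gl_mul_mulVec, ← hB i, gl_inv_mulVec, mon_mulVec_single,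
        mul_one, show (Pi.single (σ i) (d i : F) : Fin 3 → F) = (d i : F) • Pi.single (σ i) 1 by
          rw [← Pi.single_smul, smul_eq_mul, mul_one], mulVec_smul, hB, smul_smul]
      exact Submodule.smul_mem _ _ (hbm _)
    · rw [hD.finrank_eq, ← hD.finrank_eq i]
      exact (LinearEquiv.finrank_eq (Submodule.equivMapOfInjective _ (fun u v h => by
        have := congrArg (fun w => (((B * mon σ d * B⁻¹ : GL (Fin 3) F)⁻¹ : GL (Fin 3) F) : Matrix (Fin 3) (Fin 3) F) *ᵥ w) h
        simpa only [Matrix.toLin'_apply, gl_inv_mulVec] using this) _)).symm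
  let c : GL (Fin 3) F ≃* GL (Fin 3) F := MulAut.conj B⁻¹
  have hc : ∀ x, c x = B⁻¹ * x * B := fun x => by simp [c]
  have hdet : ∀ x, x ∈ specialLinear (Fin 3) F ↔ B⁻¹ * x * B ∈ specialLinear (Fin 3) F := fun x => by
    show Matrix.GeneralLinearGroup.det x = 1 ↔ Matrix.GeneralLinearGroup.det (B⁻¹ * x * B) = 1
    rw [map_mul, map_mul, map_inv, mul_comm (Matrix.GeneralLinearGroup.det B)⁻¹, mul_assoc, inv_mul_cancel, mul_one]
  have hN : ∀ (σ : Equiv.Perm (Fin 3)) (d : Fin 3 → Fˣ), (mon σ d : GL (Fin 3) F) ∈ specialLinear (Fin 3) F →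
      mon σ d ∈ M.map c.toMonoidHom := fun σ d h => ⟨B * mon σ d * B⁻¹, hHM ⟨hmon σ d,
        (hdet _).2 (by simpa [mul_assoc] using h)⟩, by show c _ = _; rw [hc]; group⟩
  have hM' : M.map c.toMonoidHom ≤ specialLinear (Fin 3) F := by
    rintro _ ⟨x, hx, rfl⟩
    show c x ∈ _
    rw [hc]
    exact (hdet x).1 (hMS hx)
  have hfull := monomial_full h5 hN hM' (g := c g) ⟨g, hgM, rfl⟩ (by
    rintro ⟨σ, d, e⟩
    rw [hc] at e
    refine hg ?_
    rw [show g = B * mon σ d * B⁻¹ by rw [← e]; group]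
    exact hmon σ d)
  refine Submodule.eq_top_iff'.2 fun u φ hφ => ?_
  obtain ⟨h0, x, hx, hxe⟩ := (show FullC (M.map c.toMonoidHom) (((B⁻¹ : GL (Fin 3) F) : Matrix (Fin 3) (Fin 3) F) *ᵥ u) from
    (hfull ▸ Submodule.mem_top : _ ∈ fullSub (M.map c.toMonoidHom))) (φ ᵥ* (B : Matrix (Fin 3) (Fin 3) F))
    (by rw [← dotProduct_mulVec, gl_mulVec_inv, hφ])
  refine ⟨hφ, ?_⟩
  suffices x = tv u φ hφ by rw [← this]; exact hx
  refine gl_ext_vec fun v => ?_
  have h1 : x = B * tv _ _ h0 * B⁻¹ := by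
    rw [← hxe]; show x = B * c x * B⁻¹; rw [hc]; group
  rw [h1, gl_mul_mulVec, gl_mul_mulVec, tv_mulVec, mulVec_add, mulVec_smul, gl_mulVec_inv, gl_mulVec_inv, tv_mulVec,
    ← dotProduct_mulVec, gl_mulVec_inv]

end CfsgLib.Perm.Trans.ThreeDim
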