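import Cfsg.Agent.Lib.Perm.Trans.ThreeDim.Mono

/-!
# Overgroups of the monomial group over the fields of five and seven elements

The order of such a group of order prime to the characteristic is either a small multiple of the
order of the monomial group, or is divisible by a large prime whose Sylow subgroup satisfies the
sixty degree condition.
-/

set_option autoImplicit false
set_option linter.all false

namespace CfsgLib.Perm.Trans.ThreeDim

open scoped Matrix
open Matrix Cfsg.Geo CfsgLib.Perm.Asch CfsgLib.Perm.Trans CfsgLib.Perm.LinDecomp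

variable {F : Type*} [Field F] [Fintype F] {M : Subgroup (GL (Fin 3) F)}

/-- the monomial elements -/
def monoSub (F : Type*) [Field F] : Subgroup (GL (Fin 3) F) where
  carrier := {g | Mono g}
  one_mem' := ⟨1, fun _ => 1, mon_one.symm⟩
  mul_mem' := Mono.mul
  inv_mem' := Mono.inv

omit [Fintype F] in
/-- the signs -/
theorem exists_sign (l : Fin 3) : ∃ d : Fin 3 → Fˣ, ∏ k, (d k : F) = 1 ∧ (∀ k, (d k : F) ^ 2 = 1) ∧ d l = 1 ∧
    ∀ k, k ≠ l → d k = -1 := by
  obtain ⟨i, j, H⟩ := exists_idx l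
  refine ⟨fun k => if k = l then 1 else -1, by simp [H.prod, H.il, H.jl], fun k => ?_, if_pos rfl, fun k hk => if_neg hk⟩
  dsimp only
  split_ifs <;> simp

theorem mon_one_coe (d : Fin 3 → Fˣ) :
    ((mon 1 d : GL (Fin 3) F) : Matrix (Fin 3) (Fin 3) F) = Matrix.diagonal fun k => (d k : F) := by
  ext i j
  rw [mon_apply, Matrix.diagonal_apply, Equiv.Perm.one_apply]
  rcases eq_or_ne i j with rfl | h
  · simp
  · simp [h]

/-- rows with one entry -/
theorem mono_of_pairs' (g : GL (Fin 3) F) (h : ∀ k a b, a ≠ b → (g : Matrix (Fin 3) (Fin 3) F) k a ≠ 0 →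
    (g : Matrix (Fin 3) (Fin 3) F) k b ≠ 0 → False) : Mono g := by
  have hrow : ∀ k, ∃ c, (g : Matrix (Fin 3) (Fin 3) F) k c ≠ 0 := by
    intro k
    by_contra hcon
    push Not at hcon
    exact (Matrix.GeneralLinearGroup.det g).ne_zero
      (by rw [Matrix.GeneralLinearGroup.val_det_apply]; exact Matrix.det_eq_zero_of_row_eq_zero k hcon)
  choose s hs using hrow
  have hcol : ∀ c, ∃ k, s k = c := by
    intro c
    by_contra hcon
    push Not at hcon
    refine (Matrix.GeneralLinearGroup.det g).ne_zero ?_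
    rw [Matrix.GeneralLinearGroup.val_det_apply]
    refine Matrix.det_eq_zero_of_column_eq_zero c fun k => ?_
    by_contra h0
    exact h k _ _ (hcon k) (hs k) h0
  have hbij := Finite.surjective_iff_bijective.1 hcol
  refine mono_of_cols fun c => ?_
  obtain ⟨k, hk⟩ := hcol c
  refine ⟨k, fun j hj => ?_⟩
  by_contra h0
  exact h j _ _ (fun e => hj (hbij.1 (e.trans hk.symm))) (hs j) h0

/-- a matrix conjugating all signs to diagonal matrices is monomial -/
theorem mono_of_signs (h2 : (2 : F) ≠ 0) (g : GL (Fin 3) F)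
    (hdiag : ∀ d : Fin 3 → Fˣ, ∏ k, (d k : F) = 1 → (∀ k, (d k : F) ^ 2 = 1) →
      ∃ e : Fin 3 → Fˣ, g * mon 1 d * g⁻¹ = mon 1 e) : Mono g := by
  classical
  choose d hd hd2 hdl hdn using fun l => exists_sign (F := F) l
  choose e he using fun l => hdiag (d l) (hd l) (hd2 l)
  refine mono_of_pairs' g fun k a b hab hka hkb => ?_
  have hrel : ∀ c, (g : Matrix (Fin 3) (Fin 3) F) k c * (d a c : F) = (e a k : F) * (g : Matrix (Fin 3) (Fin 3) F) k c := by
    intro c
    have h := congrArg (fun A : GL (Fin 3) F => (A : Matrix (Fin 3) (Fin 3) F) k c)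
      (show g * mon 1 (d a) = mon 1 (e a) * g by rw [← he a]; group)
    simp only [Units.val_mul, mon_one_coe, Matrix.mul_diagonal, Matrix.diagonal_mul] at h
    exact h
  have e1 := mul_left_cancel₀ hka ((hrel a).trans (mul_comm _ _))
  have e2 := mul_left_cancel₀ hkb ((hrel b).trans (mul_comm _ _))
  rw [← e1, hdl, hdn a b hab.symm, Units.val_neg, Units.val_one] at e2
  exact h2 (by linear_combination -e2)

/-- conjugates of the four group which are monomial and normalised by the commutators with the torus are diagonal -/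
theorem sign_diag (h2 : (2 : F) ≠ 0) {ν : Fˣ} (hν4 : ν ^ 4 ≠ 1) (g : GL (Fin 3) F)
    (hmono : ∀ d : Fin 3 → Fˣ, ∏ k, (d k : F) = 1 → (∀ k, (d k : F) ^ 2 = 1) → Mono (g * mon 1 d * g⁻¹))
    (hnorm : ∀ (d a : Fin 3 → Fˣ), ∏ k, (d k : F) = 1 → (∀ k, (d k : F) ^ 2 = 1) → ∏ k, (a k : F) = 1 →
      ∀ z, z = mon 1 a * (g * mon 1 d * g⁻¹) * (mon 1 a)⁻¹ * (g * mon 1 d * g⁻¹)⁻¹ →
        (g⁻¹ * (z * (g * mon 1 d * g⁻¹) * z⁻¹) * g) * mon 1 d = mon 1 d * (g⁻¹ * (z * (g * mon 1 d * g⁻¹) * z⁻¹) * g)) :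
    Mono g := by
  classical
  have hdiag : ∀ d : Fin 3 → Fˣ, ∏ k, (d k : F) = 1 → (∀ k, (d k : F) ^ 2 = 1) →
      ∃ e : Fin 3 → Fˣ, g * mon 1 d * g⁻¹ = mon 1 e := by
    intro d hd hd2
    obtain ⟨τ, t, ht⟩ := hmono d hd hd2
    by_cases hτ : τ = 1
    · exact ⟨t, hτ ▸ ht⟩
    exfalso
    have hsq : (mon 1 d : GL (Fin 3) F) * mon 1 d = 1 := by
      rw [mon_mul, mul_one, ← mon_one]
      congr 1; funext k
      exact Units.ext (by have := hd2 k; rw [pow_two] at this; simpa using this)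
    have hss : (g * mon 1 d * g⁻¹) * (g * mon 1 d * g⁻¹) = 1 := by
      rw [show g * mon 1 d * g⁻¹ * (g * mon 1 d * g⁻¹) = g * (mon 1 d * mon 1 d) * g⁻¹ by group, hsq]; group
    rw [ht, mon_mul, ← mon_one] at hss
    have hττ := mon_perm_inj hss
    rw [hττ] at hss
    have htt := mon_d_inj hss
    have hinv : ∀ k, τ (τ k) = k := fun k => by rw [← Equiv.Perm.mul_apply, hττ]; rfl
    obtain ⟨i, hi⟩ : ∃ i, τ i ≠ i := by
      by_contra hcon
      push Not at hcon
      exact hτ (Equiv.ext hcon)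
    obtain ⟨j, hj⟩ : ∃ j, j = τ i := ⟨_, rfl⟩
    have hij : i ≠ j := fun e => hi (hj ▸ e.symm)
    obtain ⟨l, H⟩ := exists_third hij
    have hτj : τ j = i := by rw [hj, hinv]
    have hτl : τ l = l := by
      rcases H.all (τ l) with e | e | e
      · exact absurd (τ.injective (e.trans hτj.symm)) H.jl.symm
      · exact absurd (τ.injective (e.trans hj)) H.il.symm
      · exact e
    let a : Fin 3 → Fˣ := fun k => if k = i then ν else if k = l then ν⁻¹ else 1
    have hai : a i = ν := if_pos rfl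
    have haj : a j = 1 := by simp [a, hij.symm, H.jl]
    have hal : a l = ν⁻¹ := by simp [a, H.il.symm]
    have ha : ∏ k, (a k : F) = 1 := by rw [H.prod, hai, haj, hal]; simp
    -- the commutator is diagonal
    let z : Fin 3 → Fˣ := fun k => a k * (a (τ k))⁻¹
    have hsame : (g * mon 1 d * g⁻¹)⁻¹ = g * mon 1 d * g⁻¹ := by
      rw [_root_.mul_inv_rev, _root_.mul_inv_rev, inv_inv, inv_eq_of_mul_eq_one_right hsq]; group
    have hzt : mon 1 a * (g * mon 1 d * g⁻¹) * (mon 1 a)⁻¹ * (g * mon 1 d * g⁻¹)⁻¹ = mon 1 z := by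
      rw [hsame, ht, mon_inv, mon_mul, mon_mul, mon_mul, one_mul, inv_one, mul_one, hττ]
      congr 1
      funext k
      simp only [Equiv.Perm.one_apply, z, hinv]
      have := congrFun htt k
      calc a k * t (τ k) * (a (τ k))⁻¹ * t k = a k * (a (τ k))⁻¹ * (t (τ k) * t k) := by
            simp only [mul_assoc, mul_comm, mul_left_comm]
        _ = a k * (a (τ k))⁻¹ := by rw [this, mul_one]
    have h1 := hnorm d a hd hd2 ha _ hzt.symm
    have hcomm : (mon 1 z * (g * mon 1 d * g⁻¹) * (mon 1 z)⁻¹) * (g * mon 1 d * g⁻¹) =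
        (g * mon 1 d * g⁻¹) * (mon 1 z * (g * mon 1 d * g⁻¹) * (mon 1 z)⁻¹) := by
      calc _ = g * ((g⁻¹ * (mon 1 z * (g * mon 1 d * g⁻¹) * (mon 1 z)⁻¹) * g) * mon 1 d) * g⁻¹ := by group
        _ = g * (mon 1 d * (g⁻¹ * (mon 1 z * (g * mon 1 d * g⁻¹) * (mon 1 z)⁻¹) * g)) * g⁻¹ := by rw [h1]
        _ = _ := by group
    rw [ht] at hcomm
    simp only [mon_inv, mon_mul, one_mul, inv_one, mul_one, hττ, Equiv.Perm.one_apply] at hcomm
    have hji : (t j : F) * t i = 1 := by
      have := congrArg Units.val (congrFun htt i)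
      rw [Units.val_mul, ← hj] at this
      exact this
    have h3 := congrArg Units.val (congrFun (mon_d_inj hcomm) i)
    simp only [z, Units.val_mul, Units.val_inv_eq_inv_val, hτj, ← hj, hai, haj, Units.val_one, inv_one, mul_one,
      inv_inv, one_mul] at h3
    have hν0 := ν.ne_zero
    have h4 : ((ν : F) ^ 4 - 1) * ((t j : F) * t i) = 0 := by
      field_simp at h3
      rw [h3]
      ring
    rw [hji, mul_one, sub_eq_zero] at h4
    exact hν4 (Units.ext (by rw [Units.val_pow_eq_pow_val, h4]; rfl))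
  exact mono_of_signs h2 g hdiag

/-- over the field of five elements the signs are squares in the torus -/
theorem exists_sqrt_sign (h5 : Fintype.card F = 5) (d : Fin 3 → Fˣ) (hd : ∏ k, (d k : F) = 1)
    (hd2 : ∀ k, (d k : F) ^ 2 = 1) : ∃ a : Fin 3 → Fˣ, ∏ k, (a k : F) = 1 ∧ ∀ k, a k * a k = d k := by
  classical
  obtain ⟨w, hw⟩ := IsCyclic.exists_generator (α := Fˣ)
  have ho : orderOf w = 4 := by
    rw [orderOf_eq_card_of_forall_mem_zpowers hw, Nat.card_eq_fintype_card, Fintype.card_units, h5]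
  have hww : (w : F) * w = -1 := by
    have h4 : (w : F) ^ 4 = 1 := by rw [← Units.val_pow_eq_pow_val, ← ho, pow_orderOf_eq_one, Units.val_one]
    refine eq_neg_of_add_eq_zero_left ((mul_eq_zero.1 (show ((w : F) * w - 1) * ((w : F) * w + 1) = 0 by
      linear_combination h4)).resolve_left fun e => ?_)
    have := Nat.le_of_dvd two_pos (orderOf_dvd_of_pow_eq_one (show w ^ 2 = 1 from Units.ext (by
      rw [Units.val_pow_eq_pow_val, pow_two, sub_eq_zero.1 e]; rfl)))
    omega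
  have hs : ∀ k, (d k : F) = 1 ∨ (d k : F) = -1 := fun k => by
    rcases mul_eq_zero.1 (show ((d k : F) - 1) * ((d k : F) + 1) = 0 by linear_combination hd2 k) with e | e
    · exact Or.inl (sub_eq_zero.1 e)
    · exact Or.inr (eq_neg_of_add_eq_zero_left e)
  let r : Fin 3 → Fˣ := fun k => if (d k : F) = 1 then 1 else w
  have hr : ∀ k, r k * r k = d k := fun k => Units.ext (by
    by_cases h : (d k : F) = 1
    · simp only [r, if_pos h, Units.val_mul, Units.val_one, mul_one, h]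
    · simp only [r, if_neg h, Units.val_mul, hww, (hs k).resolve_left h])
  have hprod : (∏ k, r k) * ∏ k, r k = 1 := by
    rw [← Finset.prod_mul_distrib]
    refine Units.ext ?_
    rw [Units.coe_prod, Units.val_one, ← hd]
    exact Finset.prod_congr rfl fun k _ => by rw [hr]
  obtain ⟨c, hc⟩ : ∃ c, c = ∏ k, r k := ⟨_, rfl⟩
  rw [← hc] at hprod
  refine ⟨fun k => if k = 0 then c * r k else r k, ?_, fun k => ?_⟩
  · rw [← Units.coe_prod, Units.val_eq_one, Fin.prod_univ_three, if_pos rfl, if_neg (by decide), if_neg (by decide),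
      mul_assoc c, mul_assoc c, ← Fin.prod_univ_three, ← hc, hprod]
  · by_cases hk : k = 0
    · simp only [if_pos hk]; rw [mul_mul_mul_comm, hprod, one_mul, hr]
    · simp only [if_neg hk, hr]

/-- the order of the monomial part -/
theorem card_monoSub (hN : ∀ (σ : Equiv.Perm (Fin 3)) (d : Fin 3 → Fˣ),
    (mon σ d : GL (Fin 3) F) ∈ specialLinear (Fin 3) F → mon σ d ∈ M) (hM : M ≤ specialLinear (Fin 3) F) :
    Nat.card ((monoSub F).subgroupOf M) = 6 * ((Fintype.card F - 1) * (Fintype.card F - 1)) := by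
  classical
  let sg : Equiv.Perm (Fin 3) → Fˣ := fun σ => if Equiv.Perm.sign σ = 1 then 1 else -1
  have hsg : ∀ σ, ((sg σ : Fˣ) : F) = ((Equiv.Perm.sign σ : ℤ) : F) := fun σ => by
    rcases Int.units_eq_one_or (Equiv.Perm.sign σ) with h | h <;> simp [sg, h]
  let dd : Equiv.Perm (Fin 3) × Fˣ × Fˣ → Fin 3 → Fˣ := fun q => ![q.2.1, q.2.2, sg q.1 * (q.2.1 * q.2.2)⁻¹]
  have hmem : ∀ q, (mon q.1 (dd q) : GL (Fin 3) F) ∈ M := fun q => hN _ _ (mon_mem_SL (by
    simp only [dd, Fin.prod_univ_three, Matrix.cons_val_zero, Matrix.cons_val_one, Matrix.cons_val, Units.val_mul,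
      Units.val_inv_eq_inv_val]
    rw [← hsg]
    have h1 : ((sg q.1 : Fˣ) : F) * sg q.1 = 1 := by
      rcases Int.units_eq_one_or (Equiv.Perm.sign q.1) with h | h <;> simp [sg, h]
    have := q.2.1.ne_zero; have := q.2.2.ne_zero
    field_simp
    linear_combination h1))
  let f : Equiv.Perm (Fin 3) × Fˣ × Fˣ → (monoSub F).subgroupOf M := fun q => ⟨⟨_, hmem q⟩, ⟨_, _, rfl⟩⟩
  have hf : Function.Bijective f := by
    refine ⟨fun q q' h => ?_, ?_⟩
    · have h' : (mon q.1 (dd q) : GL (Fin 3) F) = mon q'.1 (dd q') :=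
        congrArg (fun z : (monoSub F).subgroupOf M => ((z : M) : GL (Fin 3) F)) h
      have e1 := mon_perm_inj h'
      rw [e1] at h'
      have e2 := mon_d_inj h'
      exact Prod.ext e1 (Prod.ext (congrFun e2 0) (congrFun e2 1))
    · rintro ⟨⟨g, hg⟩, σ, d, hgd⟩
      obtain rfl : g = mon σ d := hgd
      refine ⟨(σ, d 0, d 1), Subtype.ext (Subtype.ext ?_)⟩
      show (mon σ (dd (σ, d 0, d 1)) : GL (Fin 3) F) = mon σ d
      congr 1
      funext k
      fin_cases k
      · rfl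
      · rfl
      · have hd := det_one_of_mem hM hg
        rw [det_mon, Fin.prod_univ_three, ← hsg] at hd
        refine Units.ext ?_
        show ((sg σ * (d 0 * d 1)⁻¹ : Fˣ) : F) = d 2
        have h1 : ((sg σ : Fˣ) : F) * sg σ = 1 := by
          rcases Int.units_eq_one_or (Equiv.Perm.sign σ) with h | h <;> simp [sg, h]
        have h0 := (d 0).ne_zero; have h1' := (d 1).ne_zero
        rw [Units.val_mul, Units.val_inv_eq_inv_val, Units.val_mul]
        field_simp
        linear_combination (-(sg σ : F)) * hd + (d 0 : F) * d 1 * d 2 * h1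
  rw [← Nat.card_eq_of_bijective f hf, Nat.card_prod, Nat.card_prod, Nat.card_perm, Nat.card_fin,
    Nat.card_eq_fintype_card, Fintype.card_units]
  rfl

omit [Fintype F] in
/-- four-groups moved cyclically cannot map injectively into a group of order dividing six -/
theorem perm_image_trivial {G Q : Type*} [Group G] [Group Q] [Finite Q] (hQ : Nat.card Q ∣ 6) (φ : G →* Q) {a b y : G}
    (ha : a * a = 1) (hb : b * b = 1) (hab : a * b = b * a) (h1 : y * a * y⁻¹ = b) (h2 : y * b * y⁻¹ = a * b) :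
    φ a = 1 ∧ φ b = 1 := by
  classical
  have hφb : φ b = φ y * φ a * (φ y)⁻¹ := by rw [← h1, map_mul, map_mul, map_inv]
  by_cases hA : φ a = 1
  · exact ⟨hA, by rw [hφb, hA, mul_one, mul_inv_cancel]⟩
  exfalso
  have hB : φ b ≠ 1 := fun e => hA (by
    rw [hφb] at e
    exact conj_eq_one_iff.1 e)
  have hne : φ a ≠ φ b := fun e => by
    have h := congrArg φ h2
    rw [map_mul, map_mul, map_inv, map_mul, ← e] at h
    rw [← hφb, ← e, ← map_mul, ha, map_one] at h
    exact hA h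
  have hc : φ a * φ a = 1 := by rw [← map_mul, ha, map_one]
  have hd : φ b * φ b = 1 := by rw [← map_mul, hb, map_one]
  have hcd : φ a * φ b = φ b * φ a := by rw [← map_mul, hab, map_mul]
  let K : Subgroup Q :=
    { carrier := {x | x = 1 ∨ x = φ a ∨ x = φ b ∨ x = φ a * φ b}
      one_mem' := Or.inl rfl
      mul_mem' := by
        have e1 : φ a * (φ a * φ b) = φ b := by rw [← mul_assoc, hc, one_mul]
        have e2 : φ b * (φ a * φ b) = φ a := by rw [hcd, ← mul_assoc, hd, one_mul]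
        have e3 : φ a * φ b * φ a = φ b := by rw [hcd, mul_assoc, hc, mul_one]
        have e4 : φ a * φ b * φ b = φ a := by rw [mul_assoc, hd, mul_one]
        have e5 : φ a * φ b * (φ a * φ b) = 1 := by rw [mul_assoc, e2, hc]
        rintro x x' (rfl | rfl | rfl | rfl) (rfl | rfl | rfl | rfl) <;>
          simp [hc, hd, ← hcd, e1, e2, e3, e4, e5]
      inv_mem' := by
        rintro x (rfl | rfl | rfl | rfl)
        · exact Or.inl inv_one
        · exact Or.inr (Or.inl (inv_eq_of_mul_eq_one_right hc))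
        · exact Or.inr (Or.inr (Or.inl (inv_eq_of_mul_eq_one_right hd)))
        · refine Or.inr (Or.inr (Or.inr ?_))
          rw [_root_.mul_inv_rev, inv_eq_of_mul_eq_one_right hc, inv_eq_of_mul_eq_one_right hd, hcd] }
  have hK : Nat.card K = 4 := by
    have hset : ((K : Set Q)) = ↑({1, φ a, φ b, φ a * φ b} : Finset Q) := by ext x; simp [K]
    rw [show Nat.card K = (K : Set Q).ncard from Nat.card_coe_set_eq _, hset, Set.ncard_coe_finset]
    have n1 : φ a * φ b ≠ 1 := fun e => hne (by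
      rw [← inv_eq_of_mul_eq_one_right hd, ← eq_inv_iff_mul_eq_one.2 e])
    have n2 : φ a * φ b ≠ φ a := fun e => hB (mul_eq_left.1 e)
    have n3 : φ a * φ b ≠ φ b := fun e => hA (mul_eq_right.1 e)
    rw [Finset.card_insert_of_notMem (by simp [hA, hB, Ne.symm hA, Ne.symm hB, n1.symm]),
      Finset.card_insert_of_notMem (by simp [hne, n2.symm]), Finset.card_insert_of_notMem (by simp [n3.symm]),
      Finset.card_singleton]
  have := (Subgroup.card_subgroup_dvd_card K).trans hQ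
  rw [hK] at this
  omega

/-- a group in which the monomial part has index at most four is monomial -/
theorem mono_of_index_le_four (h2 : (2 : F) ≠ 0) {ν : Fˣ} (hν4 : ν ^ 4 ≠ 1)
    (hN : ∀ (σ : Equiv.Perm (Fin 3)) (d : Fin 3 → Fˣ), (mon σ d : GL (Fin 3) F) ∈ specialLinear (Fin 3) F → mon σ d ∈ M)
    (hidx : ((monoSub F).subgroupOf M).index ≤ 4) : ∀ g ∈ M, Mono g := by
  classical
  intro g hg
  obtain ⟨H, hH⟩ : ∃ H : Subgroup M, H = (monoSub F).subgroupOf M := ⟨_, rfl⟩
  rw [← hH] at hidx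
  have hHmem : ∀ x : M, x ∈ H ↔ Mono (x : GL (Fin 3) F) := fun x => by rw [hH]; rfl
  -- the four group is in the core
  have hcore : ∀ d : Fin 3 → Fˣ, ∏ k, (d k : F) = 1 → (∀ k, (d k : F) ^ 2 = 1) →
      ∀ h : M, ∀ x : M, (x : GL (Fin 3) F) = mon 1 d → h * x * h⁻¹ ∈ H := by
    obtain ⟨D, hD, hD2, hD0, hDn⟩ := exists_sign (F := F) 0
    let π : Equiv.Perm (Fin 3) := Equiv.swap 0 1 * Equiv.swap 1 2
    have hπ : π 0 = 1 ∧ π 1 = 2 ∧ π 2 = 0 ∧ Equiv.Perm.sign π = 1 ∧ π.symm 0 = 2 ∧ π.symm 1 = 0 ∧ π.symm 2 = 1 := by decide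
    let y : M := ⟨mon π fun _ => 1, hN _ _ (mon_mem_SL (by rw [hπ.2.2.2.1]; simp))⟩
    let A : M := ⟨mon 1 D, hN _ _ (mon_mem_SL (by simpa using hD))⟩
    have hyH : y ∈ H := (hHmem y).2 ⟨_, _, rfl⟩
    have hAH : A ∈ H := (hHmem A).2 ⟨_, _, rfl⟩
    obtain ⟨B, hB⟩ : ∃ B, B = y * A * y⁻¹ := ⟨_, rfl⟩
    have hBH : B ∈ H := hB ▸ H.mul_mem (H.mul_mem hyH hAH) (H.inv_mem hyH)
    have hBv : (B : GL (Fin 3) F) = mon 1 fun k => D (π.symm k) := by
      rw [hB]
      show (mon π fun _ => 1 : GL (Fin 3) F) * mon 1 D * (mon π fun _ => 1 : GL (Fin 3) F)⁻¹ = _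
      rw [mon_inv, mon_mul, mon_mul, mul_one, mul_inv_cancel]
      congr 1
      funext k
      simp
    have hv0 : D 0 = 1 := hD0
    have hv1 : D 1 = -1 := hDn 1 (by decide)
    have hv2 : D 2 = -1 := hDn 2 (by decide)
    have hAA : A * A = 1 := Subtype.ext (by
      show (mon 1 D : GL (Fin 3) F) * mon 1 D = 1
      rw [mon_mul, mul_one, ← mon_one]
      congr 1; funext k; fin_cases k <;> simp [hv0, hv1, hv2])
    have hBB : B * B = 1 := by rw [hB, show y * A * y⁻¹ * (y * A * y⁻¹) = y * (A * A) * y⁻¹ by group, hAA]; group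
    have hAB : A * B = B * A := Subtype.ext (by
      show (mon 1 D : GL (Fin 3) F) * (B : GL (Fin 3) F) = (B : GL (Fin 3) F) * mon 1 D
      rw [hBv, mon_mul, mon_mul]; congr 1; funext k; exact mul_comm _ _)
    have h2' : y * B * y⁻¹ = A * B := Subtype.ext (by
      show (mon π fun _ => 1 : GL (Fin 3) F) * (B : GL (Fin 3) F) * (mon π fun _ => 1 : GL (Fin 3) F)⁻¹ =
        (mon 1 D : GL (Fin 3) F) * (B : GL (Fin 3) F)
      rw [hBv, mon_inv, mon_mul, mon_mul, mon_mul, mul_one, mul_one, mul_inv_cancel]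
      congr 1
      funext k
      fin_cases k <;> simp [Equiv.Perm.inv_def, hπ.2.2.2.2.1, hπ.2.2.2.2.2.1, hπ.2.2.2.2.2.2, hv0, hv1, hv2])
    haveI : Fintype (M ⧸ H) := Fintype.ofFinite _
    let c₀ : M ⧸ H := ((1 : M) : M ⧸ H)
    have hfix : ∀ x : H, (x : M) • c₀ = c₀ := by
      intro x
      show ((((x : M) * 1 : M)) : M ⧸ H) = ((1 : M) : M ⧸ H)
      rw [QuotientGroup.eq]
      simp
    let act : H →* Equiv.Perm {c : M ⧸ H // c ≠ c₀} :=
      { toFun := fun x => (MulAction.toPermHom M (M ⧸ H) (x : M)).subtypePerm fun c => not_congr (by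
          show (x : M) • c = c₀ ↔ c = c₀
          conv_lhs => rw [← hfix x]
          exact smul_left_cancel_iff _)
        map_one' := by ext c; simp
        map_mul' := fun x x' => by
          refine Equiv.ext fun c => Subtype.ext ?_
          show ((x : M) * (x' : M)) • (c : M ⧸ H) = (x : M) • (x' : M) • (c : M ⧸ H)
          exact mul_smul _ _ _ }
    have hcard : Nat.card (Equiv.Perm {c : M ⧸ H // c ≠ c₀}) ∣ 6 := by
      rw [Nat.card_perm, Nat.card_eq_fintype_card, Fintype.card_subtype_compl, Fintype.card_subtype_eq,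
        ← Nat.card_eq_fintype_card, ← Subgroup.index_eq_card]
      exact (Nat.factorial_dvd_factorial (show H.index - 1 ≤ 3 by omega))
    obtain ⟨e1, e2⟩ := perm_image_trivial hcard act (a := ⟨A, hAH⟩) (b := ⟨B, hBH⟩) (y := ⟨y, hyH⟩)
      (Subtype.ext hAA) (Subtype.ext hBB) (Subtype.ext hAB) (Subtype.ext hB.symm) (Subtype.ext h2')
    have hconj : ∀ (z : H), act z = 1 → ∀ h : M, h * (z : M) * h⁻¹ ∈ H := by
      intro z hz h
      by_cases hc : ((h⁻¹ : M) : M ⧸ H) = c₀
      · have hh : h⁻¹ ∈ H := by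
          rw [QuotientGroup.eq] at hc; simpa using hc
        have hh' : h ∈ H := by simpa using H.inv_mem hh
        exact H.mul_mem (H.mul_mem hh' z.2) hh
      · have := congrArg (fun p : Equiv.Perm {c : M ⧸ H // c ≠ c₀} => (p ⟨_, hc⟩).1) hz
        have e : (((z : M) * h⁻¹ : M) : M ⧸ H) = ((h⁻¹ : M) : M ⧸ H) := this
        rw [eq_comm, QuotientGroup.eq, inv_inv, ← mul_assoc] at e
        exact e
    intro d hd hd2 h x hx
    have hs : ∀ k, d k = 1 ∨ d k = -1 := fun k => by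
      rcases mul_eq_zero.1 (show ((d k : F) - 1) * ((d k : F) + 1) = 0 by linear_combination hd2 k) with e | e
      · exact Or.inl (Units.ext (sub_eq_zero.1 e))
      · exact Or.inr (Units.ext (by rw [eq_neg_of_add_eq_zero_left e]; simp))
    rw [Fin.prod_univ_three] at hd
    have key : x = 1 ∨ x = A ∨ x = B ∨ x = A * B := by
      simp only [Subtype.ext_iff, Subgroup.coe_mul, Subgroup.coe_one, hx, hBv, show (A : GL (Fin 3) F) = mon 1 D from rfl,
        mon_mul, mul_one, ← mon_one]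
      rcases hs 0 with a0 | a0 <;> rcases hs 1 with a1 | a1 <;> rcases hs 2 with a2 | a2 <;>
        simp [a0, a1, a2] at hd <;>
        first
          | exact absurd (show (2 : F) = 0 by linear_combination hd) h2
          | exact absurd (show (2 : F) = 0 by linear_combination -hd) h2
          | (refine Or.inl ?_; congr 1; funext k; fin_cases k <;> simp [a0, a1, a2]; done)
          | (refine Or.inr (Or.inl ?_); congr 1; funext k; fin_cases k <;> simp [a0, a1, a2, hv0, hv1, hv2]; done)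
          | (refine Or.inr (Or.inr (Or.inl ?_)); congr 1; funext k
             fin_cases k <;> simp [a0, a1, a2, hπ.2.2.2.2.1, hπ.2.2.2.2.2.1, hπ.2.2.2.2.2.2, hv0, hv1, hv2]; done)
          | (refine Or.inr (Or.inr (Or.inr ?_)); congr 1; funext k
             fin_cases k <;> simp [a0, a1, a2, hπ.2.2.2.2.1, hπ.2.2.2.2.2.1, hπ.2.2.2.2.2.2, hv0, hv1, hv2]; done)
    have cA := hconj ⟨A, hAH⟩ e1 h
    have cB := hconj ⟨B, hBH⟩ e2 h
    rcases key with rfl | rfl | rfl | rfl
    · simp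
    · exact cA
    · exact cB
    · rw [show h * (A * B) * h⁻¹ = (h * A * h⁻¹) * (h * B * h⁻¹) by group]
      exact H.mul_mem cA cB
  refine sign_diag h2 hν4 g (fun d hd hd2 => ?_) fun d a hd hd2 ha z hz => ?_
  · exact (hHmem _).1 (hcore d hd hd2 ⟨g, hg⟩ ⟨mon 1 d, hN _ _ (mon_mem_SL (by simpa using hd))⟩ rfl)
  · let X : M := ⟨mon 1 d, hN _ _ (mon_mem_SL (by simpa using hd))⟩
    let A : M := ⟨mon 1 a, hN _ _ (mon_mem_SL (by simpa using ha))⟩
    let G : M := ⟨g, hg⟩
    have hzM : z = ((A * (G * X * G⁻¹) * A⁻¹ * (G * X * G⁻¹)⁻¹ : M) : GL (Fin 3) F) := hz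
    obtain ⟨W, hW⟩ : ∃ W : M, W = G⁻¹ * ((A * (G * X * G⁻¹) * A⁻¹ * (G * X * G⁻¹)⁻¹) * (G * X * G⁻¹) *
        (A * (G * X * G⁻¹) * A⁻¹ * (G * X * G⁻¹)⁻¹)⁻¹) * G := ⟨_, rfl⟩
    -- the conjugate of the four group is normalised by the core
    suffices hcomm : W * X = X * W by
      have := congrArg (fun x : M => (x : GL (Fin 3) F)) hcomm
      rw [hW] at this
      simpa [hzM, X, G] using this
    obtain ⟨V, hV⟩ : ∃ V : M, V = G⁻¹ * (A * (G * X * G⁻¹) * A⁻¹ * (G * X * G⁻¹)⁻¹) * G := ⟨_, rfl⟩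
    have hWV : W = V * X * V⁻¹ := by rw [hW, hV]; group
    have hVmono : Mono (V : GL (Fin 3) F) := by
      refine (hHmem V).1 ?_
      rw [hV, show G⁻¹ * (A * (G * X * G⁻¹) * A⁻¹ * (G * X * G⁻¹)⁻¹) * G =
        ((G⁻¹ * A * G) * X * (G⁻¹ * A * G)⁻¹) * X⁻¹ by group]
      exact H.mul_mem (hcore d hd hd2 _ X rfl) (H.inv_mem ((hHmem X).2 ⟨_, _, rfl⟩))
    obtain ⟨τ, t, hVt⟩ := hVmono
    refine Subtype.ext ?_
    rw [hWV]
    show (V : GL (Fin 3) F) * mon 1 d * (V : GL (Fin 3) F)⁻¹ * mon 1 d = mon 1 d * ((V : GL (Fin 3) F) * mon 1 d * (V : GL (Fin 3) F)⁻¹)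
    rw [hVt, mon_inv, mon_mul, mon_mul, mul_one, mul_inv_cancel, mon_mul, mon_mul]
    congr 1
    funext k
    exact mul_comm _ _

/-- the small fields -/
theorem mono_of_small (hq : Fintype.card F = 5 ∨ Fintype.card F = 7) {p : ℕ} (hp : p.Prime) [CharP F p]
    (hN : ∀ (σ : Equiv.Perm (Fin 3)) (d : Fin 3 → Fˣ), (mon σ d : GL (Fin 3) F) ∈ specialLinear (Fin 3) F → mon σ d ∈ M)
    (hM : M ≤ specialLinear (Fin 3) F) (hcop : ¬ p ∣ Nat.card M) : ∀ g ∈ M, Mono g := by
  classical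
  haveI : Fact p.Prime := ⟨hp⟩
  have hpq : Fintype.card F = p := by
    obtain ⟨f, -, hf⟩ := FiniteField.card F p
    rcases hq with h | h <;> rw [h] at hf ⊢
    · exact ((Nat.Prime.pow_eq_iff (by norm_num : Nat.Prime 5)).1 hf.symm).1.symm
    · exact ((Nat.Prime.pow_eq_iff (by norm_num : Nat.Prime 7)).1 hf.symm).1.symm
  have h2 : (2 : F) ≠ 0 := fun e => by
    have h' : ((2 : ℕ) : F) = 0 := by exact_mod_cast e
    rw [CharP.cast_eq_zero_iff F p] at h'
    have := Nat.le_of_dvd (by norm_num) h'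
    omega
  obtain ⟨Nm, hNm⟩ : ∃ Nm : Subgroup M, Nm = (monoSub F).subgroupOf M := ⟨_, rfl⟩
  have hNcard : Nat.card Nm = 6 * ((Fintype.card F - 1) * (Fintype.card F - 1)) := hNm ▸ card_monoSub hN hM
  have hMdvd : Nat.card M ∣ (∏ i : Fin 3, (Fintype.card F ^ 3 - Fintype.card F ^ (i : ℕ))) / (Fintype.card F - 1) := by
    refine (Subgroup.card_dvd_of_le hM).trans (dvd_of_eq ?_)
    have h1 := (specialLinear (Fin 3) F).card_mul_index
    rw [← Matrix.card_GL_field]
    have hsur : Function.Surjective (Matrix.GeneralLinearGroup.det (n := Fin 3) (R := F)) := by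
      intro u
      refine ⟨mon 1 ![u, 1, 1], Units.ext ?_⟩
      rw [Matrix.GeneralLinearGroup.val_det_apply, det_mon, Fin.prod_univ_three]
      simp
    have hidx : (specialLinear (Fin 3) F).index = Fintype.card F - 1 := by
      show (Matrix.GeneralLinearGroup.det (n := Fin 3) (R := F)).ker.index = _
      rw [Subgroup.index_ker, MonoidHom.range_eq_top.2 hsur, Subgroup.card_top, Nat.card_eq_fintype_card,
        Fintype.card_units]
    rw [← h1, hidx, Nat.mul_div_cancel]
    have := Fintype.one_lt_card (α := F)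
    omega
  rw [Fin.prod_univ_three] at hMdvd
  obtain ⟨ν, hν4, hν3⟩ : ∃ ν : Fˣ, (Fintype.card F = 7 → ν ^ 4 ≠ 1) ∧ ν ^ 3 ≠ 1 := by
    obtain ⟨ν, hν⟩ := IsCyclic.exists_generator (α := Fˣ)
    have ho : orderOf ν = Fintype.card F - 1 := by
      rw [orderOf_eq_card_of_forall_mem_zpowers hν, Nat.card_eq_fintype_card, Fintype.card_units]
    refine ⟨ν, fun h e => ?_, fun e => ?_⟩
    · have := Nat.le_of_dvd (by norm_num) (orderOf_dvd_of_pow_eq_one e); omega
    · have := Nat.le_of_dvd (by norm_num) (orderOf_dvd_of_pow_eq_one e); omega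
  have hcop' : (Nat.card M).Coprime p := ((hp.coprime_iff_not_dvd).2 hcop).symm
  obtain ⟨idx, hidx⟩ : ∃ idx, idx = Nm.index := ⟨_, rfl⟩
  have hmul : Nat.card M = Nat.card Nm * idx := by rw [hidx, Nm.card_mul_index]
  have hsmall : ∀ K : Subgroup M, Nm ≤ K → Nat.card K ≠ 0 → (Fintype.card F = 5 → Nat.card K = Nat.card Nm) →
      (Fintype.card F = 7 → Nat.card K ≤ 4 * Nat.card Nm) → ∀ g : M, g ∈ K → Mono (g : GL (Fin 3) F) := by
    intro K hle hK0 h5 h7 g hg
    rcases hq with h | h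
    · have := Subgroup.eq_of_le_of_card_ge hle (le_of_eq (h5 h))
      rw [← this, hNm] at hg
      exact hg
    · have hN' : ∀ (σ : Equiv.Perm (Fin 3)) (d : Fin 3 → Fˣ), (mon σ d : GL (Fin 3) F) ∈ specialLinear (Fin 3) F →
          mon σ d ∈ K.map M.subtype := fun σ d h => ⟨⟨_, hN σ d h⟩, hle (hNm ▸ ⟨_, _, rfl⟩), rfl⟩
      refine mono_of_index_le_four h2 (hν4 h) hN' ?_ _ ⟨g, hg, rfl⟩
      have hM' : K.map M.subtype ≤ specialLinear (Fin 3) F := le_trans (Subgroup.map_subtype_le K) hM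
      have hc := ((monoSub F).subgroupOf (K.map M.subtype)).card_mul_index
      rw [card_monoSub hN' hM', Subgroup.card_map_of_injective M.subtype_injective] at hc
      have h7' := h7 h
      rw [hNcard, ← hc, h] at h7'
      omega
  obtain ⟨r, e₀, hr, hrq⟩ : ∃ r e₀ : ℕ, r.Prime ∧ (Fintype.card F = 5 ∧ r = 31 ∧ e₀ = 9 ∨ Fintype.card F = 7 ∧ r = 19 ∧ e₀ = 6) := by
    rcases hq with h | h
    · exact ⟨31, 9, by norm_num, Or.inl ⟨h, rfl, rfl⟩⟩
    · exact ⟨19, 6, by norm_num, Or.inr ⟨h, rfl, rfl⟩⟩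
  haveI : Fact r.Prime := ⟨hr⟩
  have hidx' : idx ∣ (if Fintype.card F = 5 then 31 else 76) := by
    rcases hq with h | h
    · rw [h] at hMdvd hNcard hpq
      rw [hmul, hNcard] at hMdvd
      rw [if_pos h]
      have hd : 6 * ((5 - 1) * (5 - 1)) * idx ∣ 2976 := by
        refine (Nat.Coprime.dvd_of_dvd_mul_right (m := 2976) (n := 125) ?_ (hMdvd.trans (dvd_of_eq (show _ = 2976 * 125 by norm_num))))
        rw [← hNcard, ← hmul, show 125 = 5 ^ 3 by norm_num, hpq]
        exact hcop'.pow_right 3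
      exact (Nat.mul_dvd_mul_iff_left (by norm_num : 0 < 96)).1 (hd.trans (dvd_of_eq (by norm_num)))
    · rw [h] at hMdvd hNcard hpq
      rw [hmul, hNcard] at hMdvd
      rw [if_neg (by omega)]
      have hd : 6 * ((7 - 1) * (7 - 1)) * idx ∣ 16416 := by
        refine (Nat.Coprime.dvd_of_dvd_mul_right (m := 16416) (n := 343) ?_ (hMdvd.trans (dvd_of_eq (show _ = 16416 * 343 by norm_num))))
        rw [← hNcard, ← hmul, show 343 = 7 ^ 3 by norm_num, hpq]
        exact hcop'.pow_right 3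
      exact (Nat.mul_dvd_mul_iff_left (by norm_num : 0 < 216)).1 (hd.trans (dvd_of_eq (by norm_num)))
  have hidx0 : idx ≠ 0 := hidx ▸ Subgroup.index_ne_zero_of_finite
  by_cases hrM : r ∣ Nat.card M
  swap
  · intro g hg
    refine hsmall ⊤ le_top (by rw [Subgroup.card_top]; exact Nat.card_pos.ne') (fun h => ?_) (fun h => ?_) ⟨g, hg⟩ (Subgroup.mem_top _)
    · rw [Subgroup.card_top, hmul]
      rw [if_pos h] at hidx'
      rcases (Nat.dvd_prime (by norm_num : Nat.Prime 31)).1 hidx' with e | e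
      · rw [e, mul_one]
      · exact absurd (show r ∣ Nat.card M from by
          rw [hmul, e, show r = 31 by omega]; exact dvd_mul_left _ _) hrM
    · rw [Subgroup.card_top, hmul, mul_comm]
      rw [if_neg (by omega)] at hidx'
      refine Nat.mul_le_mul_right _ ?_
      have hnd : ¬ 19 ∣ idx := fun e => hrM (by rw [hmul, show r = 19 by omega]; exact dvd_mul_of_dvd_right e _)
      exact Nat.le_of_dvd (by norm_num) ((Nat.Coprime.dvd_of_dvd_mul_right
        (((show Nat.Prime 19 by norm_num).coprime_iff_not_dvd.2 hnd).symm) (show idx ∣ 4 * 19 from hidx')))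
  exfalso
  have hPcard : ∀ P : Sylow r M, Nat.card (P : Subgroup M) = r := by
    intro P
    have h1 := (P : Subgroup M).card_subgroup_dvd_card
    rw [Sylow.card_eq_multiplicity]
    have hfac : (Nat.card M).factorization r = 1 := by
      refine le_antisymm ?_ ((hr.dvd_iff_one_le_factorization Nat.card_pos.ne').1 hrM)
      by_contra hc
      push Not at hc
      have hsq : r ^ 2 ∣ Nat.card M := (hr.pow_dvd_iff_le_factorization Nat.card_pos.ne').2 hc
      rw [hmul, hNcard] at hsq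
      rcases hrq with ⟨h, rfl, -⟩ | ⟨h, rfl, -⟩
      · rw [h] at hsq; rw [if_pos h] at hidx'
        have := hsq.trans (Nat.mul_dvd_mul_left _ hidx')
        norm_num at this
      · rw [h] at hsq; rw [if_neg (by omega)] at hidx'
        have := hsq.trans (Nat.mul_dvd_mul_left _ hidx')
        norm_num at this
    rw [hfac, pow_one]
  let P : Sylow r M := default
  haveI : IsCyclic (P : Subgroup M) := isCyclic_of_prime_card (hPcard P)
  obtain ⟨u, hu⟩ := IsCyclic.exists_generator (α := (P : Subgroup M))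
  have hu1 : (u : M) ≠ 1 := fun e => by
    have h1 : orderOf u = r := by rw [orderOf_eq_card_of_forall_mem_zpowers hu, hPcard]
    rw [show u = 1 from Subtype.ext e, orderOf_one] at h1
    exact hr.one_lt.ne h1
  have hur : (u : M) ^ r = 1 := by
    rw [← Subgroup.coe_pow, show u ^ r = 1 from orderOf_dvd_iff_pow_eq_one.1 (dvd_of_eq ((orderOf_eq_card_of_forall_mem_zpowers hu).trans (hPcard P))), Subgroup.coe_one]
  have hgen : ∀ x ∈ (P : Subgroup M), ∃ k : ℕ, x = (u : M) ^ k := fun x hx => by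
    obtain ⟨k, hk⟩ := mem_powers_iff_mem_zpowers.2 (hu ⟨x, hx⟩)
    exact ⟨k, by rw [← Subgroup.coe_pow]; exact (congrArg Subtype.val hk).symm⟩
  have hrF : r.Coprime (Fintype.card F - 1) := by rcases hrq with ⟨h, rfl, -⟩ | ⟨h, rfl, -⟩ <;> rw [h] <;> norm_num
  -- the Sylow subgroup is not normal
  have hnotnormal : ¬ (P : Subgroup M).Normal := by
    intro hnorm
    obtain ⟨A, hA⟩ : ∃ A : M, (A : GL (Fin 3) F) = mon 1 (dg ν 1) :=
      ⟨⟨_, hN _ _ (mon_mem_SL (by simp [dg_prod]))⟩, rfl⟩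
    let π : Equiv.Perm (Fin 3) := Equiv.swap 0 1 * Equiv.swap 1 2
    have hπ : π 0 = 1 ∧ π 1 = 2 ∧ π 2 = 0 ∧ Equiv.Perm.sign π = 1 := by decide
    obtain ⟨Y, hY⟩ : ∃ Y : M, (Y : GL (Fin 3) F) = mon π fun _ => 1 :=
      ⟨⟨_, hN _ _ (mon_mem_SL (by rw [hπ.2.2.2]; simp))⟩, rfl⟩
    have hexp : ∀ x : M, ∃ k : ℕ, x * (u : M) * x⁻¹ = (u : M) ^ k := fun x => hgen _ (hnorm.conj_mem _ u.2 x)
    have hcommall : ∀ x x' : M, (x⁻¹ * x'⁻¹ * x * x') * (u : M) = (u : M) * (x⁻¹ * x'⁻¹ * x * x') := by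
      intro x x'
      obtain ⟨k, hk⟩ := hexp x
      obtain ⟨k', hk'⟩ := hexp x'
      have e : x * x' * (u : M) * (x * x')⁻¹ = x' * x * (u : M) * (x' * x)⁻¹ := by
        rw [show x * x' * (u : M) * (x * x')⁻¹ = x * (x' * (u : M) * x'⁻¹) * x⁻¹ by group,
          show x' * x * (u : M) * (x' * x)⁻¹ = x' * (x * (u : M) * x⁻¹) * x'⁻¹ by group, hk, hk', ← conj_pow,
          ← conj_pow, hk, hk', ← pow_mul, ← pow_mul, mul_comm]
      calc (x⁻¹ * x'⁻¹ * x * x') * (u : M) = x⁻¹ * x'⁻¹ * (x * x' * (u : M) * (x * x')⁻¹) * (x * x') := by group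
        _ = x⁻¹ * x'⁻¹ * (x' * x * (u : M) * (x' * x)⁻¹) * (x * x') := by rw [e]
        _ = (u : M) * (x⁻¹ * x'⁻¹ * x * x') := by group
    obtain ⟨w, hw⟩ : ∃ w : Fin 3 → Fˣ, w = fun k => (dg ν 1 k)⁻¹ * dg ν 1 (π k) := ⟨_, rfl⟩
    have hz : ((A⁻¹ * Y⁻¹ * A * Y : M) : GL (Fin 3) F) = mon 1 w := by
      rw [Subgroup.coe_mul, Subgroup.coe_mul, Subgroup.coe_mul, Subgroup.coe_inv, Subgroup.coe_inv, hA, hY, hw,
        mul_assoc, mul_assoc, ← mul_assoc (mon π fun _ => 1 : GL (Fin 3) F)⁻¹, mon_inv π, mon_mul, mon_mul, mon_inv,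
        mon_mul, mul_one, inv_mul_cancel, inv_one, mul_one]
      congr 1
      funext k
      simp
    have hdiagu : ∀ i j, i ≠ j → ((u : M) : GL (Fin 3) F).1 i j = 0 := by
      intro i j hij
      by_contra h0
      have key : ∀ v : Fin 3 → Fˣ, (∀ hv : (mon 1 v : GL (Fin 3) F) ∈ M, (⟨_, hv⟩ : M) * (u : M) = (u : M) * ⟨_, hv⟩) →
          (mon 1 v : GL (Fin 3) F) ∈ M → v i = v j := by
        intro v hv hvM
        have h := congrArg (fun x : M => ((x : GL (Fin 3) F) : Matrix (Fin 3) (Fin 3) F) i j) (hv hvM)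
        simp only [Subgroup.coe_mul, Units.val_mul, mon_one_coe, Matrix.mul_diagonal, Matrix.diagonal_mul] at h
        exact Units.ext (mul_right_cancel₀ h0 (h.trans (mul_comm _ _)))
      have h1 := key w (fun hv => by
        rw [show (⟨_, hv⟩ : M) = A⁻¹ * Y⁻¹ * A * Y from Subtype.ext hz.symm]; exact hcommall A Y) (hz ▸ (A⁻¹ * Y⁻¹ * A * Y).2)
      have hYw : ((Y⁻¹ * (A⁻¹ * Y⁻¹ * A * Y) * Y : M) : GL (Fin 3) F) = mon 1 fun k => w (π k) := by
        rw [Subgroup.coe_mul, Subgroup.coe_mul, Subgroup.coe_inv, hY, hz, mon_inv, mon_mul, mon_mul, mul_one,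
          inv_mul_cancel]
        congr 1
        funext k
        simp
      have hcY : (Y⁻¹ * (A⁻¹ * Y⁻¹ * A * Y) * Y) * (u : M) = (u : M) * (Y⁻¹ * (A⁻¹ * Y⁻¹ * A * Y) * Y) := by
        rw [show Y⁻¹ * (A⁻¹ * Y⁻¹ * A * Y) * Y = (Y⁻¹ * A * Y)⁻¹ * Y⁻¹ * (Y⁻¹ * A * Y) * Y by group]
        exact hcommall _ _
      have h2 := key (fun k => w (π k)) (fun hv => by
        rw [show (⟨_, hv⟩ : M) = Y⁻¹ * (A⁻¹ * Y⁻¹ * A * Y) * Y from Subtype.ext hYw.symm]; exact hcY)
        (hYw ▸ (Y⁻¹ * (A⁻¹ * Y⁻¹ * A * Y) * Y).2)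
      have w0 : w 0 = ν⁻¹ := by simp [hw, hπ.1, dg]
      have w1 : w 1 = ν⁻¹ := by simp [hw, hπ.2.1, dg]
      have w2 : w 2 = ν * ν := by simp [hw, hπ.2.2.1, dg]
      have hne : ν⁻¹ ≠ ν * ν := fun e => hν3 (by
        rw [pow_succ, pow_two, ← e, inv_mul_cancel])
      fin_cases i <;> fin_cases j <;> simp [w0, w1, w2, hπ.1, hπ.2.1, hπ.2.2.1, hne, hne.symm] at h1 h2 hij
    refine hu1 (Subtype.ext (Units.ext ?_))
    show ((u : M) : GL (Fin 3) F).1 = ((1 : GL (Fin 3) F) : Matrix (Fin 3) (Fin 3) F)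
    obtain ⟨U, hU⟩ : ∃ U, U = ((u : M) : GL (Fin 3) F).1 := ⟨_, rfl⟩
    have hdia : Matrix.diagonal U.diag = U := (show U.IsDiag from fun i j h => hU ▸ hdiagu i j h).diagonal_diag
    have hUr : U ^ r = 1 := by
      rw [hU, ← Units.val_pow_eq_pow_val, ← Subgroup.coe_pow, hur]; rfl
    rw [← hdia, diagonal_pow] at hUr
    rw [← hU, ← hdia, Units.val_one, ← diagonal_one]
    congr 1
    funext k
    have h := congrFun (congrFun hUr k) k
    rw [diagonal_apply_eq, one_apply_eq, Pi.pow_apply] at h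
    have hne : U.diag k ≠ 0 := fun e => by rw [e, zero_pow hr.ne_zero] at h; exact zero_ne_one h
    have h' : (Units.mk0 _ hne) ^ r = 1 := Units.ext (by rw [Units.val_pow_eq_pow_val]; exact h)
    have hone := Nat.eq_one_of_dvd_coprimes hrF (orderOf_dvd_of_pow_eq_one h')
      (Fintype.card_units F ▸ orderOf_dvd_card)
    exact congrArg Units.val (orderOf_eq_one_iff.1 hone)
  -- the number of Sylow subgroups
  have hn1 : Nat.card (Sylow r M) ≠ 1 := fun h => hnotnormal (by
    haveI : Subsingleton (Sylow r M) := (Nat.card_eq_one_iff_unique.1 h).1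
    exact Sylow.normal_of_subsingleton P)
  have hnidx : Nat.card (Sylow r M) = (Subgroup.normalizer ((P : Subgroup M) : Set M)).index := P.card_eq_index_normalizer
  have hnodd : Nat.card (Subgroup.normalizer ((P : Subgroup M) : Set M)) ∣ (if Fintype.card F = 5 then 93 else 171) := by
    have hdvd : Nat.card (Sylow r M) ∣ (P : Subgroup M).index := P.card_dvd_index
    have hmod : Nat.card (Sylow r M) % r = 1 := by
      rw [card_sylow_modEq_one r M, Nat.mod_eq_of_lt hr.one_lt]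
    have hci := (P : Subgroup M).card_mul_index
    rw [hPcard, hmul, hNcard] at hci
    have hN' := (Subgroup.normalizer ((P : Subgroup M) : Set M)).card_mul_index
    rw [← hnidx, hmul, hNcard] at hN'
    obtain ⟨n, hn⟩ : ∃ n, n = Nat.card (Sylow r M) := ⟨_, rfl⟩
    obtain ⟨c, hc⟩ : ∃ c, c = (P : Subgroup M).index := ⟨_, rfl⟩
    rw [← hn] at hdvd hmod hn1 hN'
    rw [← hc] at hdvd hci
    rcases hrq with ⟨h, rfl, -⟩ | ⟨h, rfl, -⟩
    · rw [if_pos h] at hidx' ⊢
      rw [h] at hci hN'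
      rcases (Nat.dvd_prime (by norm_num : Nat.Prime 31)).1 hidx' with e | e
      · omega
      · rw [e] at hci hN'
        have hc96 : c = 96 := by omega
        rw [hc96] at hdvd
        have : n = 32 := by
          have := Nat.le_of_dvd (by norm_num) hdvd
          interval_cases n <;> omega
        rw [this] at hN'
        exact dvd_of_eq (by omega)
    · rw [if_neg (by omega)] at hidx' ⊢
      rw [h] at hci hN'
      have hidx4 : ∃ j, idx = 19 * j ∧ j ∣ 4 := by
        have h19 : 19 ∣ 216 * idx := ⟨c, by omega⟩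
        obtain ⟨j, hj⟩ := (Nat.Coprime.dvd_of_dvd_mul_left (by norm_num) h19)
        exact ⟨j, hj, (Nat.mul_dvd_mul_iff_left (by norm_num : 0 < 19)).1 (hj ▸ hidx')⟩
      obtain ⟨j, hj, hj4⟩ := hidx4
      have hc' : c = 216 * j := by omega
      have hjle := Nat.le_of_dvd (by norm_num) hj4
      rw [hc'] at hdvd
      have hc4 : n ∣ 864 := hdvd.trans (Nat.mul_dvd_mul_left 216 hj4)
      have : n = 96 := by
        have := Nat.le_of_dvd (by norm_num) hc4
        obtain ⟨a, ha⟩ : ∃ a, n = 19 * a + 1 := ⟨n / 19, by omega⟩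
        subst ha
        have : a ≤ 45 := by omega
        interval_cases a <;> omega
      rw [this, hj] at hN'
      interval_cases j <;> first | omega | exact dvd_of_eq (by omega)
  -- an element acting with order three
  by_cases hcen : Subgroup.normalizer ((P : Subgroup M) : Set M) ≤ Subgroup.centralizer ((P : Subgroup M) : Set M)
  · -- a normal complement
    obtain ⟨K, hK, hKn⟩ : ∃ K : Subgroup M, Subgroup.IsComplement' K (P : Subgroup M) ∧ K.Normal :=
      ⟨_, MonoidHom.ker_transferSylow_isComplement' P hcen, MonoidHom.normal_ker _⟩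
    have hKc : Nat.card K * r = Nat.card M := by rw [← hPcard P]; exact hK.card_mul
    have hNK : Nm ≤ K := by
      intro x hx
      have hox : orderOf x ∣ Nat.card Nm := by
        exact (dvd_of_eq (Subgroup.orderOf_coe (⟨x, hx⟩ : Nm))).trans (orderOf_dvd_natCard _)
      have hq' : orderOf (QuotientGroup.mk' K x) ∣ r := by
        rw [← hPcard P, ← hK.symm.index_eq_card, Subgroup.index_eq_card]; exact orderOf_dvd_natCard _
      have h1 := (orderOf_map_dvd (QuotientGroup.mk' K) x).trans hox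
      have hco : r.Coprime (Nat.card Nm) := by
        rw [hNcard]; rcases hrq with ⟨h, rfl, -⟩ | ⟨h, rfl, -⟩ <;> rw [h] <;> norm_num
      have := orderOf_eq_one_iff.1 (Nat.eq_one_of_dvd_coprimes hco hq' h1)
      exact (QuotientGroup.eq_one_iff x).1 this
    have hKmono : ∀ g : M, g ∈ K → Mono (g : GL (Fin 3) F) := by
      refine hsmall K hNK Nat.card_pos.ne' (fun h => ?_) fun h => ?_
      · rw [if_pos h] at hidx'
        rcases hrq with ⟨-, rfl, -⟩ | ⟨h', -⟩
        · have := Nat.le_of_dvd (by norm_num) hidx'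
          have hge := Nat.le_of_dvd Nat.card_pos (Subgroup.card_dvd_of_le hNK)
          rw [hmul] at hKc
          nlinarith
        · omega
      · rw [if_neg (by omega)] at hidx'
        rcases hrq with ⟨h', -⟩ | ⟨-, rfl, -⟩
        · omega
        · have := Nat.le_of_dvd (by norm_num) hidx'
          rw [hmul] at hKc
          nlinarith
    have hKmem : ∀ x : M, Mono (x : GL (Fin 3) F) → x ∈ K := fun x hx => hNK (by rw [hNm]; exact hx)
    -- so the monomial group is normal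
    have hall : ∀ g ∈ M, Mono g := by
      intro g hg
      obtain ⟨ν', hν'⟩ : ∃ ν' : Fˣ, ν' ^ 4 ≠ 1 ∨ Fintype.card F = 5 := ⟨ν, hq.symm.imp hν4 id⟩
      by_cases h5 : Fintype.card F = 5
      · -- every sign is a square in the torus
        refine mono_of_signs h2 g fun d hd hd2 => ?_
        obtain ⟨a, ha, had⟩ := exists_sqrt_sign h5 d hd hd2
        obtain ⟨A, hA⟩ : ∃ A : M, (A : GL (Fin 3) F) = mon 1 a := ⟨⟨_, hN _ _ (mon_mem_SL (by simpa using ha))⟩, rfl⟩
        have hAK : A ∈ K := hKmem A ⟨_, _, hA⟩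
        obtain ⟨τ, t, ht⟩ := hKmono _ (hKn.conj_mem A hAK ⟨g, hg⟩)
        have ht' : g * mon 1 a * g⁻¹ = mon τ t := by simpa [hA] using ht
        have h4 : (g * mon 1 a * g⁻¹) * (g * mon 1 a * g⁻¹) = g * mon 1 d * g⁻¹ := by
          rw [show g * mon 1 a * g⁻¹ * (g * mon 1 a * g⁻¹) = g * (mon 1 a * mon 1 a) * g⁻¹ by group, mon_mul, mul_one]
          congr 3
          funext k
          exact had k
        have hττ : τ * τ = 1 := by
          have e4 : (mon τ t : GL (Fin 3) F) * mon τ t * (mon τ t * mon τ t) = 1 := by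
            rw [← ht', h4, show g * mon 1 d * g⁻¹ * (g * mon 1 d * g⁻¹) = g * (mon 1 d * mon 1 d) * g⁻¹ by group, mon_mul,
              mul_one, show (fun l => d ((1 : Equiv.Perm (Fin 3)) l) * d l) = fun _ => 1 from funext fun k =>
                Units.ext (by have := hd2 k; rw [pow_two] at this; simpa using this), mon_one]
            group
          rw [mon_mul, mon_mul, ← mon_one] at e4
          have := mon_perm_inj e4
          exact (by decide : ∀ σ : Equiv.Perm (Fin 3), σ * σ * (σ * σ) = 1 → σ * σ = 1) τ this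
        refine ⟨fun l => t (τ l) * t l, ?_⟩
        rw [← h4, ht', mon_mul, hττ]
      · refine sign_diag h2 (hν4 (by omega)) g (fun d hd hd2 => ?_) fun d a hd hd2 ha z hz => ?_
        · have h1 := hKmono _ (hKn.conj_mem ⟨mon 1 d, hN _ _ (mon_mem_SL (by simpa using hd))⟩
            (hKmem _ ⟨_, _, rfl⟩) ⟨g, hg⟩)
          exact h1
        · obtain ⟨D, hD⟩ : ∃ D : M, (D : GL (Fin 3) F) = mon 1 d := ⟨⟨_, hN _ _ (mon_mem_SL (by simpa using hd))⟩, rfl⟩
          obtain ⟨A, hA⟩ : ∃ A : M, (A : GL (Fin 3) F) = mon 1 a := ⟨⟨_, hN _ _ (mon_mem_SL (by simpa using ha))⟩, rfl⟩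
          obtain ⟨G, hG⟩ : ∃ G : M, (G : GL (Fin 3) F) = g := ⟨⟨g, hg⟩, rfl⟩
          have hV : G⁻¹ * (A * (G * D * G⁻¹) * A⁻¹ * (G * D * G⁻¹)⁻¹) * G ∈ K := by
            rw [show G⁻¹ * (A * (G * D * G⁻¹) * A⁻¹ * (G * D * G⁻¹)⁻¹) * G =
              ((G⁻¹ * A * G) * D * (G⁻¹ * A * G)⁻¹) * D⁻¹ by group]
            exact K.mul_mem (hKn.conj_mem D (hKmem D ⟨_, _, hD⟩) _) (K.inv_mem (hKmem D ⟨_, _, hD⟩))
          obtain ⟨τ, t, hVt⟩ := hKmono _ hV
          rw [show g⁻¹ * (z * (g * mon 1 d * g⁻¹) * z⁻¹) * g = (g⁻¹ * z * g) * mon 1 d * (g⁻¹ * z * g)⁻¹ by group]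
          have hzv : g⁻¹ * z * g = mon τ t := by
            rw [← hVt, hz]; simp [hD, hA, hG]
          rw [hzv, mon_inv, mon_mul, mon_mul, mul_one, mul_inv_cancel, mon_mul, mon_mul]
          congr 1
          funext k
          exact mul_comm _ _
    -- but then the order is that of the monomial group
    have htop : Nm = ⊤ := by
      rw [hNm, eq_top_iff]
      intro x _
      exact hall _ x.2
    rw [htop, Subgroup.card_top, hmul] at hNcard
    have hidx1 : idx = 1 := by rw [hidx, htop, Subgroup.index_top]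
    rw [hidx1] at hmul
    rw [hmul, mul_one, htop, Subgroup.card_top] at hrM
    have := (show Nat.card M = 6 * ((Fintype.card F - 1) * (Fintype.card F - 1)) by
      rw [← card_monoSub hN hM, ← hNm, htop, Subgroup.card_top])
    rw [this] at hrM
    rcases hrq with ⟨h, rfl, -⟩ | ⟨h, rfl, -⟩ <;> rw [h] at hrM <;> norm_num at hrM
  · obtain ⟨c, hcN, hcC⟩ := SetLike.not_le_iff_exists.1 hcen
    obtain ⟨e, he⟩ := hgen (c⁻¹ * (u : M) * c) (by
      have := (Subgroup.mem_normalizer_iff.1 ((Subgroup.normalizer _).inv_mem hcN) (u : M)).1 u.2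
      rwa [inv_inv] at this)
    have hcp : ∀ k : ℕ, (c ^ k)⁻¹ * (u : M) * c ^ k = (u : M) ^ (e ^ k) := by
      intro k
      induction k with
      | zero => simp
      | succ k ih =>
        rw [pow_succ, show (c ^ k * c)⁻¹ * (u : M) * (c ^ k * c) = c⁻¹ * ((c ^ k)⁻¹ * (u : M) * c ^ k) * c by group, ih,
          show c⁻¹ * (u : M) ^ e ^ k * c = (c⁻¹ * (u : M) * c) ^ e ^ k by
            have := conj_pow (a := c⁻¹) (b := (u : M)) (i := e ^ k); rw [inv_inv] at this; exact this.symm,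
          he, ← pow_mul]
        congr 1
        ring
    have hord : orderOf (u : M) = r := orderOf_eq_prime hur hu1
    have hpowe : ∀ {a b : ℕ}, (u : M) ^ a = (u : M) ^ b ↔ (a : ZMod r) = b := fun {a b} => by
      rw [pow_eq_pow_iff_modEq, hord, ZMod.natCast_eq_natCast_iff]
    have hc1 : c ^ Nat.card (Subgroup.normalizer ((P : Subgroup M) : Set M)) = 1 := by
      have := pow_card_eq_one' (G := Subgroup.normalizer ((P : Subgroup M) : Set M)) (x := ⟨c, hcN⟩)
      exact congrArg Subtype.val this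
    have hek : ∀ k, c ^ k = 1 → (e : ZMod r) ^ k = 1 := fun k hk => by
      have h1 := hcp k
      rw [hk, inv_one, one_mul, mul_one, ← pow_one (u : M), ← pow_mul, one_mul, hpowe] at h1
      push_cast at h1
      exact h1.symm
    have hne1 : (e : ZMod r) ≠ 1 := fun h1 => hcC (by
      rw [Subgroup.mem_centralizer_iff]
      intro x hx
      obtain ⟨k, rfl⟩ := hgen x hx
      have h : c⁻¹ * (u : M) * c = u := by
        rw [he]; conv_rhs => rw [← pow_one (u : M)]
        rw [hpowe, h1, Nat.cast_one]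
      have hcu : Commute c (u : M) := by
        show c * (u : M) = (u : M) * c
        calc c * (u : M) = c * (c⁻¹ * (u : M) * c) := by rw [h]
          _ = (u : M) * c := by group
      exact (hcu.pow_right k).symm.eq)
    have he0 : (e : ZMod r) ≠ 0 := fun h0 => by
      have := hek _ hc1
      rw [h0, zero_pow Nat.card_pos.ne'] at this
      exact zero_ne_one this
    have hepow := ZMod.pow_card_sub_one_eq_one he0
    obtain ⟨e₁, c₁, hc₁N, he₁, he₁1, he₁3⟩ : ∃ (e₁ : ℕ) (c₁ : M), c₁ ∈ Subgroup.normalizer ((P : Subgroup M) : Set M) ∧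
        c₁⁻¹ * (u : M) * c₁ = (u : M) ^ e₁ ∧ (e₁ : ZMod r) ≠ 1 ∧ (e₁ : ZMod r) ^ 3 = 1 := by
      have hk := hek _ hc1
      obtain ⟨n, hn⟩ : ∃ n, n = Nat.card (Subgroup.normalizer ((P : Subgroup M) : Set M)) := ⟨_, rfl⟩
      rw [← hn] at hk hnodd
      rcases hrq with ⟨h, rfl, -⟩ | ⟨h, rfl, -⟩
      · rw [if_pos h] at hnodd
        refine ⟨e, c, hcN, he, hne1, ?_⟩
        have h93 : (e : ZMod 31) ^ 93 = 1 := by
          obtain ⟨t, ht⟩ := hnodd; rw [ht, pow_mul, hk, one_pow]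
        have := pow_gcd_eq_one.2 ⟨h93, hepow⟩
        exact this
      · rw [if_neg (by omega)] at hnodd
        have h171 : (e : ZMod 19) ^ 171 = 1 := by
          obtain ⟨t, ht⟩ := hnodd; rw [ht, pow_mul, hk, one_pow]
        have h9 : (e : ZMod 19) ^ 9 = 1 := pow_gcd_eq_one.2 ⟨h171, hepow⟩
        by_cases h3 : (e : ZMod 19) ^ 3 = 1
        · exact ⟨e, c, hcN, he, hne1, h3⟩
        · exact ⟨e ^ 3, c ^ 3, (Subgroup.normalizer _).pow_mem hcN 3, hcp 3, by push_cast; exact h3,
            by push_cast; rw [← pow_mul]; exact h9⟩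
    -- the character argument
    obtain ⟨ρ, hρ⟩ := CfsgLib.Char.LiftCoprime.exists_complex hp hcop
      ((Units.coeHom _).comp M.subtype : M →* Matrix (Fin 3) (Fin 3) F) fun a b h => Subtype.ext (Units.ext h)
    let T : Subgroup M := Subgroup.zpowers (u : M)
    have hTP : T = (P : Subgroup M) := le_antisymm (Subgroup.zpowers_le.2 u.2) fun x hx => by
      obtain ⟨k, rfl⟩ := hgen x hx
      exact Subgroup.pow_mem _ (Subgroup.mem_zpowers _) k
    have hTpow : ∀ t : T, ∃ k : ℕ, (t : M) = (u : M) ^ k := fun t => hgen _ (hTP ▸ t.2)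
    have hσmem : ∀ t : T, c₁⁻¹ * (t : M) * c₁ ∈ T := by
      intro t
      obtain ⟨k, hk⟩ := hTpow t
      rw [hk, show c₁⁻¹ * (u : M) ^ k * c₁ = (c₁⁻¹ * (u : M) * c₁) ^ k by
        have := conj_pow (a := c₁⁻¹) (b := (u : M)) (i := k); rw [inv_inv] at this; exact this.symm, he₁, ← pow_mul]
      exact Subgroup.pow_mem _ (Subgroup.mem_zpowers _) _
    let σ : T →* T :=
      { toFun := fun t => ⟨_, hσmem t⟩
        map_one' := Subtype.ext (by simp)
        map_mul' := fun a b => Subtype.ext (by simp [mul_assoc]) }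
    have hσ : ∀ (t : T) (k : ℕ), (t : M) = (u : M) ^ k → ((σ t : T) : M) = (u : M) ^ (e₁ * k) := by
      intro t k h
      show c₁⁻¹ * (t : M) * c₁ = _
      rw [h, show c₁⁻¹ * (u : M) ^ k * c₁ = (c₁⁻¹ * (u : M) * c₁) ^ k by
        have := conj_pow (a := c₁⁻¹) (b := (u : M)) (i := k); rw [inv_inv] at this; exact this.symm, he₁, ← pow_mul]
    have hsum : (1 : ZMod r) + e₁ + e₁ * e₁ = 0 :=
      (mul_eq_zero.1 (show ((e₁ : ZMod r) - 1) * (1 + e₁ + e₁ * e₁) = 0 by linear_combination he₁3)).resolve_left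
        (sub_ne_zero.2 he₁1)
    have hcomm : ∀ a ∈ T, ∀ b ∈ T, a * b = b * a := fun a ha b hb => by
      obtain ⟨i, hi⟩ := hTpow ⟨a, ha⟩
      obtain ⟨j, hj⟩ := hTpow ⟨b, hb⟩
      show a * b = b * a
      rw [show a = _ from hi, show b = _ from hj, ← pow_add, ← pow_add, add_comm]
    have hmain := centralizer_normal ρ hρ T hcomm σ (y := c₁) (fun t => rfl) (fun t => by
        obtain ⟨k, hk⟩ := hTpow t
        refine Subtype.ext ?_
        simp only [Subgroup.coe_mul, Subgroup.coe_one]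
        rw [hσ _ _ (hσ _ _ hk), hσ _ _ hk, hk, ← pow_add, ← pow_add, ← pow_zero (u : M), hpowe]
        push_cast
        linear_combination (k : ZMod r) * hsum) (fun t => by
        obtain ⟨k, hk⟩ := hTpow t
        refine Subtype.ext ?_
        rw [hσ _ _ (hσ _ _ (hσ _ _ hk)), hk, hpowe]
        push_cast
        linear_combination (k : ZMod r) * he₁3) ⟨⟨(u : M), Subgroup.mem_zpowers _⟩, fun h => hu1 (by
          have h3 : (u : M) ^ 3 = 1 := congrArg Subtype.val h
          have hd := Nat.le_of_dvd (by norm_num) (hord ▸ orderOf_dvd_of_pow_eq_one h3)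
          rcases hrq with ⟨-, hh, -⟩ | ⟨-, hh, -⟩ <;> omega)⟩
      (fun χ hχ => ?_)
    · -- conclusion
      refine hnotnormal ⟨fun x hx h => ?_⟩
      have hxT : x ∈ T := hTP ▸ hx
      have h1 := hmain h x (fun t ht => hcomm _ hxT t ht) u (Subgroup.mem_zpowers _)
      have hmemC : h * x * h⁻¹ ∈ Subgroup.normalizer ((P : Subgroup M) : Set M) := by
        refine Subgroup.centralizer_le_normalizer _ (Subgroup.mem_centralizer_iff.2 fun y hy => ?_)
        obtain ⟨k, rfl⟩ := hgen y hy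
        exact ((show Commute (h * x * h⁻¹) (u : M) from h1).pow_right k).symm.eq
      obtain ⟨k, rfl⟩ := hgen x hx
      have hz : IsPGroup r (Subgroup.zpowers (h * (u : M) ^ k * h⁻¹)) := by
        rintro ⟨z, hz⟩
        refine ⟨1, Subtype.ext ?_⟩
        obtain ⟨i, rfl⟩ := Subgroup.mem_zpowers_iff.1 hz
        show (((h * (u : M) ^ k * h⁻¹) ^ i) ^ (r ^ 1)) = 1
        rw [pow_one, ← zpow_natCast, ← _root_.zpow_mul, mul_comm, _root_.zpow_mul, zpow_natCast, conj_pow, ← pow_mul, mul_comm k,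
          pow_mul, hur, one_pow, mul_one, mul_inv_cancel, _root_.one_zpow]
      exact (hz.inf_normalizer_sylow P ▸ Subgroup.mem_inf.2 ⟨Subgroup.mem_zpowers _, hmemC⟩ :
        h * (u : M) ^ k * h⁻¹ ∈ Subgroup.zpowers (h * (u : M) ^ k * h⁻¹) ⊓ (P : Subgroup M)).2
    · -- the target
      let U : T := ⟨(u : M), Subgroup.mem_zpowers _⟩
      have hz : χ U ^ r = 1 := by rw [← map_pow, show U ^ r = 1 from Subtype.ext hur, map_one]
      have hU1 : χ U ≠ 1 := fun h => by
        refine hu1 (congrArg Subtype.val (hχ U h ?_))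
        have : σ U = U ^ e₁ := Subtype.ext (by rw [hσ U 1 (pow_one _).symm, mul_one]; rfl)
        rw [this, map_pow, h, one_pow]
      have hprim : IsPrimitiveRoot (χ U) r := (orderOf_eq_prime hz hU1) ▸ IsPrimitiveRoot.orderOf (χ U)
      haveI : NeZero r := ⟨hr.ne_zero⟩
      obtain ⟨j, -, hj⟩ := hprim.eq_pow_of_pow_eq_one (ξ := zeta r ^ e₀) (by
        rw [← pow_mul, mul_comm, pow_mul, (zeta_primitive hr.ne_zero).pow_eq_one, one_pow])
      have hval : ∀ n : ℕ, χ (U ^ n) = χ U ^ n := fun n => map_pow χ U n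
      have hσU : ∀ n, σ (U ^ n) = U ^ (e₁ * n) := fun n => Subtype.ext (by
        rw [hσ (U ^ n) n (by rw [Subgroup.coe_pow]), Subgroup.coe_pow])
      refine ⟨U ^ j, ?_⟩
      rw [hσU, hσU, hval, hval, hval, hj, show e₁ * j = j * e₁ by ring, show e₁ * (j * e₁) = j * (e₁ * e₁) by ring,
        pow_mul (χ U), hj, pow_mul (χ U), hj, ← pow_mul, ← pow_mul]
      have hs : ((1 + e₁ + e₁ * e₁ : ℕ) : ZMod r) = 0 := by push_cast; exact hsum
      rw [ZMod.natCast_eq_zero_iff] at hs
      have hmm : (e₁ * e₁) % r = ((e₁ % r) * (e₁ % r)) % r := Nat.mul_mod _ _ _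
      have hlt := Nat.mod_lt e₁ hr.pos
      have hsr : (1 + e₁ % r + e₁ % r * (e₁ % r)) % r = 0 := by
        have := Nat.mod_eq_zero_of_dvd hs
        rw [Nat.add_mod, Nat.add_mod 1, hmm] at this
        simpa [Nat.add_mod] using this
      obtain ⟨E, hE⟩ : ∃ E, E = e₁ % r := ⟨_, rfl⟩
      rw [← hE] at hlt hsr
      have hfinal : ∀ (A B : ℕ) (s t : ℤ), (e₀ * e₁) % r = A → (e₀ * (e₁ * e₁)) % r = B → A ≠ e₀ → A ≠ B → B ≠ e₀ →
          (A : ℤ) - e₀ = s → (B : ℤ) - e₀ = t → 6 * |s| < r → 6 * |t| < r → e₀ < r →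
          zeta r ^ e₀ ≠ zeta r ^ (e₀ * e₁) ∧ zeta r ^ (e₀ * e₁) ≠ zeta r ^ (e₀ * (e₁ * e₁)) ∧
          zeta r ^ e₀ ≠ zeta r ^ (e₀ * (e₁ * e₁)) ∧ ‖zeta r ^ (e₀ * e₁) / zeta r ^ e₀ - 1‖ < 1 ∧
          ‖zeta r ^ (e₀ * (e₁ * e₁)) / zeta r ^ e₀ - 1‖ < 1 := by
        intro A B s t hA hB n1 n2 n3 hs ht s1 t1 he0
        have hA' : ((e₀ * e₁ : ℕ) : ℤ) = A + (r : ℤ) * (((e₀ * e₁) / r : ℕ) : ℤ) := by
          rw [← hA]; exact_mod_cast (Nat.mod_add_div _ r).symm
        have hB' : ((e₀ * (e₁ * e₁) : ℕ) : ℤ) = B + (r : ℤ) * (((e₀ * (e₁ * e₁)) / r : ℕ) : ℤ) := by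
          rw [← hB]; exact_mod_cast (Nat.mod_add_div _ r).symm
        refine ⟨zeta_pow_ne hr.ne_zero ?_, zeta_pow_ne hr.ne_zero ?_, zeta_pow_ne hr.ne_zero ?_,
          zeta_ratio_near hr.ne_zero s ?_ s1, zeta_ratio_near hr.ne_zero t ?_ t1⟩
        · rw [Nat.mod_eq_of_lt he0, hA]; exact n1.symm
        · rw [hA, hB]; exact n2
        · rw [Nat.mod_eq_of_lt he0, hB]; exact n3.symm
        · exact ⟨(((e₀ * e₁) / r : ℕ) : ℤ), by rw [hA', ← hs]; ring⟩
        · exact ⟨(((e₀ * (e₁ * e₁)) / r : ℕ) : ℤ), by rw [hB', ← ht]; ring⟩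
      have hAm : (e₀ * e₁) % r = (e₀ * E) % r := by rw [hE, Nat.mul_mod_mod]
      have hBm : (e₀ * (e₁ * e₁)) % r = (e₀ * (E * E)) % r := by
        rw [hE, Nat.mul_mod e₀, Nat.mul_mod e₁, Nat.mul_mod e₀ (e₁ % r * (e₁ % r))]
      rcases hrq with ⟨-, rfl, rfl⟩ | ⟨-, rfl, rfl⟩
      · have hE' : E = 5 ∨ E = 25 := by interval_cases E <;> omega
        rcases hE' with h | h <;> rw [h] at hAm hBm
        · exact hfinal 14 8 5 (-1) hAm hBm (by norm_num) (by norm_num) (by norm_num) (by norm_num) (by norm_num)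
            (by norm_num) (by norm_num) (by norm_num)
        · exact hfinal 8 14 (-1) 5 hAm hBm (by norm_num) (by norm_num) (by norm_num) (by norm_num) (by norm_num)
            (by norm_num) (by norm_num) (by norm_num)
      · have hE' : E = 7 ∨ E = 11 := by interval_cases E <;> omega
        rcases hE' with h | h <;> rw [h] at hAm hBm
        · exact hfinal 4 9 (-2) 3 hAm hBm (by norm_num) (by norm_num) (by norm_num) (by norm_num) (by norm_num)
            (by norm_num) (by norm_num) (by norm_num)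
        · exact hfinal 9 4 3 (-2) hAm hBm (by norm_num) (by norm_num) (by norm_num) (by norm_num) (by norm_num)
            (by norm_num) (by norm_num) (by norm_num)

end CfsgLib.Perm.Trans.ThreeDim
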