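import Cfsg.Agent.Lib.Perm.LinDecomp.Reflect

/-!
# Transvections in groups containing the monomial group in dimension three

A transvection which is not monomial generates, with the monomial matrices of determinant one,
every transvection.
-/

set_option autoImplicit false
set_option linter.all false

namespace CfsgLib.Perm.Trans.ThreeDim

open scoped Matrix
open Matrix Cfsg.Geo CfsgLib.Perm.Asch CfsgLib.Perm.Trans CfsgLib.Perm.LinDecomp

variable {F : Type*} [Field F] {M : Subgroup (GL (Fin 3) F)}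

/-- `i`, `j`, `l` are the three indices -/
structure Idx (i j l : Fin 3) : Prop where
  ij : i ≠ j
  jl : j ≠ l
  il : i ≠ l

theorem Idx.all {i j l : Fin 3} (h : Idx i j l) (k : Fin 3) : k = i ∨ k = j ∨ k = l := by
  obtain ⟨a, b, c⟩ := h; omega

theorem exists_idx (l : Fin 3) : ∃ i j, Idx i j l := by
  exact ⟨l + 1, l + 2, by omega, by omega, by omega⟩

theorem Idx.sum {i j l : Fin 3} (h : Idx i j l) (f : Fin 3 → F) : ∑ k, f k = f i + f j + f l := by
  obtain ⟨a, b, c⟩ := h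
  rw [show (Finset.univ : Finset (Fin 3)) = {i, j, l} from (Finset.eq_univ_of_forall fun k => by
    simp only [Finset.mem_insert, Finset.mem_singleton]; omega).symm, Finset.sum_insert (by simp [a, c]),
    Finset.sum_insert (by simp [b]), Finset.sum_singleton]
  ring

theorem Idx.prod {i j l : Fin 3} (h : Idx i j l) (f : Fin 3 → F) : ∏ k, f k = f i * f j * f l := by
  obtain ⟨a, b, c⟩ := h
  rw [show (Finset.univ : Finset (Fin 3)) = {i, j, l} from (Finset.eq_univ_of_forall fun k => by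
    simp only [Finset.mem_insert, Finset.mem_singleton]; omega).symm, Finset.prod_insert (by simp [a, c]),
    Finset.prod_insert (by simp [b]), Finset.prod_singleton]
  ring

variable (hN : ∀ (σ : Equiv.Perm (Fin 3)) (d : Fin 3 → Fˣ),
    (mon σ d : GL (Fin 3) F) ∈ specialLinear (Fin 3) F → mon σ d ∈ M)
include hN

/-- the torus moves pairs -/
theorem has_scale {x ψ : Fin 3 → F} (h : Has M x ψ) (d : Fin 3 → Fˣ) (hd : ∏ k, (d k : F) = 1) :
    Has M (fun k => (d k : F) * x k) (fun k => ψ k * (d k : F)⁻¹) := by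
  have h1 := h.conj (hN 1 d (mon_mem_SL (by simpa using hd)))
  have ea : ((mon 1 d : GL (Fin 3) F) : Matrix (Fin 3) (Fin 3) F) *ᵥ x = fun k => (d k : F) * x k :=
    funext fun k => mon_mulVec 1 d x k
  have eb : ψ ᵥ* (((mon 1 d : GL (Fin 3) F)⁻¹ : GL (Fin 3) F) : Matrix (Fin 3) (Fin 3) F) = fun k => ψ k * (d k : F)⁻¹ :=
    funext fun k => mon_vecMul_inv 1 d ψ k
  rwa [ea, eb] at h1

variable {ν : Fˣ} (hν : ν ^ 3 ≠ 1)
include hν

theorem nu_sub : ((ν : F) ^ 3 - 1) ≠ 0 := sub_ne_zero.2 fun e => hν (Units.ext (by rw [Units.val_pow_eq_pow_val, e]; rfl))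

theorem good_of_pair {x ψ : Fin 3 → F} (h : Has M x ψ) {i l : Fin 3} (hli : l ≠ i) (hxi : x i ≠ 0) (hψi : ψ i = 0)
    (hψ : ψ ≠ 0) (hxl : x l = 0) (hψl : ψ l = 0) : fullSub M = ⊤ :=
  fullSub_of_transvection hN (fun e : ν = 1 => hν (by rw [e, one_pow])) h hli hxi hψi hψ hxl hψl

/-- a centre at a coordinate vector -/
theorem good_of_centre {x ψ : Fin 3 → F} (h : Has M x ψ) {i j l : Fin 3} (H : Idx i j l) (hxi : x i ≠ 0)
    (hxj : x j = 0) (hxl : x l = 0) (hψ : ψ ≠ 0) : fullSub M = ⊤ := by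
  have hψi : ψ i = 0 := by
    have h0 := h.orth
    rw [dotProduct, H.sum, hxj, hxl, mul_zero, mul_zero, add_zero, add_zero] at h0
    exact (mul_eq_zero.1 h0).resolve_right hxi
  by_cases hψl : ψ l = 0
  · exact good_of_pair hN hν h H.il.symm hxi hψi hψ hxl hψl
  by_cases hψj : ψ j = 0
  · exact good_of_pair hN hν h H.ij.symm hxi hψi hψ hxj hψj
  let d : Fin 3 → Fˣ := fun k => if k = j then (ν ^ 2)⁻¹ else ν
  have hdi : d i = ν := if_neg H.ij
  have hdj : d j = (ν ^ 2)⁻¹ := if_pos rfl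
  have hdl : d l = ν := if_neg H.jl.symm
  have h1 := has_scale hN h d (by
    rw [H.prod, hdi, hdj, hdl, ← Units.val_mul, ← Units.val_mul]
    exact congrArg Units.val (show ν * (ν ^ 2)⁻¹ * ν = 1 by rw [pow_two, mul_inv]; simp [mul_assoc, mul_comm, mul_left_comm]))
  have e : (fun k => (d k : F) * x k) = (ν : F) • x := funext fun k => by
    rcases H.all k with rfl | rfl | rfl
    · rw [hdi]; rfl
    · rw [Pi.smul_apply, hxj, smul_zero, mul_zero]
    · rw [Pi.smul_apply, hxl, smul_zero, mul_zero]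
  rw [e, has_smul_iff] at h1
  have h2 := h1.add_right h.neg
  have hl : ((ν : F) • (fun k => ψ k * (d k : F)⁻¹) + -ψ) l = 0 := by
    simp [hdl, mul_comm (ψ l), ← mul_assoc]
  have hi : ((ν : F) • (fun k => ψ k * (d k : F)⁻¹) + -ψ) i = 0 := by simp [hψi]
  refine good_of_pair hN hν h2 H.il.symm hxi hi (fun e' => ?_) hxl hl
  have := congrFun e' j
  simp only [hdj, Pi.add_apply, Pi.smul_apply, Pi.neg_apply, smul_eq_mul, Units.val_inv_eq_inv_val, inv_inv,
    Units.val_pow_eq_pow_val, Pi.zero_apply] at this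
  exact mul_ne_zero (nu_sub hN hν) hψj (by linear_combination this)

/-- an axis at a coordinate functional -/
theorem good_of_axis {x ψ : Fin 3 → F} (h : Has M x ψ) {i j l : Fin 3} (H : Idx i j l) (hψl : ψ l ≠ 0)
    (hψi : ψ i = 0) (hψj : ψ j = 0) (hxi : x i ≠ 0) : fullSub M = ⊤ := by
  have hxl : x l = 0 := by
    have h0 := h.orth
    rw [dotProduct, H.sum, hψi, hψj, zero_mul, zero_mul, zero_add, zero_add] at h0
    exact (mul_eq_zero.1 h0).resolve_left hψl
  have hψ : ψ ≠ 0 := fun e => hψl (congrFun e l)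
  by_cases hxj : x j = 0
  · exact good_of_centre hN hν h H hxi hxj hxl hψ
  let d : Fin 3 → Fˣ := fun k => if k = i then (ν ^ 2)⁻¹ else ν
  have hdi : d i = (ν ^ 2)⁻¹ := if_pos rfl
  have hdj : d j = ν := if_neg H.ij.symm
  have hdl : d l = ν := if_neg H.il.symm
  have h1 := has_scale hN h d (by
    rw [H.prod, hdi, hdj, hdl, ← Units.val_mul, ← Units.val_mul]
    exact congrArg Units.val (show (ν ^ 2)⁻¹ * ν * ν = 1 by rw [mul_assoc, ← pow_two, inv_mul_cancel]))
  have e : (fun k => ψ k * (d k : F)⁻¹) = (ν : F)⁻¹ • ψ := funext fun k => by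
    rcases H.all k with rfl | rfl | rfl
    · rw [Pi.smul_apply, hψi, smul_zero, zero_mul]
    · rw [Pi.smul_apply, hψj, smul_zero, zero_mul]
    · rw [hdl, Pi.smul_apply, smul_eq_mul, mul_comm]
  rw [e, ← has_smul_iff] at h1
  have h' : Has M ((-1 : F) • x) ψ := (has_smul_iff x ψ).2 (by rw [neg_one_smul]; exact h.neg)
  have h2 := h1.add_left h'
  refine good_of_centre hN hν h2 H ?_ ?_ ?_ hψ
  · simp only [Pi.add_apply, Pi.smul_apply, smul_eq_mul, hdi, Units.val_inv_eq_inv_val, Units.val_pow_eq_pow_val]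
    intro e'
    refine mul_ne_zero (nu_sub hN hν) hxi ?_
    have hn := ν.ne_zero
    field_simp at e'
    linear_combination -e'
  · simp only [Pi.add_apply, Pi.smul_apply, smul_eq_mul, hdj]
    rw [← mul_assoc, inv_mul_cancel₀ ν.ne_zero]
    ring
  · simp [hxl]

/-- some coordinate is zero in exactly one of the centre and the axis -/
theorem good_of_zero {x ψ : Fin 3 → F} (h : Has M x ψ) (hx : x ≠ 0) (hψ : ψ ≠ 0) {l : Fin 3}
    (hl : x l = 0 ∧ ψ l ≠ 0 ∨ x l ≠ 0 ∧ ψ l = 0) : fullSub M = ⊤ := by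
  obtain ⟨i, j, H⟩ := exists_idx l
  let d : Fin 3 → Fˣ := fun k => if k = l then (ν ^ 2)⁻¹ else ν
  have hdi : d i = ν := if_neg H.il
  have hdj : d j = ν := if_neg H.jl
  have hdl : d l = (ν ^ 2)⁻¹ := if_pos rfl
  have h1 := has_scale hN h d (by
    rw [H.prod, hdi, hdj, hdl, ← Units.val_mul, ← Units.val_mul]
    exact congrArg Units.val (show ν * ν * (ν ^ 2)⁻¹ = 1 by rw [← pow_two, mul_inv_cancel]))
  rcases hl with ⟨hxl, hψl⟩ | ⟨hxl, hψl⟩
  · have e : (fun k => (d k : F) * x k) = (ν : F) • x := funext fun k => by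
      rcases H.all k with rfl | rfl | rfl
      · rw [hdi]; rfl
      · rw [hdj]; rfl
      · rw [Pi.smul_apply, hxl, smul_zero, mul_zero]
    rw [e, has_smul_iff] at h1
    have h2 := h1.add_right h.neg
    have ei : ((ν : F) • (fun k => ψ k * (d k : F)⁻¹) + -ψ) i = 0 := by simp [hdi, mul_comm (ψ i), ← mul_assoc]
    have ej : ((ν : F) • (fun k => ψ k * (d k : F)⁻¹) + -ψ) j = 0 := by simp [hdj, mul_comm (ψ j), ← mul_assoc]
    have el : ((ν : F) • (fun k => ψ k * (d k : F)⁻¹) + -ψ) l ≠ 0 := by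
      intro this
      simp only [hdl, Pi.add_apply, Pi.smul_apply, Pi.neg_apply, smul_eq_mul, Units.val_inv_eq_inv_val, inv_inv,
        Units.val_pow_eq_pow_val] at this
      exact mul_ne_zero (nu_sub hN hν) hψl (by linear_combination this)
    by_cases hxi : x i = 0
    · refine good_of_axis hN hν h2 (i := j) (j := i) ⟨H.ij.symm, H.il, H.jl⟩ el ej ei fun hxj => hx (funext fun k => ?_)
      rcases H.all k with rfl | rfl | rfl <;> assumption
    · exact good_of_axis hN hν h2 H el ei ej hxi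
  · have e : (fun k => ψ k * (d k : F)⁻¹) = (ν : F)⁻¹ • ψ := funext fun k => by
      rcases H.all k with rfl | rfl | rfl
      · rw [hdi, Pi.smul_apply, smul_eq_mul, mul_comm]
      · rw [hdj, Pi.smul_apply, smul_eq_mul, mul_comm]
      · rw [Pi.smul_apply, hψl, smul_zero, zero_mul]
    rw [e, ← has_smul_iff] at h1
    have h' : Has M ((-1 : F) • x) ψ := (has_smul_iff x ψ).2 (by rw [neg_one_smul]; exact h.neg)
    have h2 := h1.add_left h'
    refine good_of_centre hN hν h2 (i := l) (j := i) (l := j) ⟨H.il.symm, H.ij, H.jl.symm⟩ ?_ ?_ ?_ hψ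
    · simp only [Pi.add_apply, Pi.smul_apply, smul_eq_mul, hdl, Units.val_inv_eq_inv_val, Units.val_pow_eq_pow_val]
      intro e'
      refine mul_ne_zero (nu_sub hN hν) hxl ?_
      have hn := ν.ne_zero
      field_simp at e'
      linear_combination -e'
    · simp only [Pi.add_apply, Pi.smul_apply, smul_eq_mul, hdi]
      rw [← mul_assoc, inv_mul_cancel₀ ν.ne_zero]
      ring
    · simp only [Pi.add_apply, Pi.smul_apply, smul_eq_mul, hdj]
      rw [← mul_assoc, inv_mul_cancel₀ ν.ne_zero]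
      ring

/-- full support, two different products -/
theorem good_of_ne {x ψ : Fin 3 → F} (h : Has M x ψ) {i j l : Fin 3} (H : Idx i j l) (hx : ∀ k, x k ≠ 0)
    (hne : x i * ψ i ≠ x j * ψ j) : fullSub M = ⊤ := by
  let d : Fin 3 → Fˣ := fun k => if k = i then -(Units.mk0 _ (hx j) / Units.mk0 _ (hx i))
    else if k = j then -(Units.mk0 _ (hx i) / Units.mk0 _ (hx j)) else -1
  have hdi : (d i : F) = -(x j / x i) := by simp [d]
  have hdj : (d j : F) = -(x i / x j) := by simp [d, H.ij.symm]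
  have hdl : (d l : F) = -1 := by simp [d, H.il.symm, H.jl.symm]
  have hw : (mon (Equiv.swap i j) d : GL (Fin 3) F) ∈ M := by
    refine hN _ _ (mon_mem_SL ?_)
    rw [Equiv.Perm.sign_swap H.ij, H.prod, hdi, hdj, hdl]
    have := hx i; have := hx j
    push_cast
    field_simp
  have h1 := h.conj hw
  have e : ((mon (Equiv.swap i j) d : GL (Fin 3) F) : Matrix (Fin 3) (Fin 3) F) *ᵥ x = (-1 : F) • x := funext fun k => by
    rw [mon_mulVec, Equiv.symm_swap, Pi.smul_apply, smul_eq_mul]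
    have := hx i; have := hx j
    rcases H.all k with rfl | rfl | rfl
    · rw [Equiv.swap_apply_left, hdj]; field_simp
    · rw [Equiv.swap_apply_right, hdi]; field_simp
    · rw [Equiv.swap_apply_of_ne_of_ne H.il.symm H.jl.symm, hdl]
  rw [e, has_smul_iff] at h1
  have h2 := h.add_right h1.neg
  have el : (ψ + -((-1 : F) • (ψ ᵥ* (((mon (Equiv.swap i j) d : GL (Fin 3) F)⁻¹ : GL (Fin 3) F) : Matrix (Fin 3) (Fin 3) F)))) l = 0 := by
    simp only [Pi.add_apply, Pi.neg_apply, Pi.smul_apply, smul_eq_mul]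
    rw [mon_vecMul_inv, Equiv.symm_swap, Equiv.swap_apply_of_ne_of_ne H.il.symm H.jl.symm, hdl]
    ring
  refine good_of_zero hN hν h2 (fun e => hx i (congrFun e i)) (fun e' => hne ?_) (Or.inr ⟨hx l, el⟩)
  have e2 := congrFun e' i
  simp only [Pi.add_apply, Pi.neg_apply, Pi.smul_apply, smul_eq_mul, Pi.zero_apply] at e2
  rw [mon_vecMul_inv, Equiv.symm_swap, Equiv.swap_apply_left, hdj, inv_neg, inv_div] at e2
  have := hx i; have := hx j
  field_simp at e2
  linear_combination e2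

/-- full support -/
theorem good_of_full [Finite F] (hν2 : ν ^ 2 ≠ 1) {x ψ : Fin 3 → F} (h : Has M x ψ) (hx : ∀ k, x k ≠ 0) (hψ : ∀ k, ψ k ≠ 0) :
    fullSub M = ⊤ := by
  have H : Idx (0 : Fin 3) 1 2 := ⟨by decide, by decide, by decide⟩
  by_cases h01 : x 0 * ψ 0 = x 1 * ψ 1
  swap
  · exact good_of_ne hN hν h H hx h01
  by_cases h12 : x 1 * ψ 1 = x 2 * ψ 2
  swap
  · exact good_of_ne hN hν h (i := 1) (j := 2) (l := 0) ⟨by decide, by decide, by decide⟩ hx h12
  have h3 : (3 : F) = 0 := by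
    have h0 := h.orth
    rw [dotProduct, H.sum, mul_comm (ψ 0), mul_comm (ψ 1), mul_comm (ψ 2), ← h12, ← h01] at h0
    exact (mul_eq_zero.1 (show (3 : F) * (x 0 * ψ 0) = 0 by linear_combination h0)).resolve_right
      (mul_ne_zero (hx 0) (hψ 0))
  haveI : CharP F 3 := (CharP.charP_iff_prime_eq_zero Nat.prime_three).2 (by exact_mod_cast h3)
  haveI : Fact (Nat.Prime 3) := ⟨Nat.prime_three⟩
  haveI : PerfectRing F 3 := inferInstance
  have hν1 : (ν : F) ≠ 1 := fun e => hν (by rw [show ν = 1 from Units.ext e, one_pow])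
  have hνm : -1 - (ν : F) ≠ 0 := fun e => hν2 (Units.ext (by
    rw [Units.val_pow_eq_pow_val, Units.val_one, show (ν : F) = -1 by linear_combination -e]
    ring))
  obtain ⟨c, hc⟩ : ∃ c : F, c ^ 3 = ((ν : F) * (-1 - (ν : F)))⁻¹ := surjective_frobenius F 3 _
  have hc0 : c ≠ 0 := fun e => by
    rw [e, zero_pow (by norm_num)] at hc
    exact inv_ne_zero (mul_ne_zero ν.ne_zero hνm) hc.symm
  let d : Fin 3 → Fˣ := ![Units.mk0 c hc0, Units.mk0 (c * ν) (mul_ne_zero hc0 ν.ne_zero),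
    Units.mk0 (c * (-1 - (ν : F))) (mul_ne_zero hc0 hνm)]
  have hd0 : (d 0 : F) = c := rfl
  have hd1 : (d 1 : F) = c * ν := rfl
  have hd2 : (d 2 : F) = c * (-1 - (ν : F)) := rfl
  have h1 := has_scale hN h d (by
    rw [H.prod, hd0, hd1, hd2, show c * (c * ν) * (c * (-1 - (ν : F))) = c ^ 3 * ((ν : F) * (-1 - (ν : F))) by ring, hc,
      inv_mul_cancel₀ (mul_ne_zero ν.ne_zero hνm)])
  have hdot : ψ ⬝ᵥ (fun k => (d k : F) * x k) = 0 := by
    rw [dotProduct, H.sum, hd0, hd1, hd2]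
    have e1 : ψ 1 * x 1 = ψ 0 * x 0 := by linear_combination -h01
    have e2 : ψ 2 * x 2 = ψ 0 * x 0 := by linear_combination -h12 - h01
    linear_combination (c * (ν : F)) * e1 + (c * (-1 - (ν : F))) * e2
  have h2 := h1.comm h hdot
  obtain ⟨κ, hκ⟩ : ∃ κ, κ = (fun k => ψ k * (d k : F)⁻¹) ⬝ᵥ x := ⟨_, rfl⟩
  rw [← hκ] at h2
  have hκ0 : κ ≠ 0 := by
    intro e
    rw [hκ, dotProduct, H.sum, hd0, hd1, hd2] at e
    have e1 : ψ 1 * x 1 = ψ 0 * x 0 := by linear_combination -h01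
    have e2 : ψ 2 * x 2 = ψ 0 * x 0 := by linear_combination -h12 - h01
    rw [show ψ 0 * c⁻¹ * x 0 + ψ 1 * (c * ν)⁻¹ * x 1 + ψ 2 * (c * (-1 - (ν : F)))⁻¹ * x 2 =
      (ψ 0 * x 0) * c⁻¹ + (ψ 1 * x 1) * (c * ν)⁻¹ + (ψ 2 * x 2) * (c * (-1 - (ν : F)))⁻¹ by ring, e1, e2,
      ← mul_add, ← mul_add, mul_eq_zero] at e
    replace e := e.resolve_left (mul_ne_zero (hψ 0) (hx 0))
    have := ν.ne_zero
    have hb := mul_ne_zero (hψ 0) (hx 0)
    field_simp at e
    have : ((ν : F) - 1) ^ 2 = 0 := by linear_combination (norm := ring_nf) -e - (ν : F) * h3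
    exact hν1 (sub_eq_zero.1 (pow_eq_zero_iff (by norm_num) |>.1 this))
  refine good_of_ne hN hν h2 H (fun k => mul_ne_zero (d k).ne_zero (hx k)) fun e => ?_
  simp only [Pi.smul_apply, smul_eq_mul, hd0, hd1] at e
  refine hν1 ?_
  have : c * κ * (x 0 * ψ 0) * (1 - (ν : F)) = 0 := by linear_combination e - c * κ * (ν : F) * h01 * 1
  have := (mul_eq_zero.1 this).resolve_left (mul_ne_zero (mul_ne_zero hc0 hκ0) (mul_ne_zero (hx 0) (hψ 0)))
  linear_combination -this

/-- a transvection gives all, unless it is a transposition in characteristic two -/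
theorem good_or_mono [Finite F] (hν2 : ν ^ 2 ≠ 1) {x ψ : Fin 3 → F} (h : Has M x ψ) (hx : x ≠ 0) (hψ : ψ ≠ 0) :
    fullSub M = ⊤ ∨ (2 : F) = 0 ∧ Mono (tv x ψ h.orth) := by
  classical
  by_cases hz : ∃ l, x l = 0 ∧ ψ l ≠ 0 ∨ x l ≠ 0 ∧ ψ l = 0
  · obtain ⟨l, hl⟩ := hz
    exact Or.inl (good_of_zero hN hν h hx hψ hl)
  have hiff : ∀ k, x k = 0 ↔ ψ k = 0 := fun k =>
    ⟨fun e => by_contra fun e' => hz ⟨k, Or.inl ⟨e, e'⟩⟩, fun e => by_contra fun e' => hz ⟨k, Or.inr ⟨e', e⟩⟩⟩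
  by_cases hfull : ∀ k, x k ≠ 0
  · exact Or.inl (good_of_full hN hν hν2 h hfull fun k e => hfull k ((hiff k).2 e))
  push Not at hfull
  obtain ⟨l, hxl⟩ := hfull
  have hψl := (hiff l).1 hxl
  obtain ⟨i, j, H⟩ := exists_idx l
  have hsum : ψ i * x i + ψ j * x j = 0 := by
    have h0 := h.orth
    rw [dotProduct, H.sum, hxl, mul_zero, add_zero] at h0
    exact h0
  have hxi : x i ≠ 0 := fun e => by
    rw [e, mul_zero, zero_add] at hsum
    have hxj : x j = 0 := (mul_eq_zero.1 hsum).elim (hiff j).2 id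
    refine hx (funext fun k => ?_)
    rcases H.all k with rfl | rfl | rfl <;> assumption
  have hψi : ψ i ≠ 0 := fun e => hxi ((hiff i).2 e)
  have hxj : x j ≠ 0 := fun e => by
    rw [e, mul_zero, add_zero] at hsum
    exact mul_ne_zero hψi hxi hsum
  have hψj : ψ j ≠ 0 := fun e => hxj ((hiff j).2 e)
  by_cases hbad : 1 + ψ j * x j = 0 ∧ 1 - ψ j * x j = 0
  · have h2 : (2 : F) = 0 := by linear_combination hbad.1 + hbad.2
    refine Or.inr ⟨h2, Equiv.swap i j, fun k => if k = i then Units.mk0 (ψ i * x j) (mul_ne_zero hψi hxj)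
      else if k = j then Units.mk0 (ψ j * x i) (mul_ne_zero hψj hxi) else 1, ?_⟩
    refine gl_ext_vec fun v => funext fun k => ?_
    rw [tv_mulVec, mon_mulVec, Equiv.symm_swap, Pi.add_apply, Pi.smul_apply, smul_eq_mul, dotProduct, H.sum, hψl,
      zero_mul, add_zero]
    rcases H.all k with rfl | rfl | rfl
    · rw [Equiv.swap_apply_left, if_neg H.ij.symm, if_pos rfl, Units.val_mk0]
      linear_combination v k * hsum + v k * hbad.2
    · rw [Equiv.swap_apply_right, if_pos rfl, Units.val_mk0]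
      linear_combination v k * hbad.1
    · rw [Equiv.swap_apply_of_ne_of_ne H.il.symm H.jl.symm, if_neg H.il.symm, if_neg H.jl.symm, hxl]
      simp
  left
  let σ : Equiv.Perm (Fin 3) := Equiv.swap i j * Equiv.swap j l
  have σi : σ.symm j = i := by
    rw [Equiv.symm_apply_eq, Equiv.Perm.mul_apply, Equiv.swap_apply_of_ne_of_ne H.ij H.il, Equiv.swap_apply_left]
  have σj : σ.symm l = j := by
    rw [Equiv.symm_apply_eq, Equiv.Perm.mul_apply, Equiv.swap_apply_left, Equiv.swap_apply_of_ne_of_ne H.il.symm H.jl.symm]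
  have σl : σ.symm i = l := by
    rw [Equiv.symm_apply_eq, Equiv.Perm.mul_apply, Equiv.swap_apply_right, Equiv.swap_apply_right]
  have hσ : (mon σ fun _ => 1 : GL (Fin 3) F) ∈ M := by
    refine hN _ _ (mon_mem_SL ?_)
    rw [map_mul, Equiv.Perm.sign_swap H.ij, Equiv.Perm.sign_swap H.jl]
    simp
  have h1 := (h.conj hσ).conj h.2
  set x' := ((mon σ fun _ => 1 : GL (Fin 3) F) : Matrix (Fin 3) (Fin 3) F) *ᵥ x with hx'
  set ψ' := ψ ᵥ* (((mon σ fun _ => 1 : GL (Fin 3) F)⁻¹ : GL (Fin 3) F) : Matrix (Fin 3) (Fin 3) F) with hψ'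
  have xi' : x' i = 0 := by rw [hx', mon_mulVec, σl, hxl, mul_zero]
  have xj' : x' j = x i := by rw [hx', mon_mulVec, σi, Units.val_one, one_mul]
  have xl' : x' l = x j := by rw [hx', mon_mulVec, σj, Units.val_one, one_mul]
  have pi' : ψ' i = 0 := by rw [hψ', mon_vecMul_inv, σl, hψl, zero_mul]
  have pj' : ψ' j = ψ i := by rw [hψ', mon_vecMul_inv, σi, Units.val_one, inv_one, mul_one]
  have pl' : ψ' l = ψ j := by rw [hψ', mon_vecMul_inv, σj, Units.val_one, inv_one, mul_one]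
  have b1 : ψ ⬝ᵥ x' = ψ j * x i := by rw [dotProduct, H.sum, xi', xj', hψl]; ring
  have b2 : ψ' ⬝ᵥ x = ψ i * x j := by rw [dotProduct, H.sum, pi', pj', hxl]; ring
  rw [tv_mulVec, b1] at h1
  have eax : ψ' ᵥ* (((tv x ψ h.orth)⁻¹ : GL (Fin 3) F) : Matrix (Fin 3) (Fin 3) F) = ψ' - (ψ i * x j) • ψ := by
    show ψ' ᵥ* (1 - vecMulVec x ψ) = _
    rw [vecMul_sub, vecMul_one, vecMul_vecMulVec, b2]
  rw [eax] at h1
  obtain ⟨X, hX⟩ : ∃ X, X = x' + (ψ j * x i) • x := ⟨_, rfl⟩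
  obtain ⟨Ψ, hΨ⟩ : ∃ Ψ, Ψ = ψ' - (ψ i * x j) • ψ := ⟨_, rfl⟩
  rw [← hX, ← hΨ] at h1
  have Xi : X i ≠ 0 := by
    rw [hX, Pi.add_apply, Pi.smul_apply, xi', zero_add]; exact mul_ne_zero (mul_ne_zero hψj hxi) hxi
  have Xl : X l ≠ 0 := by rw [hX, Pi.add_apply, Pi.smul_apply, xl', hxl, smul_zero, add_zero]; exact hxj
  have Pl : Ψ l ≠ 0 := by rw [hΨ, Pi.sub_apply, Pi.smul_apply, pl', hψl, smul_zero, sub_zero]; exact hψj
  have Pi' : Ψ i ≠ 0 := by
    rw [hΨ, Pi.sub_apply, Pi.smul_apply, pi', zero_sub, neg_ne_zero]; exact mul_ne_zero (mul_ne_zero hψi hxj) hψi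
  have Xj : X j = x i * (1 + ψ j * x j) := by rw [hX, Pi.add_apply, Pi.smul_apply, xj', smul_eq_mul]; ring
  have Pj : Ψ j = ψ i * (1 - ψ j * x j) := by rw [hΨ, Pi.sub_apply, Pi.smul_apply, pj', smul_eq_mul]; ring
  by_cases hXj : X j = 0
  · refine good_of_zero hN hν h1 (fun e => Xi (congrFun e i)) (fun e => Pl (congrFun e l)) (Or.inl ⟨hXj, ?_⟩)
    rw [Pj]
    refine mul_ne_zero hψi fun e => hbad ⟨?_, e⟩
    rw [Xj] at hXj
    exact (mul_eq_zero.1 hXj).resolve_left hxi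
  by_cases hPj : Ψ j = 0
  · exact good_of_zero hN hν h1 (fun e => Xi (congrFun e i)) (fun e => Pl (congrFun e l)) (Or.inr ⟨hXj, hPj⟩)
  refine good_of_full hN hν hν2 h1 (fun k => ?_) fun k => ?_
  · rcases H.all k with rfl | rfl | rfl <;> assumption
  · rcases H.all k with rfl | rfl | rfl <;> assumption

end CfsgLib.Perm.Trans.ThreeDim
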