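import Cfsg.Agent.Lib.Perm.Trans.ThreeDim.SingTvMax

/-!
# A transvection over the normaliser of a Singer cycle gives all transvections
-/

set_option autoImplicit false
set_option linter.all false

namespace CfsgLib.Perm.Trans.ThreeDim.SingTv

open scoped Classical Matrix
open Matrix Cfsg.Geo CfsgLib.Perm.Asch CfsgLib.Perm.Trans

variable {F : Type*} [Field F]

/-- coordinates in a frame -/
theorem exists_coeff {a b c : Fin 3 → F} (hli : LinearIndependent F ![a, b, c]) (v : Fin 3 → F) :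
    ∃ x y z : F, v = x • a + y • b + z • c := by
  obtain ⟨g, hg⟩ := (Submodule.mem_span_range_iff_exists_fun F).1
    (show v ∈ Submodule.span F (Set.range ![a, b, c]) by
      rw [hli.span_eq_top_of_card_eq_finrank (by simp)]; trivial)
  rw [Fin.sum_univ_three] at hg
  exact ⟨g 0, g 1, g 2, hg.symm⟩

/-- the determinant in a frame -/
theorem det_frame {g : GL (Fin 3) F} {a b c : Fin 3 → F} (hli : LinearIndependent F ![a, b, c]) {r s e f t : F}
    (ha : (g : Matrix (Fin 3) (Fin 3) F) *ᵥ a = a) (hb : (g : Matrix (Fin 3) (Fin 3) F) *ᵥ b = r • a + s • b)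
    (hc : (g : Matrix (Fin 3) (Fin 3) F) *ᵥ c = e • a + f • b + t • c) :
    (g : Matrix (Fin 3) (Fin 3) F).det = s * t := by
  obtain ⟨P, hP⟩ : ∃ P : Matrix (Fin 3) (Fin 3) F, P = (Matrix.of ![a, b, c])ᵀ := ⟨_, rfl⟩
  have hPd : P.det ≠ 0 := by
    rw [hP, det_transpose]
    exact ((Matrix.isUnit_iff_isUnit_det _).1 (Matrix.linearIndependent_rows_iff_isUnit.1 hli)).ne_zero
  have hgP : (g : Matrix (Fin 3) (Fin 3) F) * P = P * !![1, r, e; 0, s, f; 0, 0, t] := by
    ext i j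
    have hcol : ((g : Matrix (Fin 3) (Fin 3) F) * P) i j = ((g : Matrix (Fin 3) (Fin 3) F) *ᵥ (![a, b, c] j)) i := by
      rw [hP]; rfl
    rw [hcol, hP]
    fin_cases j <;> simp [ha, hb, hc, Matrix.mul_apply, Fin.sum_univ_three, mul_comm]
  have h := congrArg Matrix.det hgP
  rw [det_mul, det_mul, mul_comm P.det] at h
  rw [mul_right_cancel₀ hPd h, det_fin_three]
  simp

/-- an element acting trivially on a point and on its quotient is a transvection -/
theorem exists_tv {h : GL (Fin 3) F} {x : Fin 3 → F} (hx : x ≠ 0) (hhx : (h : Matrix (Fin 3) (Fin 3) F) *ᵥ x = x)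
    (hq : ∀ v, ∃ c : F, (h : Matrix (Fin 3) (Fin 3) F) *ᵥ v = v + c • x) :
    ∃ (φ : Fin 3 → F) (h0 : φ ⬝ᵥ x = 0), h = tv x φ h0 := by
  choose c hc using hq
  have hall : ∀ v, (h : Matrix (Fin 3) (Fin 3) F) *ᵥ v = v + ((fun k => c (Pi.single k 1)) ⬝ᵥ v) • x := by
    intro v
    have hcol : (h : Matrix (Fin 3) (Fin 3) F) = 1 + vecMulVec x (fun k => c (Pi.single k 1)) := by
      ext i k
      rw [← show ((h : Matrix (Fin 3) (Fin 3) F) *ᵥ Pi.single k 1) i = (h : Matrix (Fin 3) (Fin 3) F) i k by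
        rw [mulVec_single_one]; rfl, hc, Pi.add_apply, Pi.smul_apply, Matrix.add_apply, vecMulVec_apply,
        Pi.single_apply, Matrix.one_apply, smul_eq_mul, mul_comm]
    rw [hcol, add_mulVec, one_mulVec, vecMulVec_mulVec, op_smul_eq_smul]
  have h0 : (fun k => c (Pi.single k 1)) ⬝ᵥ x = 0 := by
    have h1 := hall x
    rw [hhx, left_eq_add, smul_eq_zero] at h1
    exact h1.resolve_right hx
  exact ⟨_, h0, gl_ext_vec fun v => by rw [tv_mulVec, hall]⟩

variable [Fintype F]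

/-- an orbit bound -/
theorem orbit_bound (M : Subgroup (GL (Fin 3) F)) (a : Fin 3 → F) (s : Finset (Fin 3 → F))
    (hs : ∀ g ∈ M, (g : Matrix (Fin 3) (Fin 3) F) *ᵥ a ∈ s) (m : ℕ)
    (hm : ∀ T : Finset (GL (Fin 3) F), (∀ g ∈ T, g ∈ M ∧ (g : Matrix (Fin 3) (Fin 3) F) *ᵥ a = a) → T.card ≤ m) :
    Nat.card M ≤ s.card * m := by
  haveI : Fintype (GL (Fin 3) F) := Fintype.ofFinite _
  rw [Nat.card_eq_fintype_card, Fintype.card_subtype, mul_comm]
  refine le_trans (Finset.card_le_mul_card_image (f := fun g : GL (Fin 3) F => (g : Matrix (Fin 3) (Fin 3) F) *ᵥ a) _ m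
    fun v hv => ?_) (Nat.mul_le_mul_left _ (Finset.card_le_card fun v hv => ?_))
  · obtain ⟨g0, hg0, rfl⟩ := Finset.mem_image.1 hv
    simp only [Finset.mem_filter, Finset.mem_univ, true_and] at hg0
    rw [← Finset.card_image_of_injective _ (mul_right_injective g0⁻¹)]
    refine hm _ fun g hg => ?_
    obtain ⟨g', hg', rfl⟩ := Finset.mem_image.1 hg
    simp only [Finset.mem_filter, Finset.mem_univ, true_and] at hg'
    exact ⟨M.mul_mem (M.inv_mem hg0) hg'.1, by rw [gl_mul_mulVec, hg'.2, gl_inv_mulVec]⟩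
  · obtain ⟨g, hg, rfl⟩ := Finset.mem_image.1 hv
    simp only [Finset.mem_filter, Finset.mem_univ, true_and] at hg
    exact hs g hg

variable {M : Subgroup (GL (Fin 3) F)}

theorem card_cng_fin (u : Fin 3 → F) :
    (Finset.univ.filter fun φ => Has M u φ).card = Nat.card (cng M u) := by
  rw [← Fintype.card_coe, ← Nat.card_eq_fintype_card]
  exact Nat.card_congr (Equiv.subtypeEquivRight fun φ => by simp [mem_cng])

/-- a centre with four functionals -/
theorem bound_four {u : Fin 3 → F} (hu : Cen M u) (h4 : Nat.card (cng M u) = 4)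
    (h2 : ∀ ψ, ψ ≠ 0 → Has M u ψ → Nat.card (hsub M u ψ) = 2) : Nat.card M ≤ (cens M).card * 24 := by
  obtain ⟨B, hB⟩ : ∃ B : Finset (Fin 3 → F), B = (Finset.univ.filter fun φ => Has M u φ).erase 0 := ⟨_, rfl⟩
  have hBm : ∀ φ, φ ∈ B ↔ φ ≠ 0 ∧ Has M u φ := fun φ => by simp [hB]
  have hB3 : B.card = 3 := by
    rw [hB, Finset.card_erase_of_mem (by simp [has_zero_right]), card_cng_fin, h4]
  obtain ⟨φ1, hφ1, φ2, hφ2, hne⟩ := Finset.one_lt_card.1 (show 1 < B.card by omega)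
  obtain ⟨h10, h1⟩ := (hBm _).1 hφ1
  obtain ⟨h20, h2'⟩ := (hBm _).1 hφ2
  have hnp : ∀ c : F, φ2 ≠ c • φ1 := by
    rintro c rfl
    have hc : c ∈ hsub M u φ1 := (has_smul_iff u φ1).2 h2'
    have h11 : (1 : F) ∈ hsub M u φ1 := by rw [mem_hsub, one_smul]; exact h1
    obtain ⟨x, y, hxy, hset⟩ := Nat.card_eq_two_iff.1 (h2 φ1 h10 h1)
    have hall : ∀ z : hsub M u φ1, z = x ∨ z = y := fun z => by
      have := Set.mem_univ z
      rw [← hset] at this
      exact this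
    have hc1 : c ≠ 1 := fun e => hne (by rw [e, one_smul])
    have hc0 : c ≠ 0 := fun e => h20 (by rw [e, zero_smul])
    rcases hall 0 with e0 | e0 <;> rcases hall ⟨1, h11⟩ with e1 | e1 <;> rcases hall ⟨c, hc⟩ with ec | ec <;>
      first
      | exact one_ne_zero (congrArg Subtype.val (e1.trans e0.symm))
      | exact hc0 (congrArg Subtype.val (ec.trans e0.symm))
      | exact hc1 (congrArg Subtype.val (ec.trans e1.symm))
  refine orbit_bound M u _ (fun g hg => mem_cens.2 (hu.conj hg)) 24 fun T hT => ?_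
  let P : GL (Fin 3) F → (Fin 3 → F) × (Fin 3 → F) := fun g =>
    (φ1 ᵥ* (g : Matrix (Fin 3) (Fin 3) F), φ2 ᵥ* (g : Matrix (Fin 3) (Fin 3) F))
  have himg : (T.image P).card ≤ 6 := by
    refine le_trans (Finset.card_le_card (t := B.offDiag) fun x hx => ?_) (by rw [Finset.offDiag_card, hB3])
    obtain ⟨g, hg, rfl⟩ := Finset.mem_image.1 hx
    obtain ⟨hgM, hgu⟩ := hT g hg
    have hmove : ∀ φ, φ ≠ 0 → Has M u φ → φ ᵥ* (g : Matrix (Fin 3) (Fin 3) F) ∈ B := fun φ h0 h => by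
      refine (hBm _).2 ⟨fun e => h0 ?_, ?_⟩
      · have := congrArg (fun v => v ᵥ* ((g⁻¹ : GL (Fin 3) F) : Matrix (Fin 3) (Fin 3) F)) e
        simpa only [vecMul_vecMul, Units.mul_inv, vecMul_one, zero_vecMul] using this
      · have h' := h.conj (M.inv_mem hgM)
        rw [inv_inv] at h'
        rwa [show ((g⁻¹ : GL (Fin 3) F) : Matrix (Fin 3) (Fin 3) F) *ᵥ u = u by
          conv_lhs => rw [← hgu, gl_inv_mulVec]] at h'
    refine Finset.mem_offDiag.2 ⟨hmove φ1 h10 h1, hmove φ2 h20 h2', fun e => hne ?_⟩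
    have := congrArg (fun v => v ᵥ* ((g⁻¹ : GL (Fin 3) F) : Matrix (Fin 3) (Fin 3) F)) e
    simpa only [P, vecMul_vecMul, Units.mul_inv, vecMul_one] using this
  refine le_trans (Finset.card_le_mul_card_image (f := P) T 4 fun x hx => ?_)
    ((Nat.mul_le_mul_left 4 himg).trans (by norm_num))
  obtain ⟨g0, hg0, rfl⟩ := Finset.mem_image.1 hx
  let f : (Fin 3 → F) → GL (Fin 3) F := fun φ => if h : φ ⬝ᵥ u = 0 then tv u φ h * g0 else 1
  refine le_trans (Finset.card_le_card (t := (Finset.univ.filter fun φ => Has M u φ).image f) fun g hg => ?_)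
    (Finset.card_image_le.trans (by rw [card_cng_fin, h4]))
  simp only [Finset.mem_filter, P, Prod.mk.injEq] at hg
  obtain ⟨hgT, e1, e2⟩ := hg
  obtain ⟨hgM, hgu⟩ := hT g hgT
  obtain ⟨hg0M, hg0u⟩ := hT g0 hg0
  have hfix : ((g * g0⁻¹ : GL (Fin 3) F) : Matrix (Fin 3) (Fin 3) F) *ᵥ u = u := by
    conv_lhs => rw [gl_mul_mulVec, show ((g0⁻¹ : GL (Fin 3) F) : Matrix (Fin 3) (Fin 3) F) *ᵥ u = u by
      conv_lhs => rw [← hg0u, gl_inv_mulVec], hgu]
  have hkill : ∀ φ, φ ᵥ* (g : Matrix (Fin 3) (Fin 3) F) = φ ᵥ* (g0 : Matrix (Fin 3) (Fin 3) F) → ∀ v,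
      φ ⬝ᵥ (((g * g0⁻¹ : GL (Fin 3) F) : Matrix (Fin 3) (Fin 3) F) *ᵥ v - v) = 0 := fun φ e v => by
    rw [dotProduct_sub, dotProduct_mulVec, Units.val_mul, ← vecMul_vecMul, e, vecMul_vecMul, Units.mul_inv, vecMul_one,
      sub_self]
  obtain ⟨χ, h0, hχ⟩ := exists_tv hu.1 hfix fun v => by
    obtain ⟨d, hd⟩ : ∃ d, d = ((g * g0⁻¹ : GL (Fin 3) F) : Matrix (Fin 3) (Fin 3) F) *ᵥ v - v := ⟨_, rfl⟩
    by_cases hli : LinearIndependent F ![u, d]
    · obtain ⟨c, hc⟩ := prop_of_vanish h10 hli h2'.orth (hd ▸ hkill φ2 e2 v) h1.orth (hd ▸ hkill φ1 e1 v)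
      exact absurd hc (hnp c)
    · rw [LinearIndependent.pair_iff' hu.1] at hli
      push Not at hli
      obtain ⟨c, hc⟩ := hli
      exact ⟨c, by rw [hc, hd]; abel⟩
  refine Finset.mem_image.2 ⟨χ, Finset.mem_filter.2 ⟨Finset.mem_univ _, h0, ?_⟩, ?_⟩
  · rw [← hχ]; exact M.mul_mem hgM (M.inv_mem hg0M)
  · simp only [f, dif_pos h0]
    rw [← hχ, inv_mul_cancel_right]

/-- a centre and an axis with one transvection -/
theorem bound_two (hM : M ≤ specialLinear (Fin 3) F) {u ψ : Fin 3 → F} (hu : u ≠ 0) (hψ : ψ ≠ 0) (h : Has M u ψ)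
    (hc : Nat.card (cng M u) = 2) (ha : Nat.card (axg M ψ) = 2) :
    Nat.card M ≤ (cens M).card * (2 * Fintype.card F) := by
  have hψg : ∀ g ∈ M, (g : Matrix (Fin 3) (Fin 3) F) *ᵥ u = u → ψ ᵥ* (g : Matrix (Fin 3) (Fin 3) F) = ψ := by
    intro g hg hgu
    have h' := h.conj (M.inv_mem hg)
    rw [inv_inv, show ((g⁻¹ : GL (Fin 3) F) : Matrix (Fin 3) (Fin 3) F) *ᵥ u = u by
      conv_lhs => rw [← hgu, gl_inv_mulVec]] at h'
    obtain ⟨x, y, hxy, hset⟩ := Nat.card_eq_two_iff.1 hc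
    have hall : ∀ z : cng M u, z = x ∨ z = y := fun z => by
      have := Set.mem_univ z
      rw [← hset] at this
      exact this
    have hne : ψ ᵥ* (g : Matrix (Fin 3) (Fin 3) F) ≠ 0 := fun e => hψ (by
      have := congrArg (fun v => v ᵥ* ((g⁻¹ : GL (Fin 3) F) : Matrix (Fin 3) (Fin 3) F)) e
      simpa only [vecMul_vecMul, Units.mul_inv, vecMul_one, zero_vecMul] using this)
    rcases hall 0 with e0 | e0 <;> rcases hall ⟨ψ, h⟩ with e1 | e1 <;> rcases hall ⟨_, h'⟩ with e2 | e2 <;>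
      first
      | exact absurd (congrArg Subtype.val (e1.trans e0.symm)) hψ
      | exact absurd (congrArg Subtype.val (e2.trans e0.symm)) hne
      | exact congrArg Subtype.val (e2.trans e1.symm)
  -- a frame
  obtain ⟨b, hbψ, hbu⟩ : ∃ b ∈ LinearMap.ker (fnl ψ), b ∉ Submodule.span F {u} := by
    refine SetLike.not_le_iff_exists.1 fun hle => ?_
    have := Submodule.finrank_mono hle
    rw [finrank_ker_fnl hψ, finrank_span_singleton hu] at this
    omega
  replace hbψ : ψ ⬝ᵥ b = 0 := LinearMap.mem_ker.1 hbψ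
  obtain ⟨k, hk⟩ := Function.ne_iff.1 hψ
  obtain ⟨c, hcψ⟩ : ∃ c, ψ ⬝ᵥ c = 1 := ⟨(ψ k)⁻¹ • Pi.single k 1, by
    rw [dotProduct_smul, dotProduct_single, mul_one, smul_eq_mul, inv_mul_cancel₀ (by simpa using hk)]⟩
  have hli : LinearIndependent F ![u, b, c] := by
    rw [Fintype.linearIndependent_iff]
    intro z hz
    rw [Fin.sum_univ_three] at hz
    simp only [Matrix.cons_val_zero, Matrix.cons_val_one, Matrix.cons_val] at hz
    have e2 := congrArg (fun v => ψ ⬝ᵥ v) hz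
    simp only [dotProduct_add, dotProduct_smul, h.orth, hbψ, hcψ, smul_eq_mul, mul_zero, mul_one, zero_add,
      dotProduct_zero] at e2
    rw [e2, zero_smul, add_zero] at hz
    have e1 : z 1 = 0 := by
      by_contra h1
      refine hbu (Submodule.mem_span_singleton.2 ⟨-(z 0 / z 1), ?_⟩)
      rw [neg_smul, ← sub_eq_zero, ← smul_eq_zero_iff_right h1, smul_sub, smul_neg, smul_smul, mul_div_cancel₀ _ h1]
      linear_combination (norm := module) -hz
    rw [e1, zero_smul, add_zero, smul_eq_zero] at hz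
    intro i
    fin_cases i
    · exact hz.resolve_right hu
    · exact e1
    · exact e2
  refine orbit_bound M u _ (fun g hg => mem_cens.2 ((show Cen M u from ⟨hu, ψ, hψ, h⟩).conj hg)) _ fun T hT => ?_
  -- the image of `b`
  have hgb : ∀ g ∈ T, ∃ r : F, (g : Matrix (Fin 3) (Fin 3) F) *ᵥ b = r • u + b := by
    intro g hg
    obtain ⟨hgM, hgu⟩ := hT g hg
    obtain ⟨r, s, z, hrs⟩ := exists_coeff hli ((g : Matrix (Fin 3) (Fin 3) F) *ᵥ b)
    obtain ⟨e, f, t, het⟩ := exists_coeff hli ((g : Matrix (Fin 3) (Fin 3) F) *ᵥ c)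
    have hz : z = 0 := by
      have := congrArg (fun v => ψ ⬝ᵥ v) hrs
      simpa only [dotProduct_mulVec, hψg g hgM hgu, dotProduct_add, dotProduct_smul, h.orth, hbψ, hcψ, smul_eq_mul,
        mul_zero, mul_one, zero_add, eq_comm] using this
    have ht : t = 1 := by
      have := congrArg (fun v => ψ ⬝ᵥ v) het
      simpa only [dotProduct_mulVec, hψg g hgM hgu, dotProduct_add, dotProduct_smul, h.orth, hbψ, hcψ, smul_eq_mul,
        mul_zero, mul_one, zero_add, eq_comm] using this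
    rw [hz, zero_smul, add_zero] at hrs
    have hs : s = 1 := by
      have hd := det_frame hli hgu hrs het
      have h1 := congrArg Units.val (show Matrix.GeneralLinearGroup.det g = 1 from hM hgM)
      rw [Matrix.GeneralLinearGroup.val_det_apply, Units.val_one, hd, ht, mul_one] at h1
      exact h1
    exact ⟨r, by rw [hrs, hs, one_smul]⟩
  choose! r hr using hgb
  refine le_trans (Finset.card_le_mul_card_image (f := r) T 2 fun x hx => ?_)
    (Nat.mul_le_mul_left 2 ((Finset.card_le_univ _).trans le_rfl))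
  obtain ⟨g0, hg0, rfl⟩ := Finset.mem_image.1 hx
  let F2 : (Fin 3 → F) → GL (Fin 3) F := fun z => if h : ψ ⬝ᵥ z = 0 then g0 * tv z ψ h else 1
  refine le_trans (Finset.card_le_card (t := (Finset.univ.filter fun z => Has M z ψ).image F2) fun g hg => ?_)
    (Finset.card_image_le.trans (le_of_eq ?_))
  swap
  · rw [← ha, ← Fintype.card_coe, ← Nat.card_eq_fintype_card]
    exact Nat.card_congr (Equiv.subtypeEquivRight fun z => by simp [mem_axg])
  obtain ⟨hgT, hre⟩ := Finset.mem_filter.1 hg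
  obtain ⟨hgM, hgu⟩ := hT g hgT
  obtain ⟨hg0M, hg0u⟩ := hT g0 hg0
  obtain ⟨w, hw⟩ : ∃ w, w = g0⁻¹ * g := ⟨_, rfl⟩
  have hwM : w ∈ M := hw ▸ M.mul_mem (M.inv_mem hg0M) hgM
  have hwu : (w : Matrix (Fin 3) (Fin 3) F) *ᵥ u = u := by
    rw [hw, gl_mul_mulVec, hgu]
    conv_lhs => rw [← hg0u, gl_inv_mulVec]
  have hwb : (w : Matrix (Fin 3) (Fin 3) F) *ᵥ b = b := by
    rw [hw, gl_mul_mulVec, hr g hgT, hre, ← hr g0 hg0, gl_inv_mulVec]
  have hwψ : ∀ v, ψ ⬝ᵥ ((w : Matrix (Fin 3) (Fin 3) F) *ᵥ v) = ψ ⬝ᵥ v := fun v => by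
    rw [dotProduct_mulVec, hψg w hwM hwu]
  obtain ⟨z, hz⟩ : ∃ z, z = (w : Matrix (Fin 3) (Fin 3) F) *ᵥ c - c := ⟨_, rfl⟩
  have hz0 : ψ ⬝ᵥ z = 0 := by rw [hz, dotProduct_sub, hwψ, sub_self]
  have hwt : tv z ψ hz0 = w := gl_ext_vec fun v => by
    obtain ⟨x, y, t, rfl⟩ := exists_coeff hli v
    rw [tv_mulVec, mulVec_add, mulVec_add, mulVec_smul, mulVec_smul, mulVec_smul, hwu, hwb, dotProduct_add, dotProduct_add,
      dotProduct_smul, dotProduct_smul, dotProduct_smul, h.orth, hbψ, hcψ, smul_zero, smul_zero, zero_add, zero_add,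
      smul_eq_mul, mul_one, hz, smul_sub]
    abel
  refine Finset.mem_image.2 ⟨z, Finset.mem_filter.2 ⟨Finset.mem_univ _, hz0, by rw [hwt]; exact hwM⟩, ?_⟩
  simp only [F2, dif_pos hz0]
  rw [hwt, hw, mul_inv_cancel_left]

/-- All transvections, in a large group with a transvection and a free subgroup of the order of a Singer cycle. -/
theorem fullSub_of_free (h4 : Fintype.card F ≠ 4) (hM : M ≤ specialLinear (Fin 3) F) (hC : FreeSub M)
    (hbig : 3 * pts F * (pts F / 3 + 1) ≤ Nat.card M) {w ψ : Fin 3 → F} (hw : w ≠ 0) (hψ : ψ ≠ 0) (h : Has M w ψ) :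
    fullSub M = ⊤ := by
  obtain ⟨p, hchar⟩ := CharP.exists F
  obtain ⟨⟨f, hf⟩, hp, hq⟩ := FiniteField.card F p
  rw [PNat.mk_coe] at hq
  have h' : Has (dualGrp M) ψ w := has_dual.2 h
  have hcase : (∀ v, v ≠ 0 → Cen M v) ∧ (∀ v, v ≠ 0 → Cen (dualGrp M) v) ∨
      (p = 2 ∧ 3 ∣ Fintype.card F - 1 ∧ (Small M ∨ Small (dualGrp M))) := by
    rcases dichotomy hp hq hC hψ hw h with h1 | ⟨a, b, c⟩
    · rcases dichotomy hp hq (freeSub_dual hC) hw hψ h' with h2 | ⟨a, b, c⟩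
      · exact Or.inl ⟨h1, h2⟩
      · exact Or.inr ⟨a, b, Or.inr c⟩
    · exact Or.inr ⟨a, b, Or.inl c⟩
  rcases hcase with ⟨h1, h2⟩ | ⟨rfl, h3, hs⟩
  · exact full_of_all hp hq h1 h2
  exfalso
  have hf4 : 4 ≤ f := by
    rw [hq] at h3 h4
    rcases f with _ | _ | _ | _ | f
    · omega
    · norm_num at h3
    · norm_num at h4
    · norm_num at h3
    · omega
  have hq16 : 16 ≤ Fintype.card F := by
    rw [hq]
    calc (16 : ℕ) = 2 ^ 4 := by norm_num
      _ ≤ 2 ^ f := Nat.pow_le_pow_right two_pos hf4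
  have hcw : Cen M w := ⟨hw, ψ, hψ, h⟩
  have hcψ : Cen (dualGrp M) ψ := ⟨hψ, w, hw, h'⟩
  -- both sides are small
  obtain ⟨hs1, hs2⟩ : Small M ∧ Small (dualGrp M) := by
    rcases hs with hs | hs
    · rcases dichotomy hp hq (freeSub_dual hC) hw hψ h' with h2 | ⟨-, -, c⟩
      · exact (small_not_all (by omega) hq hC hs hcw h2).elim
      · exact ⟨hs, c⟩
    · rcases dichotomy hp hq hC hψ hw h with h2 | ⟨-, -, c⟩
      · refine (small_not_all (by omega) hq (freeSub_dual hC) hs hcψ fun v hv => ?_).elim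
        obtain ⟨hv0, φ, hφ, hh⟩ := h2 v hv
        exact cen_dual.2 ⟨hv0, φ, hφ, has_dual.2 hh⟩
      · exact ⟨c, hs⟩
  -- the order of the group is too small
  obtain ⟨m, hm, hle⟩ : ∃ m, (m ≤ 24 ∨ m ≤ 2 * Fintype.card F) ∧ 3 * Nat.card M ≤ (Fintype.card F ^ 3 - 1) * m := by
    have hax := (small_two (by omega) hq hC hs1 hcw hcψ h.orth).2
    have hax' := (small_two (by omega) hq (freeSub_dual hC) hs2 hcψ
      (cen_dual.2 ⟨hw, ψ, hψ, h'⟩) (show w ⬝ᵥ ψ = 0 by rw [dotProduct_comm]; exact h.orth)).2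
    rw [axg_dual] at hax'
    rcases hax' with hc2 | hc4
    · rcases hax with ha2 | ha4
      · refine ⟨2 * Fintype.card F, Or.inr le_rfl, ?_⟩
        have := bound_two hM hw hψ h hc2 ha2
        rw [← (show 3 * (cens M).card = _ from hs1), mul_assoc]
        exact Nat.mul_le_mul_left 3 this
      · refine ⟨24, Or.inl le_rfl, ?_⟩
        have hb := bound_four (M := dualGrp M) hcψ (by rw [cng_dual]; exact ha4) fun φ hφ hh =>
          (small_two (by omega) hq (freeSub_dual hC) hs2 hcψ (cen_dual.2 ⟨hφ, ψ, hψ, hh⟩)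
            hh.orth).1
        rw [card_dual] at hb
        rw [← (show 3 * (cens (dualGrp M)).card = _ from hs2), mul_assoc]
        exact Nat.mul_le_mul_left 3 hb
    · refine ⟨24, Or.inl le_rfl, ?_⟩
      have hb := bound_four hcw hc4 fun φ hφ hh =>
        (small_two (by omega) hq hC hs1 hcw (cen_dual.2 ⟨hφ, w, hw, hh⟩) hh.orth).1
      rw [← (show 3 * (cens M).card = _ from hs1), mul_assoc]
      exact Nat.mul_le_mul_left 3 hb
  obtain ⟨Q, hQ⟩ : ∃ Q, Q = Fintype.card F := ⟨_, rfl⟩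
  have hpts : 0 < pts F := Nat.succ_pos _
  have h1 : pts F * (9 * (pts F / 3 + 1)) ≤ pts F * ((Fintype.card F - 1) * m) := by
    calc pts F * (9 * (pts F / 3 + 1)) = 3 * (3 * pts F * (pts F / 3 + 1)) := by ring
      _ ≤ 3 * Nat.card M := Nat.mul_le_mul_left 3 hbig
      _ ≤ _ := hle
      _ = _ := by rw [← pts_mul]; ring
  replace h1 := Nat.le_of_mul_le_mul_left h1 hpts
  have h9 : 3 * pts F + 3 ≤ 9 * (pts F / 3 + 1) := by omega
  rw [pts, ← hQ] at h9
  rw [pts, ← hQ] at h1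
  rw [← hQ] at hq16 hm
  obtain ⟨r, rfl⟩ : ∃ r, Q = r + 16 := ⟨Q - 16, by omega⟩
  rw [show r + 16 - 1 = r + 15 by omega] at h1
  rcases hm with hm | hm <;> nlinarith

end CfsgLib.Perm.Trans.ThreeDim.SingTv
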