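import Cfsg.Agent.Lib.Perm.Trans.ThreeDim.SingTvBase

/-!
# Groups with a transvection and a free subgroup of order `q²+q+1`

Either every point is a centre and every plane an axis, and then all transvections occur, or the group
is too small to contain the normaliser of a Singer cycle properly.
-/

set_option autoImplicit false
set_option linter.all false

namespace CfsgLib.Perm.Trans.ThreeDim.SingTv

open scoped Classical Matrix
open Matrix Cfsg.Geo CfsgLib.Perm.Asch CfsgLib.Perm.Trans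

variable {F : Type*} [Field F] [Fintype F]

/-- the number of points of the plane -/
def pts (F : Type*) [Fintype F] : ℕ := Fintype.card F ^ 2 + Fintype.card F + 1

theorem pts_mul : (Fintype.card F - 1) * pts F = Fintype.card F ^ 3 - 1 := by
  obtain ⟨r, hr⟩ : ∃ r, Fintype.card F = r + 1 := ⟨Fintype.card F - 1, by have := Fintype.card_pos (α := F); omega⟩
  rw [pts, hr, Nat.add_sub_cancel, show (r + 1) ^ 3 = r * ((r + 1) ^ 2 + (r + 1) + 1) + 1 by ring, Nat.add_sub_cancel]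

theorem gcd_pts : Nat.gcd (Fintype.card F - 1) (pts F) = Nat.gcd (Fintype.card F - 1) 3 := by
  obtain ⟨r, hr⟩ : ∃ r, Fintype.card F = r + 1 := ⟨Fintype.card F - 1, by have := Fintype.card_pos (α := F); omega⟩
  rw [pts, hr, Nat.add_sub_cancel, show (r + 1) ^ 2 + (r + 1) + 1 = 3 + r * (r + 3) by ring, Nat.gcd_add_mul_left_right]

/-- a subgroup of the order of a Singer cycle, fixing no vector -/
def FreeSub (M : Subgroup (GL (Fin 3) F)) : Prop :=
  ∃ C : Subgroup (GL (Fin 3) F), C ≤ M ∧ Nat.card C = pts F ∧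
    ∀ g ∈ C, ∀ v : Fin 3 → F, v ≠ 0 → (g : Matrix (Fin 3) (Fin 3) F) *ᵥ v = v → g = 1

theorem freeSub_dual {M : Subgroup (GL (Fin 3) F)} (h : FreeSub M) : FreeSub (dualGrp M) := by
  obtain ⟨C, hC, hcard, hfree⟩ := h
  refine ⟨dualGrp C, Subgroup.map_mono hC, by rw [card_dual, hcard], ?_⟩
  rintro _ ⟨g, hg, rfl⟩ v hv hgv
  obtain ⟨w, hw, hgw⟩ := (Matrix.exists_mulVec_eq_zero_iff
    (M := ((g⁻¹ : GL (Fin 3) F) : Matrix (Fin 3) (Fin 3) F) - 1)).2 (by
      rw [← det_transpose, transpose_sub, transpose_one]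
      exact Matrix.exists_mulVec_eq_zero_iff.1 ⟨v, hv, by rw [sub_mulVec, ← ctr_val, hgv, one_mulVec, sub_self]⟩)
  rw [sub_mulVec, one_mulVec, sub_eq_zero] at hgw
  rw [← inv_inv g, hfree g⁻¹ (C.inv_mem hg) w hw hgw, inv_one, map_one]

variable {M : Subgroup (GL (Fin 3) F)}

/-- scalar invariant sets invariant under the free subgroup -/
theorem dvd_card_set (hC : FreeSub M) (s : Finset (Fin 3 → F)) (h0 : ∀ v ∈ s, v ≠ 0)
    (hsc : ∀ v ∈ s, ∀ c : F, c ≠ 0 → c • v ∈ s)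
    (hM : ∀ v ∈ s, ∀ g ∈ M, (g : Matrix (Fin 3) (Fin 3) F) *ᵥ v ∈ s) :
    (Fintype.card F ^ 3 - 1) ∣ Nat.gcd (Fintype.card F - 1) 3 * s.card := by
  obtain ⟨C, hle, hcard, hfree⟩ := hC
  have h1 : Nat.card Fˣ ∣ s.card := free_dvd_finset (G := Fˣ) s (fun c v => (c : F) • v)
    (fun c v hv => hsc v hv c c.ne_zero) (fun v => by simp) (fun a b v => by simp [mul_smul]) fun c v hv h => by
      refine Units.ext (smul_left_injective F (h0 v hv) ?_)
      simpa using h
  have h2 : Nat.card C ∣ s.card := free_dvd_finset (G := C) s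
    (fun g v => ((g : GL (Fin 3) F) : Matrix (Fin 3) (Fin 3) F) *ᵥ v)
    (fun g v hv => hM v hv g (hle g.2)) (fun v => by simp) (fun a b v => by simp [mulVec_mulVec])
    fun g v hv h => Subtype.ext (hfree g g.2 v (h0 v hv) h)
  rw [hcard] at h2
  rw [Nat.card_units, Nat.card_eq_fintype_card] at h1
  rw [← pts_mul, ← gcd_pts, ← Nat.gcd_mul_lcm (Fintype.card F - 1) (pts F)]
  exact Nat.mul_dvd_mul_left _ (Nat.lcm_dvd h1 h2)

/-- the centres -/
noncomputable def cens (M : Subgroup (GL (Fin 3) F)) : Finset (Fin 3 → F) := Finset.univ.filter fun v => Cen M v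

theorem mem_cens {v : Fin 3 → F} : v ∈ cens M ↔ Cen M v := by simp [cens]

theorem card_vec_ne : (Finset.univ.filter fun v : Fin 3 → F => v ≠ 0).card = Fintype.card F ^ 3 - 1 := by
  rw [Finset.filter_ne', Finset.card_erase_of_mem (Finset.mem_univ _), Finset.card_univ, Fintype.card_fun, Fintype.card_fin]

theorem cens_le : (cens M).card ≤ Fintype.card F ^ 3 - 1 := by
  rw [← card_vec_ne]
  exact Finset.card_le_card fun v hv => Finset.mem_filter.2 ⟨Finset.mem_univ _, (mem_cens.1 hv).1⟩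

theorem all_of_card (h : Fintype.card F ^ 3 - 1 ≤ (cens M).card) (v : Fin 3 → F) (hv : v ≠ 0) : Cen M v := by
  have := Finset.eq_of_subset_of_card_le (s := cens M)
    (fun v hv => Finset.mem_filter.2 ⟨Finset.mem_univ _, (mem_cens.1 hv).1⟩)
    (by rw [card_vec_ne]; exact h)
  exact mem_cens.1 (this ▸ Finset.mem_filter.2 ⟨Finset.mem_univ _, hv⟩)

variable {p f : ℕ} (hp : p.Prime) (hq : Fintype.card F = p ^ f)
include hp hq

omit hp in
theorem q_ge : 2 ≤ Fintype.card F := Fintype.one_lt_card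

theorem f_pos : f ≠ 0 := fun h => by
  have := q_ge hq
  rw [hq, h, pow_zero] at this
  omega

theorem axg_pow (ψ : Fin 3 → F) : ∃ e, Nat.card (axg M ψ) = p ^ e := by
  have h := AddSubgroup.card_addSubgroup_dvd_card (axg M ψ)
  rw [Nat.card_fun, Nat.card_fin, Nat.card_eq_fintype_card (α := F), hq, ← pow_mul] at h
  obtain ⟨e, -, he⟩ := (Nat.dvd_prime_pow hp).1 h
  exact ⟨e, he⟩

theorem hsub_pow {v ψ : Fin 3 → F} (hψ : ψ ≠ 0) (hv : Cen M v) (hψv : ψ ⬝ᵥ v = 0) {w : Fin 3 → F} (hw : w ≠ 0)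
    (h : Has M w ψ) : ∃ a, Nat.card (hsub M v ψ) = p ^ a ∧ 1 ≤ a ∧ a ≤ f ∧ p ^ a ≤ Nat.card (axg M ψ) := by
  have hd := AddSubgroup.card_addSubgroup_dvd_card (hsub M v ψ)
  rw [Nat.card_eq_fintype_card (α := F), hq] at hd
  obtain ⟨a, haf, ha⟩ := (Nat.dvd_prime_pow hp).1 hd
  refine ⟨a, ha, Nat.pos_of_ne_zero fun e => ?_, haf, ?_⟩
  · rw [e, pow_zero, AddSubgroup.card_eq_one] at ha
    obtain ⟨c, hc, hh⟩ := extend hv hψ hw h hψv
    exact hc ((AddSubgroup.mem_bot).1 (ha ▸ mem_hsub.2 hh))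
  · rw [← ha]
    exact Nat.card_le_card_of_injective (fun c => (⟨c.1 • v, mem_hsub.1 c.2⟩ : axg M ψ))
      fun a b e => Subtype.ext (smul_left_injective F hv.1 (congrArg Subtype.val e))

theorem axg_ge {w ψ : Fin 3 → F} (hψ : ψ ≠ 0) (hw : w ≠ 0) (h : Has M w ψ) :
    ∃ e, Nat.card (axg M ψ) = p ^ e ∧ 1 ≤ e := by
  obtain ⟨e, he⟩ := axg_pow hp hq (M := M) ψ
  obtain ⟨a, -, ha, -, hle⟩ := hsub_pow hp hq hψ ⟨hw, ψ, hψ, h⟩ h.orth hw h
  refine ⟨e, he, Nat.pos_of_ne_zero fun e0 => ?_⟩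
  rw [he, e0, pow_zero] at hle
  have := Nat.one_lt_pow (show a ≠ 0 by omega) hp.one_lt
  omega

/-- the congruence for the number of centres -/
theorem cens_mod {w ψ : Fin 3 → F} (hψ : ψ ≠ 0) (hw : w ≠ 0) (h : Has M w ψ) : p ∣ (cens M).card + 1 := by
  haveI : Fact p.Prime := ⟨hp⟩
  obtain ⟨e, he, he1⟩ := axg_ge hp hq hψ hw h
  have hf := f_pos hp hq
  have hsum := sum_hsub (M := M) hψ
  rw [he, hq] at hsum
  have h1 := congrArg (fun n : ℕ => (n : ZMod p)) hsum
  simp only [Nat.cast_mul, Nat.cast_sum, Nat.cast_sub (Nat.one_le_pow _ _ hp.pos), Nat.cast_one, Nat.cast_pow,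
    ZMod.natCast_self, zero_pow (show e ≠ 0 by omega), zero_pow hf, zero_sub] at h1
  rw [Finset.sum_congr rfl (g := fun _ => (-1 : ZMod p)) fun v hv => by
    obtain ⟨hv1, hv2⟩ := mem_onAxis.1 hv
    obtain ⟨a, ha, ha1, -⟩ := hsub_pow hp hq hψ hv1 hv2 hw h
    rw [ha, Nat.cast_sub (Nat.one_le_pow _ _ hp.pos), Nat.cast_pow, ZMod.natCast_self, zero_pow (by omega),
      Nat.cast_one, zero_sub], Finset.sum_const, nsmul_eq_mul] at h1
  have h2 := axg_dvd (M := M) ψ
  rw [he] at h2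
  have h2' := (dvd_pow_self p (show e ≠ 0 by omega)).trans h2
  rw [← CharP.cast_eq_zero_iff (ZMod p) p] at h2'
  have hsplit : (cens M).card = (onAxis M ψ).card + (Finset.univ.filter fun v => Cen M v ∧ ψ ⬝ᵥ v ≠ 0).card := by
    rw [cens, onAxis, ← Finset.card_union_of_disjoint (Finset.disjoint_filter.2 fun v _ a b => b.2 a.2)]
    congr 1
    ext v
    simp only [Finset.mem_filter, Finset.mem_union, Finset.mem_univ, true_and]
    tauto
  rw [← CharP.cast_eq_zero_iff (ZMod p) p, hsplit, Nat.cast_add, Nat.cast_add, h2', Nat.cast_one]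
  linear_combination h1

/-- the small case -/
def Small (M : Subgroup (GL (Fin 3) F)) : Prop := 3 * (cens M).card = Fintype.card F ^ 3 - 1

omit hp hq in
/-- all points or a single orbit of centres -/
theorem dichotomy {p f : ℕ} (hp : p.Prime) (hq : Fintype.card F = p ^ f) (hC : FreeSub M) {w ψ : Fin 3 → F} (hψ : ψ ≠ 0) (hw : w ≠ 0) (h : Has M w ψ) :
    (∀ v, v ≠ 0 → Cen M v) ∨ (p = 2 ∧ 3 ∣ Fintype.card F - 1 ∧ Small M) := by
  have hd := dvd_card_set hC (cens M) (fun v hv => (mem_cens.1 hv).1)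
    (fun v hv c hc => mem_cens.2 ((mem_cens.1 hv).smul hc)) fun v hv g hg => mem_cens.2 ((mem_cens.1 hv).conj hg)
  have hpos : 0 < (cens M).card := Finset.card_pos.2 ⟨w, mem_cens.2 ⟨hw, ψ, hψ, h⟩⟩
  have hf := f_pos hp hq
  have hq3 : 1 ≤ Fintype.card F ^ 3 - 1 := by
    have := Nat.one_lt_pow (show (3 : ℕ) ≠ 0 by norm_num) (q_ge hq)
    omega
  by_cases h3 : 3 ∣ Fintype.card F - 1
  swap
  · rw [((Nat.prime_three.coprime_iff_not_dvd).2 h3).symm.gcd_eq_one, one_mul] at hd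
    exact Or.inl (all_of_card (Nat.le_of_dvd hpos hd))
  rw [Nat.gcd_eq_right h3] at hd
  obtain ⟨j, hj⟩ := hd
  have hle := cens_le (M := M)
  have hj3 : j ≤ 3 := Nat.le_of_mul_le_mul_left (by rw [← hj]; linarith) hq3
  interval_cases j
  · omega
  · right
    refine ⟨?_, h3, show 3 * _ = _ by omega⟩
    have hm := cens_mod hp hq hψ hw h
    have : p ∣ Fintype.card F ^ 3 := dvd_pow (hq ▸ dvd_pow_self p hf) (by norm_num)
    have h4 : p ∣ 3 * ((cens M).card + 1) := hm.mul_left 3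
    rw [show 3 * ((cens M).card + 1) = Fintype.card F ^ 3 + 2 by omega] at h4
    exact (Nat.prime_dvd_prime_iff_eq hp Nat.prime_two).1 ((Nat.dvd_add_right this).1 h4)
  · exfalso
    have hm := cens_mod hp hq hψ hw h
    have : p ∣ 2 * Fintype.card F ^ 3 := dvd_mul_of_dvd_right (dvd_pow (hq ▸ dvd_pow_self p hf) (by norm_num)) _
    have h4 : p ∣ 3 * ((cens M).card + 1) := hm.mul_left 3
    rw [show 3 * ((cens M).card + 1) = 2 * Fintype.card F ^ 3 + 1 by omega] at h4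
    exact hp.not_dvd_one ((Nat.dvd_add_right this).1 h4)
  · exact Or.inl (all_of_card (by omega))

omit hp hq in
theorem card_perp {ψ : Fin 3 → F} (hψ : ψ ≠ 0) : Nat.card (LinearMap.ker (fnl ψ)) = Fintype.card F ^ 2 := by
  rw [Module.natCard_eq_pow_finrank (K := F), finrank_ker_fnl hψ, Nat.card_eq_fintype_card]

omit hp hq in
theorem card_onAxis_all {ψ : Fin 3 → F} (hψ : ψ ≠ 0) (hall : ∀ v, v ≠ 0 → Cen M v) :
    (onAxis M ψ).card = Fintype.card F ^ 2 - 1 := by
  rw [← card_perp hψ, ← Nat.card_congr (Equiv.subtypeEquivRight (p := fun v => ψ ⬝ᵥ v = 0) (fun v => Iff.rfl) :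
    {v // ψ ⬝ᵥ v = 0} ≃ LinearMap.ker (fnl ψ)), Nat.card_eq_fintype_card, Fintype.card_subtype,
    ← Finset.card_erase_of_mem (s := Finset.univ.filter fun v : Fin 3 → F => ψ ⬝ᵥ v = 0) (a := 0) (by simp)]
  congr 1
  ext v
  simp only [mem_onAxis, Finset.mem_erase, Finset.mem_filter, Finset.mem_univ, true_and]
  exact ⟨fun h => ⟨h.1.1, h.2⟩, fun h => ⟨hall v h.1, h.2⟩⟩

/-- with all points and planes everything occurs -/
theorem full_of_all (hall : ∀ v, v ≠ 0 → Cen M v) (hall' : ∀ v, v ≠ 0 → Cen (dualGrp M) v) : fullSub M = ⊤ := by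
  have hflag : ∀ u φ : Fin 3 → F, u ≠ 0 → φ ≠ 0 → φ ⬝ᵥ u = 0 → ∃ a : F, a ≠ 0 ∧ Has M (a • u) φ := by
    intro u φ hu hφ h0
    obtain ⟨-, w, hw, hh⟩ := cen_dual.1 (hall' φ hφ)
    exact extend (hall u hu) hφ hw hh h0
  refine Submodule.eq_top_iff'.2 fun u φ hφ => ?_
  rcases eq_or_ne u 0 with rfl | hu
  · exact has_zero_left φ
  rcases eq_or_ne φ 0 with rfl | hφ0
  · exact has_zero_right u
  have huni : ∀ v ∈ onAxis M φ, Nat.card (hsub M v φ) = Nat.card (hsub M u φ) := by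
    intro v hv
    obtain ⟨hv1, hv2⟩ := mem_onAxis.1 hv
    by_cases hli : LinearIndependent F ![u, v]
    swap
    · rw [LinearIndependent.pair_iff' hu] at hli
      push Not at hli
      obtain ⟨c, rfl⟩ := hli
      exact card_hsub_smul u φ fun e => hv1.1 (by rw [e, zero_smul])
    have hsecond : ∀ {x y : Fin 3 → F}, LinearIndependent F ![x, y] → φ ⬝ᵥ x = 0 →
        Nat.card (hsub M y φ) ≤ Nat.card (hsub M x φ) := fun {x y} hl hx => by
      have hx0 : x ≠ 0 := hl.ne_zero 0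
      obtain ⟨χ, hχy, hχx⟩ := exists_dual (Submodule.span F {x}) (x := y) fun hmem => by
        obtain ⟨c, hc⟩ := Submodule.mem_span_singleton.1 hmem
        exact (LinearIndependent.pair_iff' hx0).1 hl c hc
      obtain ⟨a, ha, hh⟩ := hflag x χ hx0 (fun e => one_ne_zero (α := F) (by rw [← hχy, e, zero_dotProduct]))
        (hχx x (Submodule.mem_span_singleton_self x))
      rw [has_smul_iff] at hh
      exact hsub_le hh (by rw [smul_dotProduct, hχy, smul_eq_mul, mul_one]; exact ha) hx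
    exact le_antisymm (hsecond hli hφ) (hsecond (LinearIndependent.pair_symm_iff.1 hli) hv2)
  obtain ⟨c, hc, hh⟩ := hflag u φ hu hφ0 hφ
  obtain ⟨a, ha, ha1, haf, -⟩ := hsub_pow hp hq hφ0 (hall u hu) hφ (smul_ne_zero hc hu) hh
  obtain ⟨e, he⟩ := axg_pow hp hq (M := M) φ
  have hsum := sum_hsub (M := M) hφ0
  rw [Finset.sum_congr rfl fun v hv => by rw [huni v hv], Finset.sum_const, card_onAxis_all hφ0 hall, smul_eq_mul,
    ha, he, show Fintype.card F ^ 2 - 1 = (Fintype.card F - 1) * (Fintype.card F + 1) by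
      rw [Nat.mul_comm, ← Nat.sq_sub_sq, one_pow], Nat.mul_comm, Nat.mul_assoc] at hsum
  replace hsum := Nat.eq_of_mul_eq_mul_left (by have := q_ge hq; omega) hsum
  have htop : a = f := by
    by_contra hne
    have hlt : p ^ a < p ^ f := Nat.pow_lt_pow_right hp.one_lt (by omega)
    have h2a : 2 ≤ p ^ a := by
      have := Nat.one_lt_pow (show a ≠ 0 by omega) hp.one_lt
      omega
    obtain ⟨b, hb⟩ : ∃ b, p ^ a = b + 2 := ⟨p ^ a - 2, by omega⟩
    have hE : p ^ e = p ^ f * (b + 1) + (b + 2) := by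
      rw [hb, show b + 2 - 1 = b + 1 by omega, hq] at hsum
      have := Nat.one_le_pow e p hp.pos
      have h' : (p ^ f + 1) * (b + 1) = p ^ f * (b + 1) + (b + 1) := by ring
      omega
    have hfe : p ^ f ∣ p ^ e := by
      refine pow_dvd_pow p ((Nat.pow_le_pow_iff_right hp.one_lt).1 ?_)
      rw [hE]
      nlinarith
    rw [hE, Nat.dvd_add_right (dvd_mul_right _ _)] at hfe
    have := Nat.le_of_dvd (by omega) hfe
    omega
  have : hsub M u φ = ⊤ := AddSubgroup.eq_top_of_card_eq _ (by rw [ha, htop, ← hq, Nat.card_eq_fintype_card])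
  simpa only [one_smul] using mem_hsub.1 (this ▸ AddSubgroup.mem_top (1 : F) : (1 : F) ∈ hsub M u φ)

omit hp hq in
/-- in the small case the groups at all centres have one size -/
theorem small_cng (hC : FreeSub M) (hs : Small M) {u v : Fin 3 → F} (hu : Cen M u) (hv : Cen M v) :
    Nat.card (cng M u) = Nat.card (cng M v) := by
  have key : ∀ {u v : Fin 3 → F}, Cen M u → Cen M v → Nat.card (cng M v) ≤ Nat.card (cng M u) := by
    intro u v hu hv
    let S : Finset (Fin 3 → F) := Finset.univ.filter fun z =>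
      ∃ c : F, c ≠ 0 ∧ ∃ g ∈ M, z = c • ((g : Matrix (Fin 3) (Fin 3) F) *ᵥ u)
    have hS : ∀ z, z ∈ S ↔ ∃ c : F, c ≠ 0 ∧ ∃ g ∈ M, z = c • ((g : Matrix (Fin 3) (Fin 3) F) *ᵥ u) := fun z => by
      simp [S]
    have hsub : S ⊆ cens M := fun z hz => by
      obtain ⟨c, hc, g, hg, rfl⟩ := (hS z).1 hz
      exact mem_cens.2 ((hu.conj hg).smul hc)
    have hd := dvd_card_set hC S (fun z hz => (mem_cens.1 (hsub hz)).1)
      (fun z hz d hd => by
        obtain ⟨c, hc, g, hg, rfl⟩ := (hS z).1 hz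
        exact (hS _).2 ⟨d * c, mul_ne_zero hd hc, g, hg, by rw [mul_smul]⟩)
      (fun z hz g hg => by
        obtain ⟨c, hc, g', hg', rfl⟩ := (hS z).1 hz
        exact (hS _).2 ⟨c, hc, g * g', M.mul_mem hg hg', by rw [mulVec_smul, gl_mul_mulVec]⟩)
    have hpos : 0 < S.card := Finset.card_pos.2 ⟨u, (hS u).2 ⟨1, one_ne_zero, 1, M.one_mem, by simp⟩⟩
    have hle : Fintype.card F ^ 3 - 1 ≤ 3 * S.card := Nat.le_of_dvd (by omega)
      (hd.trans (Nat.mul_dvd_mul_right (Nat.gcd_dvd_right _ _) _))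
    have heq : S = cens M := Finset.eq_of_subset_of_card_le hsub (by
      have : 3 * (cens M).card = Fintype.card F ^ 3 - 1 := hs
      omega)
    obtain ⟨c, hc, g, hg, rfl⟩ := (hS v).1 (heq ▸ mem_cens.2 hv)
    refine Nat.card_le_card_of_injective (fun φ => (⟨c • ((φ : Fin 3 → F) ᵥ* (g : Matrix (Fin 3) (Fin 3) F)), ?_⟩ : cng M u))
      fun a b e => Subtype.ext ?_
    · have h1 := (mem_cng.1 φ.2).conj (M.inv_mem hg)
      rw [mulVec_smul, gl_inv_mulVec, inv_inv, has_smul_iff] at h1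
      exact h1
    · have := congrArg (fun z => z ᵥ* ((g⁻¹ : GL (Fin 3) F) : Matrix (Fin 3) (Fin 3) F))
        (smul_right_injective _ hc (congrArg Subtype.val e))
      simpa only [vecMul_vecMul, Units.mul_inv, vecMul_one] using this
  exact le_antisymm (key hv hu) (key hu hv)

omit hp hq in
/-- in the small case the flags have two elements -/
theorem small_two {f : ℕ} (hf : 3 ≤ f) (hq : Fintype.card F = 2 ^ f) (hC : FreeSub M) (hs : Small M)
    {u ψ : Fin 3 → F} (hu : Cen M u) (hψ : Cen (dualGrp M) ψ) (hψu : ψ ⬝ᵥ u = 0) :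
    Nat.card (hsub M u ψ) = 2 ∧ (Nat.card (axg M ψ) = 2 ∨ Nat.card (axg M ψ) = 4) := by
  obtain ⟨hψ0, w, hw, hh⟩ := cen_dual.1 hψ
  obtain ⟨a, ha, ha1, haf, hle⟩ := hsub_pow Nat.prime_two hq hψ0 hu hψu hw hh
  obtain ⟨e, he, he1⟩ := axg_ge Nat.prime_two hq hψ0 hw hh
  have hae : a ≤ e := (Nat.pow_le_pow_iff_right (le_refl 2)).1 (he ▸ hle)
  have huni : ∀ v ∈ onAxis M ψ, Nat.card (hsub M v ψ) = 2 ^ a := fun v hv => by
    obtain ⟨hv1, hv2⟩ := mem_onAxis.1 hv
    rw [← ha]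
    exact uniform hψ0 hv1.1 hu.1 hv2 hψu (small_cng hC hs hv1 hu)
  have hsum := sum_hsub (M := M) hψ0
  rw [Finset.sum_congr rfl fun v hv => by rw [huni v hv], Finset.sum_const, smul_eq_mul, he, hq] at hsum
  have hdvd := axg_dvd (M := M) ψ
  rw [he] at hdvd
  have hsplit : (cens M).card = (onAxis M ψ).card + (Finset.univ.filter fun v => Cen M v ∧ ψ ⬝ᵥ v ≠ 0).card := by
    rw [cens, onAxis, ← Finset.card_union_of_disjoint (Finset.disjoint_filter.2 fun v _ a b => b.2 a.2)]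
    congr 1
    ext v
    simp only [Finset.mem_filter, Finset.mem_union, Finset.mem_univ, true_and]
    tauto
  obtain ⟨R, hR⟩ := hdvd
  have hs' : 3 * (cens M).card = (2 ^ f) ^ 3 - 1 := by rw [← hq]; exact hs
  rw [hsplit, hR] at hs'
  -- the congruence
  have hgd : (2 : ℤ) ^ min e f ∣ 2 ^ a + 2 := by
    have e1 := congrArg (fun n : ℕ => (n : ℤ)) hsum
    have e2 := congrArg (fun n : ℕ => (n : ℤ)) hs'
    push_cast [Nat.cast_sub (Nat.one_le_pow _ 2 two_pos), Nat.cast_sub (Nat.one_le_pow 3 _ (Nat.two_pow_pos f))] at e1 e2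
    have d1 : (2 : ℤ) ^ min e f ∣ 2 ^ e := pow_dvd_pow 2 (min_le_left e f)
    have d2 : (2 : ℤ) ^ min e f ∣ 2 ^ f := pow_dvd_pow 2 (min_le_right e f)
    rw [show (2 : ℤ) ^ a + 2 = 2 ^ f * ((2 ^ f) ^ 2 * (2 ^ a - 1)) - 2 ^ e * (3 * R * (2 ^ a - 1))
        - 3 * (2 ^ e * (2 ^ f - 1) - 2 ^ f) by linear_combination (3 : ℤ) * e1 + ((2 : ℤ) ^ a - 1) * e2]
    exact dvd_sub (dvd_sub (d2.mul_right _) (d1.mul_right _)) (dvd_mul_of_dvd_right (dvd_sub (d1.mul_right _) d2) _)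
  have hle2 : min e f ≤ 2 := by
    by_contra hm
    have h1 : (2 : ℤ) ^ a ∣ 2 ^ a + 2 := (pow_dvd_pow 2 (le_min hae haf)).trans hgd
    rw [Int.dvd_add_right dvd_rfl] at h1
    have ha' : a = 1 := by
      by_contra hne
      have h4 := (pow_dvd_pow (2 : ℤ) (show 2 ≤ a by omega)).trans h1
      norm_num at h4
    rw [ha'] at hgd
    have h8 := (pow_dvd_pow (2 : ℤ) (show 3 ≤ min e f by omega)).trans hgd
    norm_num at h8
  have he2 : e ≤ 2 := by omega
  have ha' : a = 1 := by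
    have h1 : (2 : ℤ) ^ a ∣ 2 ^ a + 2 := (pow_dvd_pow 2 (le_min hae haf)).trans hgd
    rw [Int.dvd_add_right dvd_rfl] at h1
    by_contra hne
    have h4 := (pow_dvd_pow (2 : ℤ) (show 2 ≤ a by omega)).trans h1
    norm_num at h4
  refine ⟨by rw [ha, ha', pow_one], ?_⟩
  interval_cases e <;> rw [he] <;> norm_num

omit hp hq in
/-- one small side forces the other -/
theorem small_not_all {f : ℕ} (hf : 3 ≤ f) (hq : Fintype.card F = 2 ^ f) (hC : FreeSub M) (hs : Small M)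
    {u : Fin 3 → F} (hu : Cen M u) (hall : ∀ v, v ≠ 0 → Cen (dualGrp M) v) : False := by
  have hsum := sum_hsub (M := dualGrp M) hu.1
  rw [Finset.sum_congr rfl (g := fun _ => 1) fun φ hφ => by
    obtain ⟨hφ1, hφ2⟩ := mem_onAxis.1 hφ
    rw [hsub_dual, (small_two hf hq hC hs hu hφ1 (by rw [dotProduct_comm]; exact hφ2)).1],
    Finset.sum_const, card_onAxis_all hu.1 hall, smul_eq_mul, mul_one, axg_dual,
    show Fintype.card F ^ 2 - 1 = (Fintype.card F + 1) * (Fintype.card F - 1) by rw [← Nat.sq_sub_sq, one_pow]] at hsum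
  replace hsum := Nat.eq_of_mul_eq_mul_right (by have := q_ge hq; omega) hsum
  obtain ⟨e, he⟩ := axg_pow Nat.prime_two hq (M := dualGrp M) u
  rw [axg_dual] at he
  rw [he, hq] at hsum
  have h2 : 2 ^ e = 2 ^ f + 2 := by
    have := Nat.two_pow_pos e
    omega
  have hdvd : 2 ^ f ∣ 2 ^ e := pow_dvd_pow 2 ((Nat.pow_le_pow_iff_right (le_refl 2)).1 (by omega))
  rw [h2, Nat.dvd_add_right dvd_rfl] at hdvd
  have := Nat.le_of_dvd two_pos hdvd
  have := Nat.pow_le_pow_right two_pos hf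
  omega

end CfsgLib.Perm.Trans.ThreeDim.SingTv
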