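import Cfsg.Agent.Lib.Perm.Trans.ThreeDim.SingTvFull

/-!
# The normaliser of a field of degree three in the special linear group

It is the extension of a cyclic group of order `q²+q+1` by three, and the index of it in an overgroup
is one modulo the part prime to three of that order.
-/

set_option autoImplicit false
set_option linter.all false

namespace CfsgLib.Perm.Trans.ThreeDim.Singer

open scoped Classical Matrix
open Matrix Cfsg.Geo CfsgLib.Perm.Asch CfsgLib.Perm.Trans CfsgLib.Perm.Trans.ThreeDim.SingTv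

variable {F : Type*} [Field F] [Fintype F] {K : Subalgebra F (Matrix (Fin 3) (Fin 3) F)}

omit [Fintype F] in
theorem det_one {g : GL (Fin 3) F} (hg : g ∈ specialLinear (Fin 3) F) : (g : Matrix (Fin 3) (Fin 3) F).det = 1 := by
  have h := congrArg Units.val (show Matrix.GeneralLinearGroup.det g = 1 from hg)
  rwa [Matrix.GeneralLinearGroup.val_det_apply] at h

omit [Fintype F] in
/-- a matrix commuting with a nonscalar element of the field is in the field -/
theorem mem_of_commute (hK : IsFieldSubalgebra 3 K) {k : Matrix (Fin 3) (Fin 3) F} (hk : k ∈ K)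
    (hns : ∀ a : F, k ≠ a • 1) {A : Matrix (Fin 3) (Fin 3) F} (hA : A * k = k * A) : A ∈ K := by
  letI : CommRing K := { (inferInstance : Ring K) with mul_comm := fun x y => Subtype.ext (hK.comm _ x.2 _ y.2) }
  have hf : IsField K := ⟨⟨0, 1, fun h => zero_ne_one (congrArg Subtype.val h)⟩, mul_comm, fun {x} hx => by
    obtain ⟨y, hy, hxy⟩ := hK.inv _ x.2 (fun h => hx (Subtype.ext h))
    exact ⟨⟨y, hy⟩, Subtype.ext hxy⟩⟩
  letI : Field K := hf.toField
  haveI := Subalgebra.isSimpleOrder_of_finrank_prime F K (hK.finrank_eq.symm ▸ Nat.prime_three)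
  obtain ⟨L, hL⟩ : ∃ L : Subalgebra F K, L = (Subalgebra.centralizer F {A}).comap K.val := ⟨_, rfl⟩
  have hkL : (⟨k, hk⟩ : K) ∈ L := by
    rw [hL, Subalgebra.mem_comap, Subalgebra.mem_centralizer_iff]
    rintro _ rfl
    exact hA
  rcases IsSimpleOrder.eq_bot_or_eq_top L with h | h
  · rw [h, Algebra.mem_bot] at hkL
    obtain ⟨a, ha⟩ := hkL
    exact absurd ((congrArg Subtype.val ha).symm.trans (Algebra.algebraMap_eq_smul_one a)) (hns a)
  · obtain ⟨v, hv⟩ : ∃ v : Fin 3 → F, v ≠ 0 := ⟨Pi.single 0 1, by simp⟩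
    obtain ⟨Φ, hΦ⟩ : ∃ Φ : K →ₗ[F] (Fin 3 → F), ∀ m : K, Φ m = (m : Matrix (Fin 3) (Fin 3) F) *ᵥ v :=
      ⟨⟨⟨fun m => (m : Matrix (Fin 3) (Fin 3) F) *ᵥ v, fun a b => add_mulVec _ _ _⟩, fun c a =>
        smul_mulVec c (a : Matrix (Fin 3) (Fin 3) F) v⟩, fun m => rfl⟩
    have hinj : Function.Injective Φ := (injective_iff_map_eq_zero Φ).2 fun m hm => by
      by_contra h0
      obtain ⟨z, hz, hmz⟩ := hK.inv _ m.2 fun h => h0 (Subtype.ext h)
      rw [hΦ] at hm
      refine hv ?_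
      rw [← one_mulVec v, ← hmz, hK.comm _ m.2 _ hz, ← mulVec_mulVec, hm, mulVec_zero]
    have hsurj := (LinearMap.injective_iff_surjective_of_finrank_eq_finrank (by rw [hK.finrank_eq]; simp)).1 hinj
    obtain ⟨m, hm⟩ := hsurj (A *ᵥ v)
    rw [hΦ] at hm
    suffices A = m by rw [this]; exact m.2
    refine Matrix.ext_iff_mulVec.2 fun w => ?_
    obtain ⟨j, rfl⟩ := hsurj w
    have hj : j ∈ L := h ▸ Algebra.mem_top
    rw [hL, Subalgebra.mem_comap, Subalgebra.mem_centralizer_iff] at hj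
    have hAj : A * (j : Matrix (Fin 3) (Fin 3) F) = j * A := hj A rfl
    rw [hΦ, mulVec_mulVec, hAj, ← mulVec_mulVec, ← hm, mulVec_mulVec, mulVec_mulVec, hK.comm _ j.2 _ m.2]

omit [Fintype F] in
/-- one nonscalar element of the field decides membership in the normaliser -/
theorem mem_normalizer (hK : IsFieldSubalgebra 3 K) {g : GL (Fin 3) F} {k : Matrix (Fin 3) (Fin 3) F} (hk : k ∈ K)
    (hns : ∀ a : F, k ≠ a • 1)
    (hg : (g : Matrix (Fin 3) (Fin 3) F) * k * ((g⁻¹ : GL (Fin 3) F) : Matrix (Fin 3) (Fin 3) F) ∈ K) :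
    g ∈ subalgebraNormalizer K := by
  have hns' : ∀ a : F, (g : Matrix (Fin 3) (Fin 3) F) * k * ((g⁻¹ : GL (Fin 3) F) : Matrix (Fin 3) (Fin 3) F) ≠ a • 1 :=
    fun a e => hns a (cj_injective g (show cj g k = cj g (a • 1) by rw [cj_smul, cj_one]; exact e))
  intro m
  refine ⟨fun hm => mem_of_commute hK hg hns' ?_, fun hm => mem_of_commute hK hk hns (cj_injective g ?_)⟩
  · show cj g m * cj g k = cj g k * cj g m
    rw [← cj_mul, ← cj_mul, hK.comm _ hm _ hk]
  · rw [cj_mul, cj_mul]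
    exact hK.comm _ hm _ hg

/-- the structure of the normaliser -/
theorem exists_data (hK : IsFieldSubalgebra 3 K) :
    ∃ c y : GL (Fin 3) F, c ∈ subalgebraNormalizer K ⊓ specialLinear (Fin 3) F ∧
      y ∈ subalgebraNormalizer K ⊓ specialLinear (Fin 3) F ∧ orderOf c = pts F ∧
      (c : Matrix (Fin 3) (Fin 3) F) ∈ K ∧
      (∀ g ∈ specialLinear (Fin 3) F, (g : Matrix (Fin 3) (Fin 3) F) ∈ K → ∃ i : ℕ, g = c ^ i) ∧
      y⁻¹ * c * y = c ^ Fintype.card F ∧
      (∀ g ∈ subalgebraNormalizer K, ∃ i < 3, g⁻¹ * c * g = c ^ Fintype.card F ^ i) ∧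
      (∀ (i : ℕ) (v : Fin 3 → F), v ≠ 0 →
        ((c ^ i : GL (Fin 3) F) : Matrix (Fin 3) (Fin 3) F) *ᵥ v = v → c ^ i = 1) := by
  letI : CommRing K := { (inferInstance : Ring K) with mul_comm := fun x y => Subtype.ext (hK.comm _ x.2 _ y.2) }
  have hf : IsField K := ⟨⟨0, 1, fun h => zero_ne_one (congrArg Subtype.val h)⟩, mul_comm, fun {x} hx => by
    obtain ⟨y, hy, hxy⟩ := hK.inv _ x.2 (fun h => hx (Subtype.ext h))
    exact ⟨⟨y, hy⟩, Subtype.ext hxy⟩⟩
  letI : Field K := hf.toField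
  obtain ⟨q, hq⟩ : ∃ q, q = Fintype.card F := ⟨_, rfl⟩
  haveI : Finite K := Module.finite_of_finite F
  have hcard : Nat.card K = q ^ 3 := by
    rw [Module.natCard_eq_pow_finrank (K := F), Nat.card_eq_fintype_card, hK.finrank_eq, hq]
  have hq2 : 2 ≤ q := hq ▸ Fintype.one_lt_card
  -- the orbit map
  obtain ⟨v, hv⟩ : ∃ v : Fin 3 → F, v ≠ 0 := ⟨Pi.single 0 1, by simp⟩
  have hfix : ∀ (m : K) (w : Fin 3 → F), w ≠ 0 → (m : Matrix (Fin 3) (Fin 3) F) *ᵥ w = 0 → m = 0 := by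
    intro m w hw hm
    by_contra h0
    obtain ⟨z, hz, hmz⟩ := hK.inv _ m.2 fun h => h0 (Subtype.ext h)
    refine hw ?_
    rw [← one_mulVec w, ← hmz, hK.comm _ m.2 _ hz, ← mulVec_mulVec, hm, mulVec_zero]
  let L : K →ₗ[F] (Fin 3 → F) :=
    { toFun := fun k => (k : Matrix (Fin 3) (Fin 3) F) *ᵥ v
      map_add' := fun a b => Matrix.add_mulVec ..
      map_smul' := fun c a => Matrix.smul_mulVec .. }
  have hinj : Function.Injective L := (injective_iff_map_eq_zero L).2 fun k hk => hfix k v hv hk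
  let e : K ≃ₗ[F] (Fin 3 → F) := LinearEquiv.ofBijective L ⟨hinj,
    (LinearMap.injective_iff_surjective_of_finrank_eq_finrank (by rw [hK.finrank_eq]; simp)).1 hinj⟩
  have he : ∀ k : K, e k = (k : Matrix (Fin 3) (Fin 3) F) *ᵥ v := fun k => rfl
  have hmul : ∀ a b : K, (a : Matrix (Fin 3) (Fin 3) F) *ᵥ e b = e (a * b) := fun a b => by
    rw [he, he, mulVec_mulVec]; rfl
  have hdet : ∀ k : K, (k : Matrix (Fin 3) (Fin 3) F).det = Algebra.norm F k := by
    intro k
    rw [Algebra.norm_apply, ← LinearMap.det_conj (Algebra.lmul F K k) e, ← LinearMap.det_toLin' (k : Matrix (Fin 3) (Fin 3) F)]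
    congr 1
    refine LinearMap.ext fun x => ?_
    obtain ⟨m, rfl⟩ := e.surjective x
    simp only [LinearMap.coe_comp, LinearEquiv.coe_coe, Function.comp_apply, e.symm_apply_apply, Matrix.toLin'_apply,
      hmul]
    rfl
  have hnorm : ∀ k : K, algebraMap F K (Algebra.norm F k) = k ^ pts F := by
    intro k
    rw [FiniteField.algebraMap_norm_eq_pow_sum, hK.finrank_eq, Nat.card_eq_fintype_card]
    congr 1
    simp [Finset.sum_range_succ, pts]
    ring
  -- the generator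
  let emb : Kˣ →* GL (Fin 3) F := Units.map (K.val : K →* Matrix (Fin 3) (Fin 3) F)
  have hemb : Function.Injective emb := Units.map_injective Subtype.val_injective
  obtain ⟨g0, hg0⟩ := IsCyclic.exists_ofOrder_eq_natCard (α := Kˣ)
  rw [Nat.card_units, hcard] at hg0
  have hpts : (q - 1) * pts F = q ^ 3 - 1 := hq ▸ pts_mul
  have hmemSL : ∀ u : Kˣ, emb u ∈ specialLinear (Fin 3) F ↔ u ^ pts F = 1 := by
    intro u
    have h1 : (emb u : Matrix (Fin 3) (Fin 3) F).det = Algebra.norm F (u : K) := hdet _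
    rw [Units.ext_iff, Units.val_pow_eq_pow_val, ← hnorm, Units.val_one, ← map_one (algebraMap F K),
      (algebraMap F K).injective.eq_iff, ← h1]
    show Matrix.GeneralLinearGroup.det (emb u) = 1 ↔ _
    rw [Units.ext_iff, Matrix.GeneralLinearGroup.val_det_apply, Units.val_one]
  obtain ⟨c, hc⟩ : ∃ c, c = emb (g0 ^ (q - 1)) := ⟨_, rfl⟩
  have hordc : orderOf c = pts F := by
    rw [hc, orderOf_injective emb hemb, orderOf_pow, hg0, ← hpts, Nat.gcd_eq_right (dvd_mul_right _ _),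
      Nat.mul_div_cancel_left _ (by omega)]
  have hcK : (c : Matrix (Fin 3) (Fin 3) F) ∈ K := hc ▸ ((g0 ^ (q - 1) : Kˣ) : K).2
  have hgen : ∀ g ∈ specialLinear (Fin 3) F, (g : Matrix (Fin 3) (Fin 3) F) ∈ K → ∃ i : ℕ, g = c ^ i := by
    intro g hg hgK
    have hu : IsUnit (⟨g, hgK⟩ : K) := by
      refine Ne.isUnit fun h => ?_
      exact g.ne_zero (congrArg Subtype.val h)
    have hge : emb hu.unit = g := Units.ext (by show ((hu.unit : K) : Matrix (Fin 3) (Fin 3) F) = g; rw [hu.unit_spec])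
    obtain ⟨m, hm⟩ := mem_powers_iff_mem_zpowers.2 (show hu.unit ∈ Subgroup.zpowers g0 by
      rw [Subgroup.eq_top_of_card_eq (Subgroup.zpowers g0) (by rw [Nat.card_zpowers, hg0, Nat.card_units, hcard])]
      exact Subgroup.mem_top _)
    simp only at hm
    have h1 : hu.unit ^ pts F = 1 := (hmemSL _).1 (by rw [hge]; exact hg)
    rw [← hm, ← pow_mul] at h1
    have h2 := orderOf_dvd_of_pow_eq_one h1
    rw [hg0, ← hpts] at h2
    obtain ⟨i, rfl⟩ := Nat.dvd_of_mul_dvd_mul_right (show 0 < pts F from Nat.succ_pos _) h2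
    exact ⟨i, by rw [← hge, ← hm, hc, ← map_pow, ← pow_mul]⟩
  -- free action
  have hfree : ∀ (i : ℕ) (w : Fin 3 → F), w ≠ 0 →
      ((c ^ i : GL (Fin 3) F) : Matrix (Fin 3) (Fin 3) F) *ᵥ w = w → c ^ i = 1 := by
    intro i w hw h
    rw [hc, ← map_pow] at h ⊢
    have h1 := hfix ((((g0 ^ (q - 1)) ^ i : Kˣ) : K) - 1) w hw (by
      show ((((g0 ^ (q - 1)) ^ i : Kˣ) : K) - 1 : Matrix (Fin 3) (Fin 3) F) *ᵥ w = 0
      rw [sub_mulVec, one_mulVec]
      exact sub_eq_zero.2 h)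
    rw [show ((g0 ^ (q - 1)) ^ i : Kˣ) = 1 from Units.ext (sub_eq_zero.1 h1), map_one]
  have hcns : ∀ a : F, (c : Matrix (Fin 3) (Fin 3) F) ≠ a • 1 := by
    intro a h
    have hd := det_one (show c ∈ specialLinear (Fin 3) F by
      rw [hc, hmemSL, ← pow_mul, hpts, ← hg0, pow_orderOf_eq_one])
    rw [h, det_smul, Matrix.det_one, mul_one, Fintype.card_fin] at hd
    have h3 : c ^ 3 = 1 := Units.ext (by rw [Units.val_pow_eq_pow_val, h, smul_pow, one_pow, hd, one_smul, Units.val_one])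
    have := Nat.le_of_dvd (by norm_num) (hordc ▸ orderOf_dvd_of_pow_eq_one h3)
    rw [pts, ← hq] at this
    nlinarith
  -- the Frobenius
  obtain ⟨G, hG⟩ : ∃ G : GL (Fin 3) F, ∀ k : K, (G : Matrix (Fin 3) (Fin 3) F) *ᵥ e k = e (k ^ q) := by
    obtain ⟨A, hA⟩ : ∃ A : Matrix (Fin 3) (Fin 3) F,
        A = LinearMap.toMatrix' (e.toLinearMap ∘ₗ (FiniteField.frobeniusAlgHom F K).toLinearMap ∘ₗ e.symm.toLinearMap) :=
      ⟨_, rfl⟩
    have hAk : ∀ k : K, A *ᵥ e k = e (k ^ q) := fun k => by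
      rw [hA, LinearMap.toMatrix'_mulVec]
      simp [hq, FiniteField.coe_frobeniusAlgHom]
    have hu : IsUnit A := Matrix.mulVec_injective_iff_isUnit.1 fun a b hab => by
      obtain ⟨x, rfl⟩ := e.surjective a
      obtain ⟨z, rfl⟩ := e.surjective b
      rw [hAk, hAk, e.injective.eq_iff] at hab
      have := (FiniteField.frobeniusAlgHom F K).toRingHom.injective (show x ^ Fintype.card F = z ^ Fintype.card F by
        rw [← hq]; exact hab)
      rw [this]
    exact ⟨hu.unit, fun k => by rw [IsUnit.unit_spec]; exact hAk k⟩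
  have hGk : ∀ m : K, (G : Matrix (Fin 3) (Fin 3) F) * (m : Matrix (Fin 3) (Fin 3) F) =
      ((m ^ q : K) : Matrix (Fin 3) (Fin 3) F) * G := by
    intro m
    refine Matrix.ext_iff_mulVec.2 fun w => ?_
    obtain ⟨j, rfl⟩ := e.surjective w
    rw [← mulVec_mulVec, ← mulVec_mulVec, hmul, hG, hG, hmul, mul_pow]
  obtain ⟨d, hd⟩ := FiniteField.norm_surjective F K (((Matrix.GeneralLinearGroup.det G)⁻¹ : Fˣ) : F)
  have hd0 : d ≠ 0 := fun h => by
    rw [h, Algebra.norm_zero] at hd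
    exact (Units.ne_zero _) hd.symm
  obtain ⟨y, hy⟩ : ∃ y, y = (G * emb (Units.mk0 d hd0))⁻¹ := ⟨_, rfl⟩
  have hyc : y⁻¹ * c * y = c ^ q := by
    rw [hy, inv_inv, _root_.mul_inv_rev]
    have hcomm : emb (Units.mk0 d hd0) * c = c * emb (Units.mk0 d hd0) := by rw [hc, ← map_mul, ← map_mul, mul_comm]
    calc G * emb (Units.mk0 d hd0) * c * ((emb (Units.mk0 d hd0))⁻¹ * G⁻¹)
        = G * (emb (Units.mk0 d hd0) * c) * (emb (Units.mk0 d hd0))⁻¹ * G⁻¹ := by group
      _ = G * c * G⁻¹ := by rw [hcomm]; group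
      _ = c ^ q := by
        rw [mul_inv_eq_iff_eq_mul]
        refine Units.ext ?_
        rw [Units.val_mul, Units.val_mul, hc, ← map_pow]
        show _ * (((g0 ^ (q - 1) : Kˣ) : K) : Matrix (Fin 3) (Fin 3) F) =
          ((((g0 ^ (q - 1)) ^ q : Kˣ) : K) : Matrix (Fin 3) (Fin 3) F) * _
        rw [hGk, Units.val_pow_eq_pow_val (g0 ^ (q - 1))]
  have hyN : y ∈ subalgebraNormalizer K := by
    refine inv_mem_iff.1 (mem_normalizer hK hcK hcns ?_)
    rw [inv_inv, ← Units.val_mul, ← Units.val_mul, hyc, Units.val_pow_eq_pow_val]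
    exact pow_mem hcK q
  have hySL : y ∈ specialLinear (Fin 3) F := by
    rw [hy, inv_mem_iff]
    show Matrix.GeneralLinearGroup.det (G * emb (Units.mk0 d hd0)) = 1
    rw [map_mul]
    have h1 : Matrix.GeneralLinearGroup.det (emb (Units.mk0 d hd0)) = (Matrix.GeneralLinearGroup.det G)⁻¹ := by
      refine Units.ext ?_
      rw [Matrix.GeneralLinearGroup.val_det_apply]
      show (d : Matrix (Fin 3) (Fin 3) F).det = _
      rw [hdet, hd]
    rw [h1, mul_inv_cancel]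
  have hcSL : c ∈ specialLinear (Fin 3) F := by
    rw [hc, hmemSL, ← pow_mul, hpts, ← hg0, pow_orderOf_eq_one]
  refine ⟨c, y, ⟨mem_normalizer hK hcK hcns ?_, hcSL⟩, ⟨hyN, hySL⟩, hordc, hcK, hgen, hq ▸ hyc, fun g hg => ?_, hfree⟩
  · rwa [← Units.val_mul, ← Units.val_mul, mul_inv_cancel_right]
  · have hmap : ∀ m : K, ((g⁻¹ : GL (Fin 3) F) : Matrix (Fin 3) (Fin 3) F) * (m : Matrix (Fin 3) (Fin 3) F) *
        (g : Matrix (Fin 3) (Fin 3) F) ∈ K := fun m => by
      have h2 := ((subalgebraNormalizer K).inv_mem hg m.1).1 m.2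
      rwa [inv_inv] at h2
    let τ : K →ₐ[F] K := AlgHom.codRestrict ((cjAlg g⁻¹).toAlgHom.comp K.val) K fun m => by
      show ((g⁻¹ : GL (Fin 3) F) : Matrix (Fin 3) (Fin 3) F) * (m : Matrix (Fin 3) (Fin 3) F) *
        (((g⁻¹)⁻¹ : GL (Fin 3) F) : Matrix (Fin 3) (Fin 3) F) ∈ K
      rw [inv_inv]
      exact hmap m
    obtain ⟨⟨i, hi⟩, hτ⟩ := (FiniteField.bijective_frobeniusAlgHom_pow F K).2 τ
    refine ⟨i, hK.finrank_eq ▸ hi, ?_⟩
    have h1 := AlgHom.congr_fun hτ (((g0 ^ (q - 1) : Kˣ) : K))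
    simp only [AlgHom.coe_pow, FiniteField.coe_frobeniusAlgHom, pow_iterate] at h1
    refine Units.ext ?_
    have h2 := congrArg Subtype.val h1
    rw [Units.val_mul, Units.val_mul, Units.val_pow_eq_pow_val, hc]
    show _ * (((g0 ^ (q - 1) : Kˣ) : K) : Matrix (Fin 3) (Fin 3) F) * _ = _
    rw [SubmonoidClass.coe_pow] at h2
    refine Eq.trans ?_ h2.symm
    show _ = ((g⁻¹ : GL (Fin 3) F) : Matrix (Fin 3) (Fin 3) F) * (((g0 ^ (q - 1) : Kˣ) : K) : Matrix (Fin 3) (Fin 3) F) *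
        (((g⁻¹)⁻¹ : GL (Fin 3) F) : Matrix (Fin 3) (Fin 3) F)
    rw [inv_inv]

end CfsgLib.Perm.Trans.ThreeDim.Singer
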