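import Cfsg.Agent.Lib.Perm.Trans.ThreeDim.SingerFacts
import Cfsg.Agent.Lib.Perm.Trans.ThreeDim.Unip
import Cfsg.Agent.Lib.Perm.Trans.ThreeDim.Sixty
import Cfsg.Agent.Lib.Perm.Trans.ThreeDim.Roots
import Cfsg.Agent.Lib.Char.LiftCoprime
import Cfsg.Agent.Lib.Perm.Trans.SL
import Cfsg.Agent.Lib.Perm.Asch.Proper

/-!
# Normalisers of Singer cycles are maximal in the special linear group of degree three
-/

set_option autoImplicit false
set_option linter.all false

namespace CfsgLib.Perm.Trans.ThreeDim.Singer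

open scoped Classical Matrix
open Matrix Cfsg.Geo CfsgLib.Perm.Asch CfsgLib.Perm.Trans CfsgLib.Perm.Trans.ThreeDim.SingTv

variable {F : Type*} [Field F] [Fintype F] {K : Subalgebra F (Matrix (Fin 3) (Fin 3) F)}

/-- the order of the part prime to three -/
theorem pts_split : (¬ 3 ∣ Fintype.card F - 1 ∧ ¬ 3 ∣ pts F) ∨
    (3 ∣ Fintype.card F - 1 ∧ ∃ n', pts F = 3 * n' ∧ ¬ 3 ∣ n') := by
  obtain ⟨r, hr⟩ : ∃ r, Fintype.card F = r + 1 := ⟨Fintype.card F - 1, by have := Fintype.card_pos (α := F); omega⟩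
  have h : pts F = r * r + 3 * r + 3 := by rw [pts, hr]; ring
  rw [hr, Nat.add_sub_cancel, h]
  by_cases h3 : 3 ∣ r
  · obtain ⟨t, rfl⟩ := h3
    exact Or.inr ⟨dvd_mul_right _ _, 3 * (t * t) + 3 * t + 1, by ring, by omega⟩
  · refine Or.inl ⟨h3, fun hd => h3 ?_⟩
    have : 3 ∣ r * r := by omega
    exact (Nat.prime_three.dvd_mul.1 this).elim id id

/-- the order of the normaliser -/
theorem card_normalizer (hK : IsFieldSubalgebra 3 K) :
    Nat.card (subalgebraNormalizer K ⊓ specialLinear (Fin 3) F : Subgroup (GL (Fin 3) F)) = 3 * pts F := by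
  obtain ⟨c, y, hc, hy, hord, hcK, hgen, hyc, hnorm, -⟩ := exists_data hK
  obtain ⟨q, hq⟩ : ∃ q, q = Fintype.card F := ⟨_, rfl⟩
  have hq2 : 2 ≤ q := hq ▸ Fintype.one_lt_card
  rw [← hq] at hyc hnorm
  have hpow : ∀ i : ℕ, (y ^ i)⁻¹ * c * y ^ i = c ^ q ^ i := fun i => by
    induction i with
    | zero => simp
    | succ i ih =>
      calc (y ^ (i + 1))⁻¹ * c * y ^ (i + 1) = y⁻¹ * ((y ^ i)⁻¹ * c * y ^ i) * y := by rw [pow_succ]; group
        _ = (y⁻¹ * c * y) ^ (q ^ i) := by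
          rw [ih]
          have := conj_pow (a := y⁻¹) (b := c) (i := q ^ i)
          rw [inv_inv] at this
          exact this.symm
        _ = c ^ q ^ (i + 1) := by rw [hyc, ← pow_mul, pow_succ']
  have hlt : ∀ i < 3, q ^ i < pts F := fun i hi => by
    rw [pts, ← hq]
    interval_cases i <;> nlinarith
  let f : Fin (pts F) × Fin 3 → (subalgebraNormalizer K ⊓ specialLinear (Fin 3) F : Subgroup (GL (Fin 3) F)) :=
    fun x => ⟨c ^ (x.1 : ℕ) * y ^ (x.2 : ℕ), mul_mem (pow_mem hc _) (pow_mem hy _)⟩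
  have hcns : ∀ a : F, (c : Matrix (Fin 3) (Fin 3) F) ≠ a • 1 := fun a h => by
    have hd := det_one hc.2
    rw [h, det_smul, Matrix.det_one, mul_one, Fintype.card_fin] at hd
    have h3 : c ^ 3 = 1 := Units.ext (by rw [Units.val_pow_eq_pow_val, h, smul_pow, one_pow, hd, one_smul, Units.val_one])
    have := Nat.le_of_dvd (by norm_num) (hord ▸ orderOf_dvd_of_pow_eq_one h3)
    rw [pts, ← hq] at this
    nlinarith
  have hbij : Function.Bijective f := by
    refine ⟨?_, fun g => ?_⟩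
    · rintro ⟨⟨j, hj⟩, ⟨i, hi⟩⟩ ⟨⟨j', hj'⟩, ⟨i', hi'⟩⟩ h
      have h' : c ^ j * y ^ i = c ^ j' * y ^ i' := congrArg Subtype.val h
      have e1 : ∀ (a b : ℕ), (c ^ a * y ^ b)⁻¹ * c * (c ^ a * y ^ b) = c ^ q ^ b := fun a b => by
        calc (c ^ a * y ^ b)⁻¹ * c * (c ^ a * y ^ b) = (y ^ b)⁻¹ * c * y ^ b := by group
          _ = c ^ q ^ b := hpow b
      have e2 : c ^ q ^ i = c ^ q ^ i' := by rw [← e1 j i, h', e1 j' i']
      have hii : i = i' := Nat.pow_right_injective hq2 (pow_injOn_Iio_orderOf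
        (show q ^ i ∈ Set.Iio (orderOf c) by rw [hord]; exact hlt i hi)
        (show q ^ i' ∈ Set.Iio (orderOf c) by rw [hord]; exact hlt i' hi') e2)
      subst hii
      have hjj : j = j' := pow_injOn_Iio_orderOf (show j ∈ Set.Iio (orderOf c) by rw [hord]; exact hj)
        (show j' ∈ Set.Iio (orderOf c) by rw [hord]; exact hj') (mul_right_cancel h')
      subst hjj
      rfl
    · obtain ⟨i, hi, he⟩ := hnorm g g.2.1
      have hcomm : ((g : GL (Fin 3) F) * (y ^ i)⁻¹) * c = c * ((g : GL (Fin 3) F) * (y ^ i)⁻¹) := by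
        calc (g : GL (Fin 3) F) * (y ^ i)⁻¹ * c = (g : GL (Fin 3) F) * ((y ^ i)⁻¹ * c * y ^ i) * (y ^ i)⁻¹ := by group
          _ = (g : GL (Fin 3) F) * ((g : GL (Fin 3) F)⁻¹ * c * g) * (y ^ i)⁻¹ := by rw [hpow, he]
          _ = _ := by group
      obtain ⟨j, hj⟩ := hgen _ (mul_mem g.2.2 (inv_mem (pow_mem hy.2 i)))
        (mem_of_commute hK hcK hcns (by rw [← Units.val_mul, hcomm, Units.val_mul]))
      refine ⟨(⟨j % pts F, Nat.mod_lt _ (Nat.succ_pos _)⟩, ⟨i, hi⟩), Subtype.ext ?_⟩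
      show c ^ (j % pts F) * y ^ i = g
      rw [← hord, pow_mod_orderOf, ← hj, inv_mul_cancel_right]
  rw [← Nat.card_eq_of_bijective f hbij, Nat.card_prod, Nat.card_fin, Nat.card_fin, mul_comm]

variable {M : Subgroup (GL (Fin 3) F)}

/-- the index is one modulo the part of `q²+q+1` prime to three -/
theorem index_congr (hK : IsFieldSubalgebra 3 K) (hNM : subalgebraNormalizer K ⊓ specialLinear (Fin 3) F ≤ M)
    (hM : M ≤ specialLinear (Fin 3) F) {n' : ℕ} (hn3 : ¬ 3 ∣ n') (hd : n' ∣ pts F) (hd3 : pts F ∣ 3 * n') :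
    ∃ k, Nat.card M = 3 * pts F * k ∧ n' ∣ k - 1 ∧ 0 < k ∧
      (M ≠ subalgebraNormalizer K ⊓ specialLinear (Fin 3) F → 1 < k) := by
  obtain ⟨c, y, hc, hy, hord, hcK, hgen, hyc, hnorm, hfree⟩ := exists_data hK
  obtain ⟨d, hdd⟩ := hd
  obtain ⟨N, hN⟩ : ∃ N, N = subalgebraNormalizer K ⊓ specialLinear (Fin 3) F := ⟨_, rfl⟩
  rw [← hN] at hNM hc hy
  obtain ⟨N', hN'⟩ : ∃ N', N' = N.subgroupOf M := ⟨_, rfl⟩
  have hcardN : Nat.card N' = 3 * pts F := by
    rw [hN', Nat.card_congr (Subgroup.subgroupOfEquivOfLe hNM).toEquiv, hN, card_normalizer hK]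
  have hprod := Subgroup.card_mul_index N'
  rw [hcardN] at hprod
  refine ⟨N'.index, hprod.symm, ?_, Nat.pos_of_ne_zero Subgroup.index_ne_zero_of_finite, fun hne => ?_⟩
  swap
  · by_contra h
    have h0 := Nat.pos_of_ne_zero (Subgroup.index_ne_zero_of_finite (H := N'))
    rw [show N'.index = 1 by omega, mul_one] at hprod
    exact hne (hN ▸ (Subgroup.eq_of_le_of_card_ge hNM (by rw [hN, card_normalizer hK, hprod])).symm)
  -- the part prime to three acts freely on the other cosets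
  obtain ⟨D, hD⟩ : ∃ D : Subgroup M, D = Subgroup.zpowers (⟨c ^ d, hNM (pow_mem hc d)⟩ : M) := ⟨_, rfl⟩
  have hordD : orderOf (⟨c ^ d, hNM (pow_mem hc d)⟩ : M) = n' := by
    rw [← Subgroup.orderOf_coe, orderOf_pow, hord, hdd, Nat.gcd_eq_right (dvd_mul_left d n'),
      Nat.mul_div_cancel _ (Nat.pos_of_ne_zero fun e => by rw [e, mul_zero] at hdd; exact Nat.succ_ne_zero _ hdd)]
  have hcardD : Nat.card D = n' := by rw [hD, Nat.card_zpowers, hordD]
  have hfix : ∀ x : D, ∀ g : M, g⁻¹ * x * g ∈ N' → x = 1 ∨ g ∈ N' := by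
    intro x g hx
    obtain ⟨i, hi⟩ := mem_powers_iff_mem_zpowers.2 ((SetLike.ext_iff.1 hD (x : M)).1 x.2)
    simp only at hi
    have hxe : ((x : M) : GL (Fin 3) F) = (c ^ d) ^ i := by rw [← hi]; rfl
    by_contra hcon
    push Not at hcon
    -- the cube is nonscalar
    have hns : ∀ a : F, ((((x : M) : GL (Fin 3) F) ^ 3 : GL (Fin 3) F) : Matrix (Fin 3) (Fin 3) F) ≠ a • 1 := by
      intro a h
      refine hcon.1 (Subtype.ext (Subtype.ext ?_))
      have h9 : ((x : M) : GL (Fin 3) F) ^ 3 ^ 2 = 1 := by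
        refine Units.ext ?_
        have hdet := det_one (pow_mem (hM (x : M).2) 3)
        rw [h, det_smul, Matrix.det_one, mul_one, Fintype.card_fin] at hdet
        rw [pow_two, pow_mul, Units.val_pow_eq_pow_val, h, smul_pow, one_pow, hdet, one_smul, Units.val_one]
      have hn : ((x : M) : GL (Fin 3) F) ^ n' = 1 := by
        rw [hxe, ← pow_mul c, ← pow_mul, show d * i * n' = pts F * i by rw [hdd]; ring, pow_mul, ← hord,
          pow_orderOf_eq_one, one_pow]
      have hco : Nat.Coprime (3 ^ 2) n' := ((Nat.prime_three.coprime_iff_not_dvd).2 hn3).pow_left 2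
      show ((x : M) : GL (Fin 3) F) = 1
      rw [← pow_one ((x : M) : GL (Fin 3) F), ← hco.gcd_eq_one]
      exact pow_gcd_eq_one.2 ⟨h9, hn⟩
    have hxK : ((((x : M) : GL (Fin 3) F) ^ 3 : GL (Fin 3) F) : Matrix (Fin 3) (Fin 3) F) ∈ K := by
      rw [hxe, ← pow_mul, ← pow_mul, Units.val_pow_eq_pow_val]
      exact pow_mem hcK _
    have hcube : ∀ h ∈ N, ((h ^ 3 : GL (Fin 3) F) : Matrix (Fin 3) (Fin 3) F) ∈ K := by
      intro h hh
      rw [hN] at hh
      obtain ⟨l, -, hl⟩ := hnorm h hh.1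
      obtain ⟨Q, hQ⟩ : ∃ Q, Q = Fintype.card F ^ l := ⟨_, rfl⟩
      rw [← hQ] at hl
      have hl' : ∀ b : ℕ, h⁻¹ * c ^ b * h = c ^ (Q * b) := fun b => by
        have := conj_pow (a := h⁻¹) (b := c) (i := b)
        rw [inv_inv] at this
        rw [← this, hl, ← pow_mul]
      have hfix3 : c ^ (Q * Q * Q) = c := by
        have h0 : ∀ b : ℕ, c ^ (Fintype.card F ^ 3) ^ b = c := fun b => by
          induction b with
          | zero => simp
          | succ b ih =>
            rw [pow_succ, pow_mul, ih]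
            have h1 : Fintype.card F ^ 3 = (Fintype.card F - 1) * pts F + 1 := by
              rw [pts_mul, Nat.sub_add_cancel (Nat.one_le_pow _ _ Fintype.card_pos)]
            rw [h1, pow_succ, mul_comm _ (pts F), pow_mul, ← hord, pow_orderOf_eq_one, one_pow, one_mul]
        rw [show Q * Q * Q = (Fintype.card F ^ 3) ^ l by rw [hQ, ← pow_mul, mul_comm 3 l, pow_mul]; ring]
        exact h0 l
      have hconj3 : (h ^ 3)⁻¹ * c * h ^ 3 = c := by
        calc (h ^ 3)⁻¹ * c * h ^ 3 = h⁻¹ * (h⁻¹ * (h⁻¹ * c * h) * h) * h := by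
                simp only [pow_succ, pow_zero, one_mul, _root_.mul_inv_rev, mul_assoc]
          _ = c ^ (Q * (Q * Q)) := by rw [hl, hl' Q, hl' (Q * Q)]
          _ = c := by rw [← mul_assoc, hfix3]
      have hcns : ∀ a : F, (c : Matrix (Fin 3) (Fin 3) F) ≠ a • 1 := fun a h => by
        have hd := det_one (hN ▸ hc : c ∈ subalgebraNormalizer K ⊓ specialLinear (Fin 3) F).2
        rw [h, det_smul, Matrix.det_one, mul_one, Fintype.card_fin] at hd
        have h3 : c ^ 3 = 1 := Units.ext (by rw [Units.val_pow_eq_pow_val, h, smul_pow, one_pow, hd, one_smul, Units.val_one])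
        have := Nat.le_of_dvd (by norm_num) (hord ▸ orderOf_dvd_of_pow_eq_one h3)
        have := Fintype.one_lt_card (α := F)
        rw [pts] at *
        nlinarith
      refine mem_of_commute hK hcK hcns ?_
      rw [← Units.val_mul, ← Units.val_mul]
      refine congrArg Units.val ?_
      exact (inv_mul_eq_iff_eq_mul.1 ((mul_assoc _ _ _).symm.trans hconj3)).symm
    have hgx : (((g : GL (Fin 3) F)⁻¹ * ((x : M) : GL (Fin 3) F) * g) ^ 3 : GL (Fin 3) F) =
        (g : GL (Fin 3) F)⁻¹ * ((x : M) : GL (Fin 3) F) ^ 3 * g := by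
      have := conj_pow (a := (g : GL (Fin 3) F)⁻¹) (b := ((x : M) : GL (Fin 3) F)) (i := 3)
      rwa [inv_inv] at this
    have h1 := hcube _ (show ((g⁻¹ * (x : M) * g : M) : GL (Fin 3) F) ∈ N by
      rw [hN'] at hx; exact Subgroup.mem_subgroupOf.1 hx)
    rw [Subgroup.coe_mul, Subgroup.coe_mul, Subgroup.coe_inv, hgx, Units.val_mul, Units.val_mul] at h1
    refine hcon.2 ?_
    rw [hN', Subgroup.mem_subgroupOf, hN, Subgroup.mem_inf]
    refine ⟨inv_mem_iff.1 (mem_normalizer hK hxK hns ?_), hM g.2⟩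
    rwa [inv_inv]
  obtain ⟨X, hX⟩ : ∃ X : Finset (M ⧸ N'), X = Finset.univ.erase ((1 : M) : M ⧸ N') := ⟨_, rfl⟩
  have h := free_dvd_finset (G := D) X (fun a z => (a : M) • z) (fun a z hz => ?_) (fun z => by simp)
    (fun a b z => by simp [mul_smul]) (fun a z hz h => ?_)
  · rw [hcardD, hX, Finset.card_erase_of_mem (Finset.mem_univ _), Finset.card_univ, ← Nat.card_eq_fintype_card] at h
    exact h
  · rw [hX, Finset.mem_erase] at hz ⊢
    refine ⟨fun e => hz.1 ?_, Finset.mem_univ _⟩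
    have haN : (a : M) ∈ N' := by
      obtain ⟨i, hi⟩ := mem_powers_iff_mem_zpowers.2 ((SetLike.ext_iff.1 hD (a : M)).1 a.2)
      simp only at hi
      rw [hN', Subgroup.mem_subgroupOf, ← hi]
      exact pow_mem (pow_mem hc d) i
    rw [← inv_smul_smul (a : M) z, e]
    exact QuotientGroup.eq.2 (by simpa using haN)
  · rw [hX, Finset.mem_erase] at hz
    obtain ⟨g, rfl⟩ := QuotientGroup.mk_surjective z
    have h2 : g⁻¹ * (a : M) * g ∈ N' := by
      have h3 : (((a : M) * g : M) : M ⧸ N') = (g : M ⧸ N') := h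
      rw [mul_assoc]
      exact QuotientGroup.eq.1 h3.symm
    rcases hfix a g h2 with h4 | h4
    · exact h4
    · exact absurd (QuotientGroup.eq.2 (by simpa using h4)) hz.1

/-- groups of order prime to the characteristic -/
theorem le_of_coprime {p : ℕ} [CharP F p] (hp : p.Prime) (hK : IsFieldSubalgebra 3 K)
    (hq : Fintype.card F = 5 ∨ 7 ≤ Fintype.card F) (hNM : subalgebraNormalizer K ⊓ specialLinear (Fin 3) F ≤ M)
    (hM : M ≤ specialLinear (Fin 3) F) (hcop : ¬ p ∣ Nat.card M) :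
    M ≤ subalgebraNormalizer K ⊓ specialLinear (Fin 3) F := by
  obtain ⟨c, y, hc, hy, hord, hcK, hgen, hyc, hnorm, hfree⟩ := exists_data hK
  haveI : Fact p.Prime := ⟨hp⟩
  obtain ⟨q, hqe⟩ : ∃ q, q = Fintype.card F := ⟨_, rfl⟩
  rw [← hqe] at hyc hq
  let ψ : M →* Matrix (Fin 3) (Fin 3) F := (Units.coeHom (Matrix (Fin 3) (Fin 3) F)).comp M.subtype
  have hψ : Function.Injective ψ := fun a b h => Subtype.ext (Units.ext h)
  obtain ⟨ρ, hρ⟩ := CfsgLib.Char.LiftCoprime.exists_complex hp hcop ψ hψ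
  obtain ⟨c', hc'⟩ : ∃ c' : M, c' = ⟨c, hNM hc⟩ := ⟨_, rfl⟩
  obtain ⟨y', hy'⟩ : ∃ y' : M, y' = ⟨y, hNM hy⟩ := ⟨_, rfl⟩
  have hordc : orderOf c' = pts F := by rw [← Subgroup.orderOf_coe, hc', hord]
  have hconj : y'⁻¹ * c' * y' = c' ^ q := Subtype.ext (by rw [hy', hc']; exact hyc)
  obtain ⟨T, hT⟩ : ∃ T, T = Subgroup.zpowers c' := ⟨_, rfl⟩
  have hmemT : ∀ t ∈ T, ∃ i : ℕ, t = c' ^ i := fun t ht => by
    obtain ⟨i, hi⟩ := mem_powers_iff_mem_zpowers.2 (hT ▸ ht)
    exact ⟨i, hi.symm⟩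
  have hσv : ∀ t ∈ T, y'⁻¹ * t * y' = t ^ q := by
    intro t ht
    obtain ⟨i, rfl⟩ := hmemT t ht
    have := conj_pow (a := y'⁻¹) (b := c') (i := i)
    rw [inv_inv] at this
    rw [← this, hconj, ← pow_mul, ← pow_mul, mul_comm]
  let σ : T →* T :=
    { toFun := fun t => ⟨y'⁻¹ * t * y', by rw [hσv t t.2]; exact pow_mem t.2 q⟩
      map_one' := Subtype.ext (by simp)
      map_mul' := fun s t => Subtype.ext (by simp only [Subgroup.coe_mul]; group) }
  have hσ : ∀ t : T, σ t = t ^ q := fun t => Subtype.ext (hσv t t.2)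
  have htn : ∀ t : T, t ^ pts F = 1 := fun t => by
    obtain ⟨i, hi⟩ := hmemT t t.2
    refine Subtype.ext ?_
    rw [Subgroup.coe_pow, hi, ← pow_mul, mul_comm, pow_mul, ← hordc, pow_orderOf_eq_one, one_pow]
    rfl
  have hn3 : 3 < pts F := by
    have := Fintype.one_lt_card (α := F)
    rw [pts]
    nlinarith
  have hc3 : ((⟨c', hT ▸ Subgroup.mem_zpowers c'⟩ : T)) ^ 3 ≠ 1 := fun h => by
    have := Nat.le_of_dvd (by norm_num) (hordc ▸ orderOf_dvd_of_pow_eq_one (congrArg Subtype.val h))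
    omega
  have hq3 : q ^ 3 = (q - 1) * pts F + 1 := by
    rw [hqe, pts_mul, Nat.sub_add_cancel (Nat.one_le_pow _ _ Fintype.card_pos)]
  have hqp : pts F = q ^ 2 + q + 1 := by rw [pts, hqe]
  have hkey := centralizer_normal ρ hρ T (fun a ha b hb => by
      obtain ⟨i, rfl⟩ := hmemT a ha
      obtain ⟨j, rfl⟩ := hmemT b hb
      rw [← pow_add, ← pow_add, add_comm]) σ (y := y') (fun t => rfl)
    (fun t => by rw [hσ, hσ, ← pow_mul, ← pow_succ', ← pow_add, show q + 1 + q * q = pts F by rw [hqp]; ring, htn])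
    (fun t => by rw [hσ, hσ, hσ, ← pow_mul, ← pow_mul, show q * (q * q) = q ^ 3 by ring, hq3, pow_succ, mul_comm (q - 1), pow_mul,
      htn, one_pow, one_mul])
    ⟨_, hc3⟩ (fun χ hχ => by
      have hinj : Function.Injective χ := (injective_iff_map_eq_one χ).2 fun t ht => hχ t ht (by rw [hσ, map_pow, ht, one_pow])
      obtain ⟨t0, ht0⟩ : ∃ t0 : T, t0 = ⟨c', hT ▸ Subgroup.mem_zpowers c'⟩ := ⟨_, rfl⟩
      have hprim : IsPrimitiveRoot (χ t0) (pts F) := by
        refine IsPrimitiveRoot.iff_orderOf.2 ?_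
        rw [orderOf_injective χ hinj, ht0, ← Subgroup.orderOf_coe, hordc]
      haveI : NeZero (pts F) := ⟨by omega⟩
      obtain ⟨j, -, hj⟩ := hprim.eq_pow_of_pow_eq_one ((zeta_primitive (show pts F ≠ 0 by omega)).pow_eq_one)
      obtain ⟨a, ha⟩ : ∃ a : ℕ, a = if q = 5 then 9 else 1 := ⟨_, rfl⟩
      refine ⟨t0 ^ (j * a), ?_⟩
      simp only [hσ, ← pow_mul, map_pow]
      rw [pow_mul (χ t0) j a, hj, show j * a * q = j * (a * q) by ring, pow_mul (χ t0) j (a * q), hj,
        show j * (a * q) * q = j * (a * q * q) by ring, pow_mul (χ t0) j (a * q * q), hj]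
      rcases hq with h5 | h7
      · rw [h5] at hqp ha ⊢
        norm_num at ha hqp
        rw [hqp, ha]
        exact ⟨zeta_pow_ne (by norm_num) (by norm_num), zeta_pow_ne (by norm_num) (by norm_num),
          zeta_pow_ne (by norm_num) (by norm_num), zeta_ratio_near (by norm_num) 5 (by norm_num) (by norm_num),
          zeta_ratio_near (by norm_num) (-1) (by norm_num) (by norm_num)⟩
      · rw [if_neg (by omega)] at ha
        rw [hqp, ha, one_mul, pow_one]
        have hn0 : q ^ 2 + q + 1 ≠ 0 := Nat.succ_ne_zero _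
        have hsq : q * q < q ^ 2 + q + 1 := by nlinarith
        have hlt : q < q * q := by nlinarith
        have m1 : 1 % (q ^ 2 + q + 1) = 1 := Nat.mod_eq_of_lt (by omega)
        have m2 : q % (q ^ 2 + q + 1) = q := Nat.mod_eq_of_lt (by omega)
        have m3 : q * q % (q ^ 2 + q + 1) = q * q := Nat.mod_eq_of_lt hsq
        refine ⟨?_, ?_, ?_, ?_, ?_⟩
        · rw [← pow_one (zeta _)]; simp only [← pow_mul, one_mul]
          exact zeta_pow_ne hn0 (by rw [m1, m2]; omega)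
        · exact zeta_pow_ne hn0 (by rw [m2, m3]; omega)
        · rw [← pow_one (zeta _)]; simp only [← pow_mul, one_mul]
          exact zeta_pow_ne hn0 (by rw [m1, m3]; omega)
        · rw [← pow_one (zeta _)]; simp only [← pow_mul, one_mul]
          refine zeta_ratio_near hn0 ((q : ℤ) - 1) ⟨0, by push_cast; ring⟩ ?_
          rw [abs_of_nonneg (by omega)]
          push_cast
          nlinarith
        · rw [← pow_one (zeta _)]; simp only [← pow_mul, one_mul]
          refine zeta_ratio_near hn0 (-((q : ℤ) + 2)) ⟨1, by push_cast; ring⟩ ?_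
          rw [abs_neg, abs_of_nonneg (by omega)]
          push_cast
          nlinarith)
  intro g hg
  have h := hkey ⟨g, hg⟩ c' (fun t ht => by
    obtain ⟨i, rfl⟩ := hmemT t ht
    rw [← pow_succ', ← pow_succ]) c' (hT ▸ Subgroup.mem_zpowers c')
  have h' := congrArg (fun z : M => ((z : GL (Fin 3) F) : Matrix (Fin 3) (Fin 3) F)) h
  simp only [hc', Subgroup.coe_mul, Subgroup.coe_inv, Units.val_mul] at h'
  have hcns : ∀ a : F, (c : Matrix (Fin 3) (Fin 3) F) ≠ a • 1 := fun a h => by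
    have hd := det_one hc.2
    rw [h, det_smul, Matrix.det_one, mul_one, Fintype.card_fin] at hd
    have h3 : c ^ 3 = 1 := Units.ext (by rw [Units.val_pow_eq_pow_val, h, smul_pow, one_pow, hd, one_smul, Units.val_one])
    have := Nat.le_of_dvd (by norm_num) (hord ▸ orderOf_dvd_of_pow_eq_one h3)
    omega
  exact ⟨mem_normalizer hK hcK hcns (mem_of_commute hK hcK hcns h'), hM hg⟩

/-- cube roots of one -/
theorem card_cube_roots :
    (Finset.univ.filter fun s : F => s ^ 3 = 1).card ≤ Nat.gcd (Fintype.card F - 1) 3 := by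
  by_cases h3 : 3 ∣ Fintype.card F - 1
  · rw [Nat.gcd_eq_right h3]
    refine le_trans (Finset.card_le_card (t := (Polynomial.nthRoots 3 (1 : F)).toFinset) fun s hs => ?_)
      ((Multiset.toFinset_card_le _).trans (Polynomial.card_nthRoots 3 1))
    rw [Multiset.mem_toFinset, Polynomial.mem_nthRoots (by norm_num)]
    exact (Finset.mem_filter.1 hs).2
  · have hco := ((Nat.prime_three.coprime_iff_not_dvd).2 h3).symm
    rw [hco.gcd_eq_one, Finset.card_le_one]
    have h1 : ∀ s : F, s ^ 3 = 1 → s = 1 := fun s hs => by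
      have hs0 : s ≠ 0 := fun e => by rw [e] at hs; norm_num at hs
      rw [← pow_one s, ← hco.gcd_eq_one]
      exact pow_gcd_eq_one.2 ⟨FiniteField.pow_card_sub_one_eq_one s hs0, hs⟩
    intro a ha b hb
    rw [h1 a (Finset.mem_filter.1 ha).2, h1 b (Finset.mem_filter.1 hb).2]

/-- without transvections the order is prime to the characteristic, or the group is small -/
theorem no_tv {p f : ℕ} [CharP F p] (hp : p.Prime) (hq : Fintype.card F = p ^ f) (hf : f ≠ 0)
    (hM : M ≤ specialLinear (Fin 3) F) (hno : NoTv M) (hpM : p ∣ Nat.card M) {k n' : ℕ}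
    (hk : Nat.card M = 3 * pts F * k) (hk1 : 1 < k) (hn' : n' ∣ k - 1)
    (hcase : (¬ 3 ∣ Fintype.card F - 1 ∧ n' = pts F) ∨ (3 ∣ Fintype.card F - 1 ∧ pts F = 3 * n')) : False := by
  haveI : Fact p.Prime := ⟨hp⟩
  obtain ⟨⟨u, huM⟩, hu⟩ := exists_prime_orderOf_dvd_card' p hpM
  have hup : u ^ p = 1 := by
    have := orderOf_dvd_iff_pow_eq_one.1 (dvd_of_eq hu)
    exact congrArg Subtype.val this
  have hu1 : u ≠ 1 := fun e => hp.one_lt.ne' (by
    rw [← hu, show (⟨u, huM⟩ : M) = 1 from Subtype.ext e, orderOf_one])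
  have hp2 : p ≠ 2 := by
    rintro rfl
    haveI : CharP (Matrix (Fin 3) (Fin 3) F) 2 := matrix_charP 2
    refine (regular_data hno huM hu1 hup).2 ?_
    rw [sub_pow_char_of_commute 2 (Commute.one_right _), one_pow, ← Units.val_pow_eq_pow_val, hup, Units.val_one, sub_self]
  obtain ⟨a, b, c, hli, hua, hub, huc, hfix⟩ := exists_frame hno huM hu1 hup
  have ha0 : a ≠ 0 := hli.ne_zero 0
  -- the flag stabiliser
  have hflag : ∀ g ∈ M, (g : Matrix (Fin 3) (Fin 3) F) *ᵥ a = a →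
      ∃ r s : F, (g : Matrix (Fin 3) (Fin 3) F) *ᵥ b = r • a + s • b ∧ s ^ 3 = 1 := by
    intro g hg hga
    obtain ⟨r, s, hgb⟩ := fixes_flag hp2 hM hno huM hu1 hup hli hua hub huc hg ⟨1, by rw [hga, one_smul]⟩
    refine ⟨r, s, hgb, ?_⟩
    obtain ⟨e, f, t, hgc⟩ := exists_coeff hli ((g : Matrix (Fin 3) (Fin 3) F) *ᵥ c)
    have hst : s * t = 1 := by rw [← det_frame hli hga hgb hgc, det_one (hM hg)]
    have hs0 : s ≠ 0 := left_ne_zero_of_mul_eq_one hst
    obtain ⟨x, hx⟩ : ∃ x, x = g * u * g⁻¹ := ⟨_, rfl⟩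
    have hxM : x ∈ M := hx ▸ M.mul_mem (M.mul_mem hg huM) (M.inv_mem hg)
    have hgia : ((g⁻¹ : GL (Fin 3) F) : Matrix (Fin 3) (Fin 3) F) *ᵥ a = a := by
      conv_lhs => rw [← hga, gl_inv_mulVec]
    have hxa : (x : Matrix (Fin 3) (Fin 3) F) *ᵥ a = a := by rw [hx, gl_mul_mulVec, gl_mul_mulVec, hgia, hua, hga]
    have hgib : ((g⁻¹ : GL (Fin 3) F) : Matrix (Fin 3) (Fin 3) F) *ᵥ b = s⁻¹ • b - (s⁻¹ * r) • a := by
      have h1 := congrArg (fun v => ((g⁻¹ : GL (Fin 3) F) : Matrix (Fin 3) (Fin 3) F) *ᵥ v) hgb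
      simp only [gl_inv_mulVec, mulVec_add, mulVec_smul, hgia] at h1
      refine smul_right_injective (Fin 3 → F) hs0 ?_
      show s • _ = s • _
      rw [smul_sub, smul_smul, smul_smul, ← mul_assoc, mul_inv_cancel₀ hs0, one_smul, one_mul]
      linear_combination (norm := module) -h1
    have hxb : (x : Matrix (Fin 3) (Fin 3) F) *ᵥ b = b + s⁻¹ • a := by
      rw [hx, gl_mul_mulVec, gl_mul_mulVec, hgib, mulVec_sub, mulVec_smul, mulVec_smul, hua, hub, mulVec_sub,
        mulVec_smul, mulVec_smul, mulVec_add, hgb, hga, smul_add, smul_add, smul_smul, smul_smul, inv_mul_cancel₀ hs0]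
      module
    have hcomm : x * u = u * x := by
      rw [← inv_mul_eq_one]
      have hbb : ((x * u : GL (Fin 3) F) : Matrix (Fin 3) (Fin 3) F) *ᵥ b =
          ((u * x : GL (Fin 3) F) : Matrix (Fin 3) (Fin 3) F) *ᵥ b := by
        rw [gl_mul_mulVec, gl_mul_mulVec, hub, hxb, mulVec_add, mulVec_add, mulVec_smul, hxb, hxa, hua, hub]
        abel
      have haa : ((x * u : GL (Fin 3) F) : Matrix (Fin 3) (Fin 3) F) *ᵥ a =
          ((u * x : GL (Fin 3) F) : Matrix (Fin 3) (Fin 3) F) *ᵥ a := by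
        rw [gl_mul_mulVec, gl_mul_mulVec, hua, hxa, hua]
      obtain ⟨z, hz⟩ : ∃ z, z = (x * u)⁻¹ * (u * x) := ⟨_, rfl⟩
      rw [← hz]
      have hzM : z ∈ M := hz ▸ M.mul_mem (M.inv_mem (M.mul_mem hxM huM)) (M.mul_mem huM hxM)
      have hza : (z : Matrix (Fin 3) (Fin 3) F) *ᵥ a = a := by rw [hz, gl_mul_mulVec, ← haa, gl_inv_mulVec]
      have hzb : (z : Matrix (Fin 3) (Fin 3) F) *ᵥ b = b := by rw [hz, gl_mul_mulVec, ← hbb, gl_inv_mulVec]
      obtain ⟨z0, z1, z2, hzc⟩ := exists_coeff hli ((z : Matrix (Fin 3) (Fin 3) F) *ᵥ c)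
      have hz2 : z2 = 1 := by
        have := det_frame (r := 0) (s := 1) hli hza (by rw [hzb]; module) hzc
        rw [det_one (hM hzM), one_mul] at this
        exact this.symm
      rw [hz2, one_smul] at hzc
      -- a functional reading the last coordinate
      let B : Module.Basis (Fin 3) F (Fin 3 → F) := basisOfLinearIndependentOfCardEqFinrank hli (by simp)
      have hB : ∀ i, B i = ![a, b, c] i := fun i => by simp [B]
      have hL : ∀ v : Fin 3 → F, fvec (B.coord 2) ⬝ᵥ v = B.repr v 2 := fun v => fvec_dot (B.coord 2) v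
      have hact : ∀ v, (z : Matrix (Fin 3) (Fin 3) F) *ᵥ v = v + (fvec (B.coord 2) ⬝ᵥ v) • (z0 • a + z1 • b) := by
        intro v
        obtain ⟨v0, v1, v2, rfl⟩ := exists_coeff hli v
        rw [hL, mulVec_add, mulVec_add, mulVec_smul, mulVec_smul, mulVec_smul, hza, hzb, hzc,
          show B.repr (v0 • a + v1 • b + v2 • c) 2 = v2 by
            rw [map_add, map_add, map_smul, map_smul, map_smul, show a = B 0 from (hB 0).symm,
              show b = B 1 from (hB 1).symm, show c = B 2 from (hB 2).symm, B.repr_self, B.repr_self, B.repr_self]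
            simp]
        module
      have h0 : fvec (B.coord 2) ⬝ᵥ (z0 • a + z1 • b) = 0 := by
        rw [hL, map_add, map_smul, map_smul, show a = B 0 from (hB 0).symm, show b = B 1 from (hB 1).symm,
          B.repr_self, B.repr_self]
        simp
      have hzt : tv _ _ h0 = z := gl_ext_vec fun v => by rw [tv_mulVec, hact]
      rcases hno _ _ ⟨h0, by rw [hzt]; exact hzM⟩ with e | e
      · exact gl_ext_vec fun v => by rw [hact, e, smul_zero, add_zero, Units.val_one, one_mulVec]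
      · exact gl_ext_vec fun v => by rw [hact, e, zero_dotProduct, zero_smul, add_zero, Units.val_one, one_mulVec]
    -- compare on the image of `c`
    have h1 := congrArg (fun A : GL (Fin 3) F => (A : Matrix (Fin 3) (Fin 3) F) *ᵥ ((g : Matrix (Fin 3) (Fin 3) F) *ᵥ c)) hcomm
    simp only [gl_mul_mulVec] at h1
    have hxgc : (x : Matrix (Fin 3) (Fin 3) F) *ᵥ ((g : Matrix (Fin 3) (Fin 3) F) *ᵥ c) =
        (g : Matrix (Fin 3) (Fin 3) F) *ᵥ c + (r • a + s • b) := by
      rw [hx, gl_mul_mulVec, gl_mul_mulVec, gl_inv_mulVec, huc, mulVec_add, hgb]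
    have hugc : (u : Matrix (Fin 3) (Fin 3) F) *ᵥ ((g : Matrix (Fin 3) (Fin 3) F) *ᵥ c) =
        (g : Matrix (Fin 3) (Fin 3) F) *ᵥ c + (f • a + t • b) := by
      rw [hgc, mulVec_add, mulVec_add, mulVec_smul, mulVec_smul, mulVec_smul, hua, hub, huc]
      module
    rw [hugc, mulVec_add, hxgc, mulVec_add (u : Matrix (Fin 3) (Fin 3) F), hugc, mulVec_add, mulVec_add, mulVec_smul,
      mulVec_smul, mulVec_smul, mulVec_smul, hxa, hxb, hua, hub] at h1
    have h2 : (t * s⁻¹ - s) • a = 0 := by linear_combination (norm := module) h1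
    have hts : t * s⁻¹ = s := sub_eq_zero.1 ((smul_eq_zero.1 h2).resolve_right ha0)
    have ht : t = s * s := (mul_inv_eq_iff_eq_mul₀ hs0).1 hts
    rw [pow_succ, pow_two, mul_assoc, ← ht, hst]
  -- the unipotent part
  let U : Subgroup (GL (Fin 3) F) :=
    { carrier := {g | g ∈ M ∧ (g : Matrix (Fin 3) (Fin 3) F) *ᵥ a = a ∧ ∃ r : F, (g : Matrix (Fin 3) (Fin 3) F) *ᵥ b = r • a + b}
      one_mem' := ⟨M.one_mem, by simp, 0, by simp⟩
      mul_mem' := fun {g h} hg hh => ⟨M.mul_mem hg.1 hh.1, by rw [gl_mul_mulVec, hh.2.1, hg.2.1], by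
        obtain ⟨r, hr⟩ := hg.2.2
        obtain ⟨r', hr'⟩ := hh.2.2
        exact ⟨r' + r, by rw [gl_mul_mulVec, hr', mulVec_add, mulVec_smul, hg.2.1, hr, add_smul, add_assoc]⟩⟩
      inv_mem' := fun {g} hg => ⟨M.inv_mem hg.1, by conv_lhs => rw [← hg.2.1, gl_inv_mulVec], by
        obtain ⟨r, hr⟩ := hg.2.2
        refine ⟨-r, ?_⟩
        have h1 := congrArg (fun v => ((g⁻¹ : GL (Fin 3) F) : Matrix (Fin 3) (Fin 3) F) *ᵥ v) hr
        simp only [gl_inv_mulVec, mulVec_add, mulVec_smul] at h1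
        rw [show ((g⁻¹ : GL (Fin 3) F) : Matrix (Fin 3) (Fin 3) F) *ᵥ a = a by conv_lhs => rw [← hg.2.1, gl_inv_mulVec]] at h1
        linear_combination (norm := module) -h1⟩ }
  choose rr hrr using fun g : U => g.2.2.2
  let R : U →* Multiplicative F :=
    { toFun := fun g => Multiplicative.ofAdd (rr g)
      map_one' := by
        have h := hrr 1
        rw [Subgroup.coe_one, Units.val_one, one_mulVec, right_eq_add, smul_eq_zero] at h
        rw [h.resolve_right ha0]
        rfl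
      map_mul' := fun g h => by
        have e := hrr (g * h)
        rw [Subgroup.coe_mul, gl_mul_mulVec, hrr h, mulVec_add, mulVec_smul, g.2.2.1, hrr g, ← add_assoc,
          ← add_smul, add_left_inj] at e
        rw [← smul_left_injective F ha0 e, add_comm]
        rfl }
  have hR : Function.Injective R := (injective_iff_map_eq_one R).2 fun g hg => by
    have hr0 : rr g = 0 := hg
    have hb := hrr g
    rw [hr0, zero_smul, zero_add] at hb
    obtain ⟨z0, z1, z2, hzc⟩ := exists_coeff hli (((g : GL (Fin 3) F) : Matrix (Fin 3) (Fin 3) F) *ᵥ c)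
    have hz2 : z2 = 1 := by
      have := det_frame (r := 0) (s := 1) hli g.2.2.1 (by rw [hb]; module) hzc
      rw [det_one (hM g.2.1), one_mul] at this
      exact this.symm
    rw [hz2, one_smul] at hzc
    let B : Module.Basis (Fin 3) F (Fin 3 → F) := basisOfLinearIndependentOfCardEqFinrank hli (by simp)
    have hB : ∀ i, B i = ![a, b, c] i := fun i => by simp [B]
    have hact : ∀ v, ((g : GL (Fin 3) F) : Matrix (Fin 3) (Fin 3) F) *ᵥ v = v + (fvec (B.coord 2) ⬝ᵥ v) • (z0 • a + z1 • b) := by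
      intro v
      obtain ⟨v0, v1, v2, rfl⟩ := exists_coeff hli v
      rw [fvec_dot, B.coord_apply, mulVec_add, mulVec_add, mulVec_smul, mulVec_smul, mulVec_smul, g.2.2.1, hb, hzc,
        show B.repr (v0 • a + v1 • b + v2 • c) 2 = v2 by
          rw [map_add, map_add, map_smul, map_smul, map_smul, show a = B 0 from (hB 0).symm,
            show b = B 1 from (hB 1).symm, show c = B 2 from (hB 2).symm, B.repr_self, B.repr_self, B.repr_self]
          simp]
      module
    have h0 : fvec (B.coord 2) ⬝ᵥ (z0 • a + z1 • b) = 0 := by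
      rw [fvec_dot, B.coord_apply, map_add, map_smul, map_smul, show a = B 0 from (hB 0).symm,
        show b = B 1 from (hB 1).symm, B.repr_self, B.repr_self]
      simp
    have hzt : tv _ _ h0 = (g : GL (Fin 3) F) := gl_ext_vec fun v => by rw [tv_mulVec, hact]
    refine Subtype.ext ?_
    rcases hno _ _ ⟨h0, by rw [hzt]; exact g.2.1⟩ with e | e
    · exact gl_ext_vec fun v => by rw [hact, e, smul_zero, add_zero, Subgroup.coe_one, Units.val_one, one_mulVec]
    · exact gl_ext_vec fun v => by rw [hact, e, zero_dotProduct, zero_smul, add_zero, Subgroup.coe_one, Units.val_one, one_mulVec]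
  have hUq : Nat.card U ∣ Fintype.card F := by
    have := Subgroup.card_dvd_of_injective R hR
    rwa [Nat.card_eq_fintype_card (α := Multiplicative F), Fintype.card_multiplicative] at this
  have hUM : Nat.card U ∣ Nat.card M := Subgroup.card_dvd_of_le fun g hg => hg.1
  have hUp : p ∣ Nat.card U := by
    have hmem : u ∈ U := ⟨huM, hua, 1, by rw [hub, one_smul, add_comm]⟩
    have h := orderOf_dvd_natCard (⟨u, hmem⟩ : U)
    rw [Subgroup.orderOf_mk] at h
    rwa [← hu, Subgroup.orderOf_mk]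
  -- the bound
  have hbound : Nat.card M ≤ (Fintype.card F ^ 3 - 1) * (Nat.card U * Nat.gcd (Fintype.card F - 1) 3) := by
    rw [← card_vec_ne]
    refine orbit_bound M a _ (fun g hg => Finset.mem_filter.2 ⟨Finset.mem_univ _, fun e => ha0 (gl_mulVec_eq_zero.1 e)⟩) _
      fun T hT => ?_
    choose! r s hrs using fun g (hg : g ∈ T) => hflag g (hT g hg).1 (hT g hg).2
    refine le_trans (Finset.card_le_mul_card_image (f := s) T (Nat.card U) fun x hx => ?_)
      (Nat.mul_le_mul_left _ (le_trans (Finset.card_le_card fun x hx => ?_) (card_cube_roots (F := F))))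
    · obtain ⟨g0, hg0, rfl⟩ := Finset.mem_image.1 hx
      rw [← Fintype.card_coe, ← Nat.card_eq_fintype_card]
      refine Nat.card_le_card_of_injective (fun g => (⟨g0⁻¹ * g.1, ?_⟩ : U))
        fun x y e => Subtype.ext (mul_left_cancel (congrArg Subtype.val e))
      obtain ⟨hgT, hs⟩ := Finset.mem_filter.1 g.2
      have hg0a : ((g0⁻¹ : GL (Fin 3) F) : Matrix (Fin 3) (Fin 3) F) *ᵥ a = a := by
        conv_lhs => rw [← (hT g0 hg0).2, gl_inv_mulVec]
      refine ⟨M.mul_mem (M.inv_mem (hT g0 hg0).1) (hT _ hgT).1, by rw [gl_mul_mulVec, (hT _ hgT).2, hg0a], r g.1 - r g0, ?_⟩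
      rw [gl_mul_mulVec, (hrs _ hgT).1, hs,
        show r g.1 • a + s g0 • b = (r g.1 - r g0) • a + (g0 : Matrix (Fin 3) (Fin 3) F) *ᵥ b by rw [(hrs g0 hg0).1]; module,
        mulVec_add, mulVec_smul, hg0a, gl_inv_mulVec]
    · obtain ⟨g, hg, rfl⟩ := Finset.mem_image.1 hx
      exact Finset.mem_filter.2 ⟨Finset.mem_univ _, (hrs g hg).2⟩
  obtain ⟨Q, hQ⟩ : ∃ Q, Q = Fintype.card F := ⟨_, rfl⟩
  rw [hk, ← pts_mul, ← hQ] at hbound
  rw [← hQ] at hUq hcase hq
  have hpts : pts F = Q ^ 2 + Q + 1 := by rw [pts, hQ]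
  have h1 : pts F * (3 * k) ≤ pts F * ((Q - 1) * (Nat.card U * Nat.gcd (Q - 1) 3)) := by
    calc pts F * (3 * k) = 3 * pts F * k := by ring
      _ ≤ _ := hbound
      _ = _ := by ring
  replace h1 := Nat.le_of_mul_le_mul_left h1 (Nat.succ_pos _)
  have hQ2 : 2 ≤ Q := hQ ▸ Fintype.one_lt_card
  have hUle : Nat.card U ≤ Q := Nat.le_of_dvd (by omega) hUq
  obtain ⟨j, hj⟩ := hn'
  have hj0 : j ≠ 0 := fun e => by rw [e, mul_zero] at hj; omega
  rcases hcase with ⟨h3, rfl⟩ | ⟨h3, hn⟩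
  · rw [((Nat.prime_three.coprime_iff_not_dvd).2 h3).symm.gcd_eq_one, mul_one] at h1
    have h2 : (Q - 1) * Nat.card U ≤ Q * Q := Nat.mul_le_mul (Nat.sub_le Q 1) hUle
    have h4 : pts F ≤ k - 1 := hj ▸ Nat.le_mul_of_pos_right _ (Nat.pos_of_ne_zero hj0)
    rw [hpts, pow_two] at h4
    omega
  · rw [Nat.gcd_eq_right h3] at h1
    have h2 : k ≤ (Q - 1) * Nat.card U := by
      have : 3 * k ≤ 3 * ((Q - 1) * Nat.card U) := h1.trans_eq (by ring)
      omega
    have hp3 : p ≠ 3 := by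
      rintro rfl
      have h5 : 3 ∣ Q := hq ▸ dvd_pow_self 3 hf
      omega
    have hpn : Nat.Coprime Q (3 * pts F) := by
      rw [hq]
      refine Nat.Coprime.pow_left _ ((hp.coprime_iff_not_dvd).2 fun hd => ?_)
      rcases hp.dvd_mul.1 hd with h | h
      · exact hp3 ((Nat.prime_dvd_prime_iff_eq hp Nat.prime_three).1 h)
      · rw [hpts] at h
        have h5 : p ∣ Q ^ 2 + Q := dvd_add (dvd_pow (hq ▸ dvd_pow_self p hf) two_ne_zero) (hq ▸ dvd_pow_self p hf)
        exact hp.not_dvd_one ((Nat.dvd_add_right h5).1 h)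
    have hUk : Nat.card U ∣ k := by
      refine (Nat.Coprime.coprime_dvd_left hUq hpn).dvd_of_dvd_mul_left ?_
      rw [← hk]; exact hUM
    have hjlt : j < 3 := by
      by_contra hge
      have h6 : pts F ≤ n' * j := by rw [hn, mul_comm]; exact Nat.mul_le_mul_left _ (by omega)
      rw [← hj, hpts] at h6
      have h7 : (Q - 1) * Nat.card U ≤ Q * Q := Nat.mul_le_mul (Nat.sub_le Q 1) hUle
      rw [pow_two] at h6
      omega
    have hUQ : ∀ e m, 3 * k = Q * e + m → Nat.card U ∣ m := fun e m he =>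
      (Nat.dvd_add_right (hUq.mul_right e)).1 (he ▸ hUk.mul_left 3)
    interval_cases j
    · omega
    · -- one step: the prime divides four
      have h4 := hUQ (Q + 1) 4 (by rw [show k = n' + 1 by omega, mul_add, ← hn, hpts]; ring)
      have := Nat.le_of_dvd (by norm_num) (hUp.trans h4)
      have h2p := hp.two_le
      interval_cases p
      · exact hp2 rfl
      · exact hp3 rfl
      · exact absurd hp (by norm_num)
    · -- two steps: it is five
      have h5 := hUQ (2 * Q + 2) 5 (by rw [show k = 2 * n' + 1 by omega, mul_add, mul_left_comm, ← hn, hpts]; ring)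
      have hU5 := Nat.le_of_dvd (by norm_num) h5
      have hp5 : p = 5 := (Nat.prime_dvd_prime_iff_eq hp (by norm_num)).1 (hUp.trans h5)
      have hQ5 : 5 ≤ Q := Nat.le_of_dvd (by omega) (hq ▸ hp5 ▸ dvd_pow_self p hf)
      have h7 : k ≤ (Q - 1) * 5 := h2.trans (Nat.mul_le_mul_left _ hU5)
      have h8 : 3 * k = 2 * (Q ^ 2 + Q + 1) + 3 := by rw [← hpts, hn, show k = 2 * n' + 1 by omega]; ring
      obtain ⟨w, rfl⟩ : ∃ w, Q = w + 5 := ⟨Q - 5, by omega⟩
      rw [show w + 5 - 1 = w + 4 by omega] at h7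
      nlinarith

/-- normalisers of Singer cycles are maximal -/
theorem singer_maximal (h4 : Fintype.card F ≠ 4) (hK : IsFieldSubalgebra 3 K) :
    IsMaximalIn (specialLinear (Fin 3) F) (subalgebraNormalizer K ⊓ specialLinear (Fin 3) F) := by
  refine ⟨lt_SL_of_not_le (not_le_subalgebraNormalizer le_rfl Nat.prime_three hK), fun M hNM hM => ?_⟩
  by_cases hMN : M = subalgebraNormalizer K ⊓ specialLinear (Fin 3) F
  · exact Or.inl hMN
  refine Or.inr (eq_SL_of_fullSub hM ?_)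
  obtain ⟨n', hn3, hd, hd3, hcase⟩ : ∃ n', ¬ 3 ∣ n' ∧ n' ∣ pts F ∧ pts F ∣ 3 * n' ∧
      ((¬ 3 ∣ Fintype.card F - 1 ∧ n' = pts F) ∨ (3 ∣ Fintype.card F - 1 ∧ pts F = 3 * n')) := by
    rcases pts_split (F := F) with ⟨a, b⟩ | ⟨a, n', e, b⟩
    · exact ⟨_, b, dvd_rfl, dvd_mul_left _ _, Or.inl ⟨a, rfl⟩⟩
    · exact ⟨n', b, e ▸ dvd_mul_left _ _, e ▸ dvd_rfl, Or.inr ⟨a, e⟩⟩
  obtain ⟨k, hk, hkd, hk0, hk1⟩ := index_congr hK hNM hM hn3 hd hd3
  replace hk1 := hk1 hMN
  obtain ⟨p, hchar⟩ := CharP.exists F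
  obtain ⟨⟨f, hf⟩, hp, hq⟩ := FiniteField.card F p
  rw [PNat.mk_coe] at hq
  haveI : Fact p.Prime := ⟨hp⟩
  by_cases hno : NoTv M
  · exfalso
    by_cases hpM : p ∣ Nat.card M
    · exact no_tv hp hq hf.ne' hM hno hpM hk hk1 hkd hcase
    by_cases h7 : Fintype.card F = 5 ∨ 7 ≤ Fintype.card F
    · exact hMN (le_antisymm (le_of_coprime hp hK h7 hNM hM hpM) hNM)
    have hq2 : Fintype.card F = 2 := by
      have h2 := Fintype.one_lt_card (α := F)
      have hne : Fintype.card F ≠ 6 := fun e => by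
        have h : p ∣ 6 := e ▸ hq ▸ dvd_pow_self p hf.ne'
        have e2 := (Nat.prime_dvd_prime_iff_eq Nat.prime_two hp).1 (Nat.prime_two.dvd_of_dvd_pow (hq ▸ e ▸ (by norm_num : 2 ∣ 6) : 2 ∣ p ^ f))
        have e3 := (Nat.prime_dvd_prime_iff_eq Nat.prime_three hp).1 (Nat.prime_three.dvd_of_dvd_pow (hq ▸ e ▸ (by norm_num : 3 ∣ 6) : 3 ∣ p ^ f))
        omega
      have hne3 : Fintype.card F ≠ 3 := fun e => by
        have h : p ∣ 3 := e ▸ hq ▸ dvd_pow_self p hf.ne'
        rw [(Nat.prime_dvd_prime_iff_eq hp Nat.prime_three).1 h, hk] at hpM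
        exact hpM (dvd_mul_of_dvd_left (dvd_mul_right _ _) _)
      omega
    have hp2 : p = 2 := (Nat.prime_dvd_prime_iff_eq hp Nat.prime_two).1 (hq2 ▸ hq ▸ dvd_pow_self p hf.ne')
    have h168 : Nat.card (GL (Fin 3) F) = 168 := by
      rw [Matrix.card_GL_field, Fin.prod_univ_three, hq2]
      rfl
    have hdvd := Subgroup.card_subgroup_dvd_card M
    rw [h168, hk, pts, hq2, show (168 : ℕ) = 3 * (2 ^ 2 + 2 + 1) * 8 from rfl] at hdvd
    have hk8 : k ∣ 8 := Nat.dvd_of_mul_dvd_mul_left (by norm_num) hdvd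
    have hodd : ¬ 2 ∣ k := fun h => hpM (by rw [hp2, hk]; exact dvd_mul_of_dvd_right h _)
    have hle := Nat.le_of_dvd (by norm_num) hk8
    interval_cases k <;> first | (norm_num at hk8; done) | (norm_num at hodd; done)
  simp only [NoTv, not_forall, not_or] at hno
  obtain ⟨w, ψ, hh, hw, hψ⟩ := hno
  obtain ⟨c, y, hc, hy, hord, hcK, hgen, hyc, hnorm, hfree⟩ := exists_data hK
  have hC : FreeSub M := ⟨Subgroup.zpowers c, (Subgroup.zpowers_le.2 (hNM hc)), by rw [Nat.card_zpowers, hord],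
    fun g hg v hv hgv => by
      obtain ⟨i, rfl⟩ := mem_powers_iff_mem_zpowers.2 hg
      exact hfree i v hv hgv⟩
  refine fullSub_of_free h4 hM hC ?_ hw hψ hh
  rw [hk]
  refine Nat.mul_le_mul_left _ ?_
  obtain ⟨j, hj⟩ := hkd
  have hj0 : j ≠ 0 := fun e => by rw [e, mul_zero] at hj; omega
  have := Nat.le_mul_of_pos_right n' (Nat.pos_of_ne_zero hj0)
  rcases hcase with ⟨-, e⟩ | ⟨-, e⟩ <;> omega

end CfsgLib.Perm.Trans.ThreeDim.Singer
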